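import Mathlib
import Cfsg.Prelude.Def_FischerSpaces

/-! No isometry of order eleven in non-degenerate quadratic spaces of dimension six or seven over three
elements: the fixed vectors cannot have the numbers of values forced by the counting identity. -/

set_option autoImplicit false

namespace CfsgLib.ThreeTrans.Tower.Eleven

open Matrix

variable {n : ℕ} (Q : QuadraticForm (ZMod 3) (Fin n → ZMod 3))

/-- The number of vectors of a given value. -/
def cnt (c : ZMod 3) : ℕ := (Finset.univ.filter fun v : Fin n → ZMod 3 => Q v = c).card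

theorem cnt_sum : cnt Q 0 + cnt Q 1 + cnt Q 2 = 3 ^ n := by
  have h : Finset.card (Finset.univ : Finset (Fin n → (ZMod 3))) = ∑ c : (ZMod 3), cnt Q c :=
    Finset.card_eq_sum_card_fiberwise fun v _ => Finset.mem_coe.2 (Finset.mem_univ (Q v))
  rw [Finset.card_univ, Fintype.card_fun, ZMod.card, Fintype.card_fin] at h
  rw [h]
  exact (Fin.sum_univ_three (fun c : (ZMod 3) => cnt Q c)).symm

/-- The counting identity. -/
theorem cnt_identity (hQ : (QuadraticMap.polarBilin Q).Nondegenerate) :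
    cnt Q 0 * cnt Q 0 + cnt Q 1 * cnt Q 1 + cnt Q 2 * cnt Q 2 =
      3 ^ n + (cnt Q 0 * cnt Q 1 + cnt Q 1 * cnt Q 2 + cnt Q 2 * cnt Q 0) := by
  classical
  let P : (ZMod 3) → ℕ := fun c => ∑ h : Fin n → (ZMod 3), ∑ v : Fin n → (ZMod 3), if Q (v + h) - Q v = c then 1 else 0
  have hP : ∀ c, P c = ∑ a : (ZMod 3), cnt Q a * cnt Q (c + a) := by
    intro c
    have e1 : ∀ v : Fin n → (ZMod 3), (∑ h : Fin n → (ZMod 3), if Q (v + h) - Q v = c then 1 else 0) = cnt Q (c + Q v) := by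
      intro v
      rw [cnt, Finset.card_filter]
      refine (Equiv.sum_comp (Equiv.addLeft v) (fun u => if Q u - Q v = c then 1 else 0)).trans ?_
      exact Finset.sum_congr rfl fun u _ => by simp only [sub_eq_iff_eq_add]
    show (∑ h : Fin n → (ZMod 3), ∑ v : Fin n → (ZMod 3), _) = _
    rw [Finset.sum_comm, Finset.sum_congr rfl fun v _ => e1 v,
      ← Finset.sum_fiberwise Finset.univ (fun v : Fin n → (ZMod 3) => Q v)]
    refine Finset.sum_congr rfl fun a _ => ?_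
    rw [Finset.sum_congr rfl fun v hv => congrArg (fun t => cnt Q (c + t)) (Finset.mem_filter.1 hv).2,
      Finset.sum_const, smul_eq_mul]
    rfl
  -- the fibres of a non-zero functional are equal
  have hfib : ∀ h : Fin n → (ZMod 3), h ≠ 0 → (∑ v : Fin n → (ZMod 3), if Q (v + h) - Q v = 0 then 1 else 0) =
      ∑ v : Fin n → (ZMod 3), if Q (v + h) - Q v = 1 then 1 else 0 := by
    intro h hh
    obtain ⟨y, hy⟩ : ∃ y, QuadraticMap.polar Q h y ≠ 0 := by
      by_contra! hall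
      exact hh (hQ.1 h hall)
    obtain ⟨t, ht⟩ : ∃ t : (ZMod 3), QuadraticMap.polar Q (t • y) h = 1 := by
      refine ⟨(QuadraticMap.polar Q h y)⁻¹, ?_⟩
      rw [QuadraticMap.polar_smul_left, smul_eq_mul, QuadraticMap.polar_comm _ y h]
      exact inv_mul_cancel₀ hy
    rw [← Equiv.sum_comp (Equiv.addRight (t • y)) (fun v => if Q (v + h) - Q v = 1 then 1 else 0)]
    refine Finset.sum_congr rfl fun v _ => ?_
    have e : Q (v + t • y + h) - Q (v + t • y) = Q (v + h) - Q v + 1 := by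
      rw [QuadraticMap.map_add Q (v + t • y) h, QuadraticMap.map_add Q v h, QuadraticMap.polar_add_left, ht]
      ring
    simp only [Equiv.coe_addRight, e]
    exact if_congr ⟨fun h => by linear_combination h, fun h => by linear_combination h⟩ rfl rfl
  have hdiff : P 0 = 3 ^ n + P 1 := by
    simp only [P]
    rw [← Finset.add_sum_erase _ _ (Finset.mem_univ (0 : Fin n → (ZMod 3))),
      ← Finset.add_sum_erase (f := fun h => ∑ v : Fin n → (ZMod 3), if Q (v + h) - Q v = 1 then 1 else 0) _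
        (Finset.mem_univ (0 : Fin n → (ZMod 3))), Finset.sum_congr rfl fun h hh => hfib h (Finset.ne_of_mem_erase hh)]
    simp
  have hsum : ∀ f : (ZMod 3) → ℕ, (∑ a : (ZMod 3), f a) = f 0 + f 1 + f 2 := fun f => Fin.sum_univ_three f
  rw [hP, hP, hsum, hsum] at hdiff
  simp only [zero_add, show (1 : (ZMod 3)) + 0 = 1 from rfl, show (1 : (ZMod 3)) + 1 = 2 from rfl,
    show (1 : (ZMod 3)) + 2 = 0 from rfl] at hdiff
  exact hdiff

/-- No two squares-and-product solution has small residues modulo eleven. -/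
theorem table_six : ∀ a : Fin 37, ∀ b : Fin 37,
    ((a : ℤ) - 18) * ((a : ℤ) - 18) + ((a : ℤ) - 18) * ((b : ℤ) - 18) + ((b : ℤ) - 18) * ((b : ℤ) - 18) = 243 →
      3 < (((a : ℤ) + 225) % 11) + (((b : ℤ) + 225) % 11) + ((279 - (a : ℤ) - (b : ℤ)) % 11) := by
  decide +kernel

theorem table_seven : ∀ a : Fin 63, ∀ b : Fin 63,
    ((a : ℤ) - 31) * ((a : ℤ) - 31) + ((a : ℤ) - 31) * ((b : ℤ) - 31) + ((b : ℤ) - 31) * ((b : ℤ) - 31) = 729 →
      9 < (((a : ℤ) + 698) % 11) + (((b : ℤ) + 698) % 11) + ((791 - (a : ℤ) - (b : ℤ)) % 11) := by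
  decide +kernel

theorem numbers_six {N₀ N₁ N₂ x₀ x₁ x₂ : ℕ} (hs : N₀ + N₁ + N₂ = 729)
    (hid : N₀ * N₀ + N₁ * N₁ + N₂ * N₂ = 729 + (N₀ * N₁ + N₁ * N₂ + N₂ * N₀)) (hx : x₀ + x₁ + x₂ = 3)
    (h0 : N₀ % 11 = x₀ % 11) (h1 : N₁ % 11 = x₁ % 11) (h2 : N₂ % 11 = x₂ % 11) : False := by
  have hab : ((N₀ : ℤ) - 243) * ((N₀ : ℤ) - 243) + ((N₀ : ℤ) - 243) * ((N₁ : ℤ) - 243) +
      ((N₁ : ℤ) - 243) * ((N₁ : ℤ) - 243) = 243 := by
    have h : (N₂ : ℤ) = 729 - N₀ - N₁ := by omega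
    have e : (N₀ : ℤ) * N₀ + N₁ * N₁ + N₂ * N₂ = 729 + (N₀ * N₁ + N₁ * N₂ + N₂ * N₀) := by exact_mod_cast hid
    rw [h] at e
    linarith
  obtain ⟨a, ha, ha'⟩ : ∃ a : ℕ, (N₀ : ℤ) = a + 225 ∧ a < 37 := ⟨N₀ - 225, by
    have : -18 ≤ (N₀ : ℤ) - 243 ∧ (N₀ : ℤ) - 243 ≤ 18 := ⟨by nlinarith [sq_nonneg ((N₀ : ℤ) - 243 + 2 * ((N₁ : ℤ) - 243))],
      by nlinarith [sq_nonneg ((N₀ : ℤ) - 243 + 2 * ((N₁ : ℤ) - 243))]⟩
    omega⟩
  obtain ⟨b, hb, hb'⟩ : ∃ b : ℕ, (N₁ : ℤ) = b + 225 ∧ b < 37 := ⟨N₁ - 225, by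
    have : -18 ≤ (N₁ : ℤ) - 243 ∧ (N₁ : ℤ) - 243 ≤ 18 := ⟨by nlinarith [sq_nonneg (2 * ((N₀ : ℤ) - 243) + ((N₁ : ℤ) - 243))],
      by nlinarith [sq_nonneg (2 * ((N₀ : ℤ) - 243) + ((N₁ : ℤ) - 243))]⟩
    omega⟩
  have := table_six ⟨a, ha'⟩ ⟨b, hb'⟩ (by simp only; rw [ha, hb] at hab; linarith)
  simp only at this
  omega

theorem numbers_seven {N₀ N₁ N₂ x₀ x₁ x₂ : ℕ} (hs : N₀ + N₁ + N₂ = 2187)
    (hid : N₀ * N₀ + N₁ * N₁ + N₂ * N₂ = 2187 + (N₀ * N₁ + N₁ * N₂ + N₂ * N₀)) (hx : x₀ + x₁ + x₂ = 9)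
    (h0 : N₀ % 11 = x₀ % 11) (h1 : N₁ % 11 = x₁ % 11) (h2 : N₂ % 11 = x₂ % 11) : False := by
  have hab : ((N₀ : ℤ) - 729) * ((N₀ : ℤ) - 729) + ((N₀ : ℤ) - 729) * ((N₁ : ℤ) - 729) +
      ((N₁ : ℤ) - 729) * ((N₁ : ℤ) - 729) = 729 := by
    have h : (N₂ : ℤ) = 2187 - N₀ - N₁ := by omega
    have e : (N₀ : ℤ) * N₀ + N₁ * N₁ + N₂ * N₂ = 2187 + (N₀ * N₁ + N₁ * N₂ + N₂ * N₀) := by exact_mod_cast hid
    rw [h] at e
    linarith
  obtain ⟨a, ha, ha'⟩ : ∃ a : ℕ, (N₀ : ℤ) = a + 698 ∧ a < 63 := ⟨N₀ - 698, by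
    have : -31 ≤ (N₀ : ℤ) - 729 ∧ (N₀ : ℤ) - 729 ≤ 31 := ⟨by nlinarith [sq_nonneg ((N₀ : ℤ) - 729 + 2 * ((N₁ : ℤ) - 729))],
      by nlinarith [sq_nonneg ((N₀ : ℤ) - 729 + 2 * ((N₁ : ℤ) - 729))]⟩
    omega⟩
  obtain ⟨b, hb, hb'⟩ : ∃ b : ℕ, (N₁ : ℤ) = b + 698 ∧ b < 63 := ⟨N₁ - 698, by
    have : -31 ≤ (N₁ : ℤ) - 729 ∧ (N₁ : ℤ) - 729 ≤ 31 := ⟨by nlinarith [sq_nonneg (2 * ((N₀ : ℤ) - 729) + ((N₁ : ℤ) - 729))],
      by nlinarith [sq_nonneg (2 * ((N₀ : ℤ) - 729) + ((N₁ : ℤ) - 729))]⟩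
    omega⟩
  have := table_seven ⟨a, ha'⟩ ⟨b, hb'⟩ (by simp only; rw [ha, hb] at hab; linarith)
  simp only at this
  omega

/-- The order of the isometry group is prime to eleven in dimensions six and seven. -/
theorem not_dvd_isometry (hn : n = 6 ∨ n = 7) (hQ : (QuadraticMap.polarBilin Q).Nondegenerate) :
    ¬ 11 ∣ Nat.card (Cfsg.isometryGroup (ZMod 3) ⇑Q) := by
  classical
  intro hdvd
  haveI : Fact (Nat.Prime 11) := ⟨by norm_num⟩
  obtain ⟨g, hg⟩ := exists_prime_orderOf_dvd_card' 11 hdvd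
  set M : Matrix (Fin n) (Fin n) (ZMod 3) := (g.1 : GL (Fin n) (ZMod 3)).val with hM
  have hiso : ∀ v, Q (M *ᵥ v) = Q v := fun v => g.2 v v
  have hpow : M ^ 11 = 1 := by
    rw [hM, ← Units.val_pow_eq_pow_val, ← Subgroup.coe_pow, ← hg, pow_orderOf_eq_one]; rfl
  have hne : M ≠ 1 := by
    intro h
    have : g = 1 := Subtype.ext (Units.ext h)
    rw [this, orderOf_one] at hg
    norm_num at hg
  let W : Submodule (ZMod 3) (Fin n → (ZMod 3)) := LinearMap.ker (M.mulVecLin - LinearMap.id)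
  have hW : ∀ v, v ∈ W ↔ M *ᵥ v = v := fun v => by
    simp [W, LinearMap.mem_ker, sub_eq_zero]
  let x : (ZMod 3) → ℕ := fun c => (Finset.univ.filter fun v : Fin n → (ZMod 3) => Q v = c ∧ M *ᵥ v = v).card
  -- fixed vectors of a given value
  have hiter : ∀ (k : ℕ) (v : Fin n → (ZMod 3)), (fun u => M *ᵥ u)^[k] v = (M ^ k) *ᵥ v := fun k => by
    induction k with
    | zero => intro v; simp
    | succ j ih => intro v; rw [Function.iterate_succ_apply', ih, Matrix.mulVec_mulVec, pow_succ']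
  have hmod : ∀ c, cnt Q c % 11 = x c % 11 := fun c => by
    let f : Function.End {v : Fin n → (ZMod 3) // Q v = c} := fun v => ⟨M *ᵥ v.1, by rw [hiso, v.2]⟩
    have hf : f ^ 11 ^ 1 = 1 := by
      have hk : ∀ (k : ℕ) v, ((f ^ k) v).1 = (M ^ k) *ᵥ v.1 := fun k => by
        induction k with
        | zero => intro v; show v.1 = _; simp
        | succ j ih =>
          intro v
          rw [pow_succ']
          show M *ᵥ ((f ^ j) v).1 = _
          rw [ih, Matrix.mulVec_mulVec, pow_succ']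
      funext v
      apply Subtype.ext
      rw [pow_one, hk, hpow, Matrix.one_mulVec]; rfl
    have h := Equiv.Perm.card_fixedPoints_modEq hf
    rw [Nat.ModEq] at h
    refine Eq.trans ?_ (h.trans ?_)
    · rw [Fintype.card_subtype]; rfl
    · congr 1
      rw [← Nat.card_eq_fintype_card]
      show Nat.card {v : {v : Fin n → (ZMod 3) // Q v = c} // f v = v} = x c
      let e : {v : {v : Fin n → (ZMod 3) // Q v = c} // f v = v} ≃ {v : Fin n → (ZMod 3) // Q v = c ∧ M *ᵥ v = v} :=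
        { toFun := fun v => ⟨v.1.1, v.1.2, congrArg Subtype.val v.2⟩
          invFun := fun v => ⟨⟨v.1, v.2.1⟩, Subtype.ext v.2.2⟩ }
      rw [Nat.card_congr e, Nat.card_eq_fintype_card, Fintype.card_subtype]
  have hxsum : x 0 + x 1 + x 2 = 3 ^ Module.finrank (ZMod 3) W := by
    haveI : Fact (Nat.Prime 3) := ⟨Nat.prime_three⟩
    have h : (Finset.univ.filter fun v : Fin n → (ZMod 3) => M *ᵥ v = v).card = ∑ c : (ZMod 3), x c := by
      rw [Finset.card_eq_sum_card_fiberwise fun v (_ : v ∈ (Finset.univ.filter fun v : Fin n → (ZMod 3) => M *ᵥ v = v)) =>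
        Finset.mem_coe.2 (Finset.mem_univ (Q v))]
      refine Finset.sum_congr rfl fun c _ => ?_
      rw [Finset.filter_filter]
      exact congrArg Finset.card (Finset.filter_congr fun v _ => and_comm)
    have h' := h.trans (Fin.sum_univ_three x)
    have h2 : Nat.card W = 3 ^ Module.finrank (ZMod 3) W := by
      rw [Module.natCard_eq_pow_finrank (K := ZMod 3), Nat.card_zmod]
    rw [← h2, Nat.card_congr (Equiv.subtypeEquivRight hW : W ≃ {v : Fin n → (ZMod 3) // M *ᵥ v = v}),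
      Nat.card_eq_fintype_card, Fintype.card_subtype]
    exact h'.symm
  have hlt : Module.finrank (ZMod 3) W < n := by
    haveI : Fact (Nat.Prime 3) := ⟨Nat.prime_three⟩
    have hWt : W ≠ ⊤ := fun h => hne (Matrix.ext_of_mulVec_single fun i => by
      rw [(hW _).1 (h ▸ Submodule.mem_top), Matrix.one_mulVec])
    have := Submodule.finrank_lt hWt
    rwa [Module.finrank_fintype_fun_eq_card, Fintype.card_fin] at this
  have hs := cnt_sum Q
  have hid := cnt_identity Q hQ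
  have hpm : 3 ^ n % 11 = 3 ^ Module.finrank (ZMod 3) W % 11 := by
    rw [← hs, ← hxsum]; have := hmod 0; have := hmod 1; have := hmod 2; omega
  generalize Module.finrank (ZMod 3) W = f at hxsum hlt hpm
  rcases hn with rfl | rfl
  · interval_cases f <;> norm_num at hpm
    exact numbers_six (by rw [hs]; norm_num) (by rw [hid]; norm_num) hxsum (hmod 0) (hmod 1) (hmod 2)
  · interval_cases f <;> norm_num at hpm
    exact numbers_seven (by rw [hs]; norm_num) (by rw [hid]; norm_num) hxsum (hmod 0) (hmod 1) (hmod 2)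

theorem not_dvd_projRefl {X : Type*} [Group X] {μ c : ZMod 3} (hn : n = 6 ∨ n = 7)
    (h : Cfsg.IsProjReflectionGroupModThree X n μ c) : ¬ 11 ∣ Nat.card X := by
  obtain ⟨Q, hQ, -, ⟨e⟩⟩ := h
  rw [Nat.card_congr e.toEquiv]
  exact fun hd => not_dvd_isometry Q hn hQ
    ((hd.trans (Subgroup.card_quotient_dvd_card _)).trans (Subgroup.card_subgroup_dvd_card _))

end CfsgLib.ThreeTrans.Tower.Eleven
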