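import Mathlib

/-! The arithmetic determining the number of common neighbours in the three steps. -/

set_option autoImplicit false

namespace CfsgLib.ThreeTrans.Tower.Numbers

/-- What the parameter equation and the integrality give for the number `μ`. -/
theorem facts {N k μ v n : ℤ} (hμ : 0 < μ) (h : μ * v = N * N - (k - μ) * N - (N - μ))
    (hn : n * n * ((k - μ) * (k - μ) + 4 * (N - μ)) = (2 * N + (v - 1) * (k - μ)) ^ 2) :
    μ ∣ N * N - k * N - N ∧ v = (N * N - k * N - N) / μ + N + 1 ∧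
      (2 * N + ((N * N - k * N - N) / μ + N) * (k - μ)) ^ 2 % ((k - μ) * (k - μ) + 4 * (N - μ)) = 0 := by
  have e : N * N - k * N - N = μ * (v - N - 1) := by linear_combination -h
  have hd : (N * N - k * N - N) / μ = v - N - 1 := by rw [e, Int.mul_ediv_cancel_left _ hμ.ne']
  refine ⟨⟨_, e⟩, by rw [hd]; ring, ?_⟩
  rw [hd, show v - N - 1 + N = v - 1 by ring, ← hn]
  exact Int.mul_emod_left _ _

theorem isSquare_of_mul {n D R : ℤ} (h : n * n * D = R ^ 2) (hn : n ≠ 0) : ∃ t : ℤ, t * t = D := by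
  have hd : n ∣ R := (Int.pow_dvd_pow_iff (two_ne_zero)).1 ⟨D, by rw [← h]; ring⟩
  obtain ⟨t, rfl⟩ := hd
  exact ⟨t, mul_left_cancel₀ (mul_ne_zero hn hn) (by linear_combination -h)⟩

theorem not_square {D a : ℤ} (ha : 0 ≤ a) (h1 : a * a < D) (h2 : D < (a + 1) * (a + 1)) :
    ¬ ∃ t : ℤ, t * t = D := by
  rintro ⟨t, rfl⟩
  rcases le_total 0 t with ht | ht
  · have : a < t := by nlinarith
    have : t < a + 1 := by nlinarith
    omega
  · have : a < -t := by nlinarith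
    have : -t < a + 1 := by nlinarith
    omega

theorem bad {n D a R : ℤ} (ha : 0 ≤ a) (hn : n * n * D = R ^ 2) (h1 : a * a < D)
    (h2 : D < (a + 1) * (a + 1)) (hR : R ≠ 0) : False :=
  not_square ha h1 h2 (isSquare_of_mul hn fun e => hR (by subst e; simpa using hn.symm))

theorem table22 : ∀ μ : Fin 693, 0 < (μ : ℕ) → (μ : ℕ) % 11 ≠ 0 → 354816 % (μ : ℕ) = 0 →
    (1386 + (354816 / (μ : ℤ) + 693) * (180 - (μ : ℤ))) ^ 2 %
      ((180 - (μ : ℤ)) * (180 - (μ : ℤ)) + 4 * (693 - (μ : ℤ))) = 0 → (μ : ℕ) = 126 := by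
  decide +kernel

theorem table23 : ∀ i : Fin 14, ∀ j : Fin 256, 256 * (i : ℕ) + j < 3510 → 0 < 256 * (i : ℕ) + j →
    (256 * (i : ℕ) + j) % 11 ≠ 0 → 9884160 % (256 * (i : ℕ) + j) = 0 →
    (7020 + (9884160 / ((256 * (i : ℕ) + j : ℕ) : ℤ) + 3510) * (693 - ((256 * (i : ℕ) + j : ℕ) : ℤ))) ^ 2 %
      ((693 - ((256 * (i : ℕ) + j : ℕ) : ℤ)) * (693 - ((256 * (i : ℕ) + j : ℕ) : ℤ)) +
        4 * (3510 - ((256 * (i : ℕ) + j : ℕ) : ℤ))) = 0 →
    256 * (i : ℕ) + j = 351 ∨ 256 * (i : ℕ) + j = 27 := by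
  decide +kernel

theorem table24 : ∀ i : Fin 124, ∀ j : Fin 256, 256 * (i : ℕ) + j < 31671 → 0 < 256 * (i : ℕ) + j →
    891855360 % (256 * (i : ℕ) + j) = 0 →
    (63342 + (891855360 / ((256 * (i : ℕ) + j : ℕ) : ℤ) + 31671) * (3510 - ((256 * (i : ℕ) + j : ℕ) : ℤ))) ^ 2 %
      ((3510 - ((256 * (i : ℕ) + j : ℕ) : ℤ)) * (3510 - ((256 * (i : ℕ) + j : ℕ) : ℤ)) +
        4 * (31671 - ((256 * (i : ℕ) + j : ℕ) : ℤ))) = 0 →
    256 * (i : ℕ) + j = 3240 ∨ 256 * (i : ℕ) + j = 1840 ∨ 256 * (i : ℕ) + j = 3672 ∨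
      256 * (i : ℕ) + j = 3960 ∨ 256 * (i : ℕ) + j = 5184 := by
  decide +kernel

theorem mu22 {μ v : ℕ} (hμ : 0 < μ) (hlt : μ < 693) (h11 : ¬ 11 ∣ μ) {n : ℤ}
    (h : (μ : ℤ) * v = 693 * 693 - (180 - (μ : ℤ)) * 693 - (693 - (μ : ℤ)))
    (hn : n * n * ((180 - (μ : ℤ)) * (180 - (μ : ℤ)) + 4 * (693 - (μ : ℤ))) =
      (2 * 693 + ((v : ℤ) - 1) * (180 - (μ : ℤ))) ^ 2) : μ = 126 ∧ v = 3510 := by
  obtain ⟨h1, -, h3⟩ := facts (by exact_mod_cast hμ) h hn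
  norm_num at h1 h3
  have h1' : (354816 : ℕ) % μ = 0 := Nat.mod_eq_zero_of_dvd (by exact_mod_cast h1)
  have e := table22 ⟨μ, hlt⟩ hμ (fun e => h11 (Nat.dvd_of_mod_eq_zero e)) h1' (Int.emod_eq_zero_of_dvd h3)
  simp only at e
  subst e
  refine ⟨rfl, ?_⟩
  push_cast at h
  omega

theorem mu23 {μ v : ℕ} (hμ : 0 < μ) (hlt : μ < 3510) (h11 : ¬ 11 ∣ μ) {n : ℤ}
    (h : (μ : ℤ) * v = 3510 * 3510 - (693 - (μ : ℤ)) * 3510 - (3510 - (μ : ℤ)))
    (hn : n * n * ((693 - (μ : ℤ)) * (693 - (μ : ℤ)) + 4 * (3510 - (μ : ℤ))) =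
      (2 * 3510 + ((v : ℤ) - 1) * (693 - (μ : ℤ))) ^ 2) : μ = 351 ∧ v = 31671 := by
  obtain ⟨h1, -, h3⟩ := facts (by exact_mod_cast hμ) h hn
  norm_num at h1 h3
  have h1' : (9884160 : ℕ) % μ = 0 := Nat.mod_eq_zero_of_dvd (by exact_mod_cast h1)
  have hd : 256 * (μ / 256) + μ % 256 = μ := Nat.div_add_mod μ 256
  have e := table23 ⟨μ / 256, by omega⟩ ⟨μ % 256, by omega⟩
  simp only at e
  rw [hd] at e
  rcases e hlt hμ (fun e => h11 (Nat.dvd_of_mod_eq_zero e)) h1' (Int.emod_eq_zero_of_dvd h3) with rfl | rfl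
  · refine ⟨rfl, ?_⟩
    push_cast at h
    omega
  · exfalso
    clear h3 h1'
    push_cast at h hn
    rw [show (v : ℤ) = 369591 by omega] at hn
    exact bad (a := 676) (by norm_num) hn (by norm_num) (by norm_num) (by norm_num)

theorem mu24 {μ v : ℕ} (hμ : 0 < μ) (hlt : μ < 31671) {n : ℤ}
    (h : (μ : ℤ) * v = 31671 * 31671 - (3510 - (μ : ℤ)) * 31671 - (31671 - (μ : ℤ)))
    (hn : n * n * ((3510 - (μ : ℤ)) * (3510 - (μ : ℤ)) + 4 * (31671 - (μ : ℤ))) =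
      (2 * 31671 + ((v : ℤ) - 1) * (3510 - (μ : ℤ))) ^ 2) : μ = 3240 ∧ v = 306936 := by
  obtain ⟨h1, -, h3⟩ := facts (by exact_mod_cast hμ) h hn
  norm_num at h1 h3
  have h1' : (891855360 : ℕ) % μ = 0 := Nat.mod_eq_zero_of_dvd (by exact_mod_cast h1)
  have hd : 256 * (μ / 256) + μ % 256 = μ := Nat.div_add_mod μ 256
  have e := table24 ⟨μ / 256, by omega⟩ ⟨μ % 256, by omega⟩
  simp only at e
  rw [hd] at e
  rcases e hlt hμ h1' (Int.emod_eq_zero_of_dvd h3) with rfl | rfl | rfl | rfl | rfl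
  · refine ⟨rfl, ?_⟩
    push_cast at h
    omega
  all_goals
    exfalso
    clear h3 h1'
    push_cast at h hn
  · rw [show (v : ℤ) = 516376 by omega] at hn
    exact bad (a := 1705) (by norm_num) hn (by norm_num) (by norm_num) (by norm_num)
  · rw [show (v : ℤ) = 274552 by omega] at hn
    exact bad (a := 371) (by norm_num) hn (by norm_num) (by norm_num) (by norm_num)
  · rw [show (v : ℤ) = 256888 by omega] at hn
    exact bad (a := 559) (by norm_num) hn (by norm_num) (by norm_num) (by norm_num)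
  · rw [show (v : ℤ) = 203712 by omega] at hn
    exact bad (a := 1705) (by norm_num) hn (by norm_num) (by norm_num) (by norm_num)

end CfsgLib.ThreeTrans.Tower.Numbers
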