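import Mathlib
import Cfsg.Agent.Lib.ThreeTrans.Relations
import Cfsg.Agent.Lib.Sporadic.RankThree

/-! The centraliser of a transposition is generated by the transpositions it contains, given local data:
the cosets of that subgroup form a covering of the commuting graph which is shown to be trivial. -/

set_option autoImplicit false

namespace CfsgLib.ThreeTrans.Tower

open CfsgLib.ThreeTrans.ClassTwo (orb orb_self orb_trans cD)
open CfsgLib.Sporadic.RankThree (exists_full_orbit exists_crossing perp_transitive closure_preserves conj_braid)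

variable {G : Type*} [Group G] {D : Set G}

/-- The subgroup generated by the members commuting with `d`. -/
abbrev Kc (D : Set G) (d : G) : Subgroup G := Subgroup.closure (cD D d)

theorem Dd_symm {a b : G} (ha : a ∈ D) (h : b ∈ Dd D a) : a ∈ Dd D b := ⟨ha, Ne.symm h.2.1, h.2.2.symm⟩

theorem Dd_subset_cD (a : G) : Dd D a ⊆ cD D a := fun _ h => ⟨h.1, h.2.2⟩

theorem mem_Kc_of_Dd {a b : G} (h : b ∈ Dd D a) : b ∈ Kc D a := Subgroup.subset_closure (Dd_subset_cD a h)

theorem self_mem_Kc {a : G} (ha : a ∈ D) : a ∈ Kc D a := Subgroup.subset_closure ⟨ha, Commute.refl a⟩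

theorem commute_Kc {a h : G} (hh : h ∈ Kc D a) : Commute h a := by
  have hle : Kc D a ≤ Subgroup.centralizer ({a} : Set G) := (Subgroup.closure_le _).2 fun y hy => by
    rw [SetLike.mem_coe, Subgroup.mem_centralizer_singleton_iff]
    exact hy.2.eq.symm
  exact Subgroup.mem_centralizer_singleton_iff.1 (hle hh)

theorem conj_Kc_mem (hD : ConjClosed D) (g : G) {a h : G} (hh : h ∈ Kc D a) :
    g * h * g⁻¹ ∈ Kc D (g * a * g⁻¹) := by
  induction hh using Subgroup.closure_induction with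
  | mem y hy => exact Subgroup.subset_closure ⟨hD.conj g y hy.1, (commute_conj_iff g a y).2 hy.2⟩
  | one => simp
  | mul p q _ _ hp hq => simpa [mul_assoc] using mul_mem hp hq
  | inv p _ hp => simpa [mul_assoc] using inv_mem hp

/-- The local data. -/
structure CoverHyp (D : Set G) : Prop where
  stab : ∀ a ∈ D, ∀ b ∈ Dd D a, ∀ h ∈ Kc D a, Commute h b → h ∈ Subgroup.closure (cD D a ∩ cD D b)
  trans : ∀ a ∈ D, ∀ b ∈ Dd D a, ∀ b' ∈ Dd D a, ∃ h ∈ Kc D a, h * b * h⁻¹ = b'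
  trans₂ : ∀ a ∈ D, ∀ b ∈ Dd D a, ∀ x, x ∈ Dd D a → x ∈ Dd D b → ∀ y, y ∈ Dd D a → y ∈ Dd D b →
    ∃ h ∈ Kc D a, Commute h b ∧ h * x * h⁻¹ = y
  nonempty : ∀ a ∈ D, ∀ x ∈ Dd D a, ∃ b, b ∈ Dd D a ∧ b ∈ Dd D x
  common : ∀ a ∈ D, ∀ x ∈ Dd D a, ∀ b, b ∈ Dd D a → b ∈ Dd D x → ∀ b', b' ∈ Dd D a → b' ∈ Dd D x →
    ¬ Commute b b' → ∃ z, z ∈ Dd D a ∧ z ∈ Dd D x ∧ z ∈ Dd D b ∧ z ∈ Dd D b'
  good : ∀ d ∈ D, ∀ x ∈ Dd D d, ∀ e ∈ D, ¬ Commute d e → ¬ Commute x e →
    ∃ b, b ∈ Dd D d ∧ b ∈ Dd D x ∧ Commute e b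

/-- `t` carries `d` to `x` and fixes a member commuting with both. -/
def Mover (D : Set G) (d x t : G) : Prop :=
  ∃ b, b ∈ Dd D d ∧ b ∈ Dd D x ∧ t ∈ Kc D b ∧ t * d * t⁻¹ = x

/-- The preferred coset over a member. -/
def Lift (D : Set G) (d x g : G) : Prop :=
  (x = d ∧ g ∈ Kc D d) ∨ (x ∈ Dd D d ∧ ∃ t, Mover D d x t ∧ t⁻¹ * g ∈ Kc D d) ∨
    (x ∈ D ∧ ¬ Commute d x ∧ (d * x)⁻¹ * g ∈ Kc D d)

variable {d : G}

theorem Lift.mul {x g k : G} (h : Lift D d x g) (hk : k ∈ Kc D d) : Lift D d x (g * k) := by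
  rcases h with ⟨rfl, h⟩ | ⟨hx, t, ht, h⟩ | ⟨hx, hn, h⟩
  · exact Or.inl ⟨rfl, mul_mem h hk⟩
  · exact Or.inr (Or.inl ⟨hx, t, ht, by rw [← mul_assoc]; exact mul_mem h hk⟩)
  · exact Or.inr (Or.inr ⟨hx, hn, by rw [← mul_assoc]; exact mul_mem h hk⟩)

section

variable (hcl : ConjClosed D) (hd : d ∈ D)
include hcl

theorem Lift.conj {x g k : G} (h : Lift D d x g) (hk : k ∈ Kc D d) : Lift D d (k * x * k⁻¹) (k * g) := by
  have hkd : k * d * k⁻¹ = d := by rw [(commute_Kc hk).eq, mul_inv_cancel_right]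
  rcases h with ⟨rfl, h⟩ | ⟨hx, t, ⟨b, hb, hbx, ht, htx⟩, h⟩ | ⟨hx, hn, h⟩
  · exact Or.inl ⟨hkd, mul_mem hk h⟩
  · have conjD : ∀ {a y : G}, y ∈ Dd D a → k * y * k⁻¹ ∈ Dd D (k * a * k⁻¹) := fun {a y} hy =>
      ⟨hcl.conj k y hy.1, fun e => hy.2.1 (mul_left_cancel (mul_right_cancel e)), (commute_conj_iff k a y).2 hy.2.2⟩
    refine Or.inr (Or.inl ⟨hkd ▸ conjD hx, k * t * k⁻¹,
      ⟨k * b * k⁻¹, hkd ▸ conjD hb, conjD hbx, conj_Kc_mem hcl k ht, ?_⟩, ?_⟩)
    · calc k * t * k⁻¹ * d * (k * t * k⁻¹)⁻¹ = k * t * (k⁻¹ * (d * k)) * t⁻¹ * k⁻¹ := by group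
        _ = k * (t * d * t⁻¹) * k⁻¹ := by
          rw [← (commute_Kc hk).eq, inv_mul_cancel_left]; group
        _ = k * x * k⁻¹ := by rw [htx]
    · rw [show (k * t * k⁻¹)⁻¹ * (k * g) = k * (t⁻¹ * g) by group]
      exact mul_mem hk h
  · refine Or.inr (Or.inr ⟨hcl.conj k x hx, ?_, ?_⟩)
    · rw [← hkd, commute_conj_iff]; exact hn
    · have e : d * (k * x * k⁻¹) = k * (d * x) * k⁻¹ := by
        nth_rewrite 1 [← hkd]; group
      rw [e, show (k * (d * x) * k⁻¹)⁻¹ * (k * g) = k * ((d * x)⁻¹ * g) by group]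
      exact mul_mem hk h

include hd

theorem Lift.spec {x g : G} (h : Lift D d x g) : g * d * g⁻¹ = x ∧ x ∈ D := by
  have key : ∀ {t : G}, t⁻¹ * g ∈ Kc D d → g * d * g⁻¹ = t * d * t⁻¹ := fun {t} hk => by
    calc g * d * g⁻¹ = t * ((t⁻¹ * g) * d * (t⁻¹ * g)⁻¹) * t⁻¹ := by group
      _ = t * d * t⁻¹ := by rw [(commute_Kc hk).eq, mul_inv_cancel_right]
  rcases h with ⟨rfl, h⟩ | ⟨hx, t, ⟨b, -, -, -, htx⟩, h⟩ | ⟨hx, hn, h⟩
  · exact ⟨by rw [(commute_Kc h).eq, mul_inv_cancel_right], hd⟩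
  · exact ⟨(key h).trans htx, hx.1⟩
  · exact ⟨(key h).trans (conj_braid hcl.set hd hx hn), hx⟩

end

namespace CoverHyp

variable [Finite G] (hH : CoverHyp D) (hcl : ConjClosed D) (hd : d ∈ D)
include hH hcl hd

omit [Finite G] in
theorem mover_aux {x t t' b : G} (hb : b ∈ Dd D d) (ht : t ∈ Kc D b) (htx : t * d * t⁻¹ = x)
    (ht' : t' ∈ Kc D b) (htx' : t' * d * t'⁻¹ = x) : t⁻¹ * t' ∈ Kc D d := by
  have hc : Commute (t⁻¹ * t') d := by
    show t⁻¹ * t' * d = d * (t⁻¹ * t')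
    have e : t * d * t⁻¹ = t' * d * t'⁻¹ := htx.trans htx'.symm
    calc t⁻¹ * t' * d = t⁻¹ * (t' * d * t'⁻¹) * t' := by group
      _ = t⁻¹ * (t * d * t⁻¹) * t' := by rw [e]
      _ = d * (t⁻¹ * t') := by group
  exact Subgroup.closure_mono Set.inter_subset_right
    (hH.stab b hb.1 d (Dd_symm hd hb) _ (mul_mem (inv_mem ht) ht') hc)

omit [Finite G] in
theorem mover_unique {x t t' : G} (hx : x ∈ Dd D d) (h : Mover D d x t) (h' : Mover D d x t') :
    t⁻¹ * t' ∈ Kc D d := by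
  obtain ⟨b, hbd, hbx, ht, htx⟩ := h
  obtain ⟨b', hbd', hbx', ht', htx'⟩ := h'
  have link : ∀ {b b' t t' : G}, b ∈ Dd D d → b ∈ Dd D x → b' ∈ Dd D d → b' ∈ Dd D x → b' ≠ b → Commute b b' →
      t ∈ Kc D b → t * d * t⁻¹ = x → t' ∈ Kc D b' → t' * d * t'⁻¹ = x → t⁻¹ * t' ∈ Kc D d := by
    intro b b' t t' hbd hbx hbd' hbx' hne hcom ht htx ht' htx'
    have hb'b : b' ∈ Dd D b := ⟨hbd'.1, hne, hcom⟩
    obtain ⟨h, hh, hhb, hhx⟩ := hH.trans₂ b hbd.1 b' hb'b d (Dd_symm hd hbd) (Dd_symm hd hbd') x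
      (Dd_symm hx.1 hbx) (Dd_symm hx.1 hbx')
    have hh' : h ∈ Kc D b' := Subgroup.closure_mono Set.inter_subset_right (hH.stab b hbd.1 b' hb'b h hh hhb)
    have := mul_mem (hH.mover_aux hcl hd hbd ht htx hh hhx) (hH.mover_aux hcl hd hbd' hh' hhx ht' htx')
    rwa [mul_assoc, mul_inv_cancel_left] at this
  by_cases e : b' = b
  · subst e; exact hH.mover_aux hcl hd hbd ht htx ht' htx'
  by_cases hcom : Commute b b'
  · exact link hbd hbx hbd' hbx' e hcom ht htx ht' htx'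
  obtain ⟨z, hzd, hzx, hzb, hzb'⟩ := hH.common d hd x hx b hbd hbx b' hbd' hbx' hcom
  obtain ⟨u, hu, hux⟩ := hH.trans z hzd.1 d (Dd_symm hd hzd) x (Dd_symm hx.1 hzx)
  have h1 := link hbd hbx hzd hzx hzb.2.1 hzb.2.2 ht htx hu hux
  have h2 := link hzd hzx hbd' hbx' (Ne.symm hzb'.2.1) hzb'.2.2.symm hu hux ht' htx'
  have := mul_mem h1 h2
  rwa [mul_assoc, mul_inv_cancel_left] at this

omit [Finite G] in
theorem lift_unique {x g g' : G} (h : Lift D d x g) (h' : Lift D d x g') : g⁻¹ * g' ∈ Kc D d := by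
  have key : ∀ {t t' : G}, t⁻¹ * g ∈ Kc D d → t⁻¹ * t' ∈ Kc D d → t'⁻¹ * g' ∈ Kc D d → g⁻¹ * g' ∈ Kc D d :=
    fun {t t'} a b c => by
      have := mul_mem (mul_mem (inv_mem a) b) c
      simpa [mul_assoc] using this
  rcases h with ⟨rfl, h⟩ | ⟨hx, t, ht, h⟩ | ⟨hx, hn, h⟩ <;>
    rcases h' with ⟨e', h'⟩ | ⟨hx', t', ht', h'⟩ | ⟨hx', hn', h'⟩
  · exact mul_mem (inv_mem h) h'
  · exact absurd rfl hx'.2.1
  · exact absurd (Commute.refl _) hn'
  · exact absurd e' hx.2.1
  · exact key h (hH.mover_unique hcl hd hx ht ht') h'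
  · exact absurd hx.2.2 hn'
  · exact absurd (e' ▸ Commute.refl d) hn
  · exact absurd hx'.2.2 hn
  · exact key h (by simp) h'

omit [Finite G] in
theorem lift_exists {x : G} (hx : x ∈ D) : ∃ g, Lift D d x g := by
  by_cases hc : Commute d x
  · by_cases e : x = d
    · exact ⟨1, Or.inl ⟨e, one_mem _⟩⟩
    obtain ⟨b, hbd, hbx⟩ := hH.nonempty d hd x ⟨hx, e, hc⟩
    obtain ⟨t, ht, htx⟩ := hH.trans b hbd.1 d (Dd_symm hd hbd) x (Dd_symm hx hbx)
    exact ⟨t, Or.inr (Or.inl ⟨⟨hx, e, hc⟩, t, ⟨b, hbd, hbx, ht, htx⟩, by simp⟩)⟩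
  · exact ⟨d * x, Or.inr (Or.inr ⟨hx, hc, by simp⟩)⟩

omit [Finite G] in
theorem lift_inv {u m : G} (hu : u ∈ Dd D d) (h : Lift D d u m) : Lift D d (m⁻¹ * d * m) m⁻¹ := by
  rcases h with ⟨e, -⟩ | ⟨-, t, ⟨b, hbd, hbu, ht, htu⟩, h⟩ | ⟨-, hn, -⟩
  · exact absurd e hu.2.1
  · have e : t⁻¹ * u * t = d := by rw [← htu]; group
    have h1 : t⁻¹ * d * t ∈ Dd D d := by
      refine ⟨hcl.conj' t hd, fun e' => hu.2.1 ?_, ?_⟩
      · rw [← htu]; nth_rewrite 1 [← e']; group
      · have := (commute_conj_iff t⁻¹ d u).2 hu.2.2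
        rw [inv_inv, e] at this
        exact this.symm
    have htb : Commute t b := commute_Kc ht
    have hb1 : b ∈ Dd D (t⁻¹ * d * t) := by
      refine ⟨hbd.1, fun e' => hbd.2.1 ?_, ?_⟩
      · calc b = t * b * t⁻¹ := by rw [htb.eq, mul_inv_cancel_right]
          _ = d := by rw [e']; group
      · have := (commute_conj_iff t⁻¹ d b).2 hbd.2.2
        rwa [inv_inv, show t⁻¹ * b * t = b by rw [mul_assoc, ← htb.eq, inv_mul_cancel_left]] at this
    have hl : Lift D d (t⁻¹ * d * t) t⁻¹ :=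
      Or.inr (Or.inl ⟨h1, t⁻¹, ⟨b, hbd, hb1, inv_mem ht, by rw [inv_inv]⟩, by simp⟩)
    have h2 := (hl.conj hcl (inv_mem h)).mul (one_mem _)
    simpa [mul_assoc] using h2
  · exact absurd hu.2.2 hn

omit [Finite G] in
/-- The coset over a commuting member, through a member commuting with neither. -/
theorem lift_far_two {x e : G} (hx : x ∈ Dd D d) (he : e ∈ D) (hde : ¬ Commute d e) (hxe : ¬ Commute x e) :
    Lift D d x (e * x * d * e) := by
  obtain ⟨b, hbd, hbx, heb⟩ := hH.good d hd x hx e he hde hxe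
  have hs := hcl.set
  refine Or.inr (Or.inl ⟨hx, e * x * d * e, ⟨b, hbd, hbx, ?_, ?_⟩, by rw [inv_mul_cancel]; exact one_mem _⟩)
  · exact mul_mem (mul_mem (mul_mem (Subgroup.subset_closure ⟨he, heb.symm⟩)
      (Subgroup.subset_closure ⟨hx.1, hbx.2.2.symm⟩)) (Subgroup.subset_closure ⟨hd, hbd.2.2.symm⟩))
      (Subgroup.subset_closure ⟨he, heb.symm⟩)
  · have sd := mul_self hs hd
    have se := mul_self hs he
    have b1 := braid hs hd he hde
    have b2 := braid hs hx.1 he hxe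
    rw [mul_inv_rev, mul_inv_rev, mul_inv_rev, inv_eq hs he, inv_eq hs hd, inv_eq hs hx.1]
    calc e * x * d * e * d * (e * (d * (x * e))) = e * x * (d * e * d) * e * d * x * e := by simp [mul_assoc]
      _ = e * x * e * (d * (e * e) * d) * x * e := by rw [b1]; simp [mul_assoc]
      _ = e * (x * e * x) * e := by rw [se, mul_one, sd, mul_one]; simp [mul_assoc]
      _ = x := by rw [b2]; simp [mul_assoc, se, mul_self_mul hs he]

omit [Finite G] in
/-- The coset over a commuting member, through two commuting members. -/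
theorem lift_far_pair {p q : G} (hp : p ∈ D) (hq : q ∈ D) (hpq : Commute p q) (hne : p ≠ q)
    (hdp : ¬ Commute d p) (hdq : ¬ Commute d q) :
    p * q * d * (p * q)⁻¹ ∈ Dd D d ∧ Lift D d (p * q * d * (p * q)⁻¹) (p * q) := by
  have hs := hcl.set
  have sp := mul_self hs hp
  have sq := mul_self hs hq
  have sd := mul_self hs hd
  set u := p * q * d * (p * q)⁻¹ with hu
  have hu' : u = p * (q * d * q) * p := by
    rw [hu, mul_inv_rev, inv_eq hs hp, inv_eq hs hq]; simp [mul_assoc]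
  have hud : Commute d u := by
    have h1 : Commute (p * d * p) (q * d * q) := by
      rw [← braid hs hd hp hdp, ← braid hs hd hq hdq]
      have := (commute_conj_iff d p q).2 hpq
      rwa [inv_eq hs hd] at this
    have h2 := (commute_conj_iff p (p * d * p) (q * d * q)).2 h1
    rw [inv_eq hs hp, ← hu', show p * (p * d * p) * p = d by simp [mul_assoc, sp, mul_self_mul hs hp]] at h2
    exact h2
  have hud' : u ≠ d := fun e => by
    rw [hu, mul_inv_eq_iff_eq_mul] at e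
    exact hdp (commute_of_commute_two hs hp hq hd hne hpq e.symm).1
  have hpu : ¬ Commute u p := fun h => hdp (by
    have h2 := (commute_conj_iff (p * q)⁻¹ u p).2 h
    rw [show (p * q)⁻¹ * u * (p * q)⁻¹⁻¹ = d by rw [hu]; group,
      show (p * q)⁻¹ * p * (p * q)⁻¹⁻¹ = p by
        rw [inv_inv, mul_inv_rev, inv_eq hs hp, inv_eq hs hq]
        calc q * p * p * (p * q) = q * (p * p) * p * q := by simp [mul_assoc]
          _ = p := by rw [sp, mul_one, ← hpq.eq, mul_assoc, sq, mul_one]] at h2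
    exact h2)
  have hu_mem : u ∈ Dd D d := ⟨hcl.conj _ d hd, hud', hud⟩
  refine ⟨hu_mem, ?_⟩
  have h1 := (hH.lift_far_two hcl hd hu_mem hp hdp hpu).mul (mul_mem (self_mem_Kc hd) (mem_Kc_of_Dd hu_mem))
  have e : p * u * d * p * (d * u) = p * q := by
    calc p * u * d * p * (d * u) = p * u * (d * p * d) * u := by simp [mul_assoc]
      _ = p * u * (p * d * p) * u := by rw [braid hs hd hp hdp]
      _ = p * p * (q * d * q) * (p * p) * d * (p * p) * (q * d * q) * p := by rw [hu']; simp [mul_assoc]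
      _ = q * (d * q * d) * q * d * q * p := by rw [sp, one_mul, mul_one, mul_one]; simp [mul_assoc]
      _ = q * q * d * (q * q) * d * q * p := by rw [braid hs hd hq hdq]; simp [mul_assoc]
      _ = p * q := by rw [sq, one_mul, mul_one, sd, one_mul, hpq.eq]
  rwa [e] at h1

variable (hC : ClassTwo D) (hprim : Cfsg.IsPrimitiveUnderConj D) (hw : ∃ a ∈ D, ∃ b ∈ D, a ≠ b ∧ Commute a b)
include hC hprim hw

omit hH in
/-- The members commuting with `u` are not covered by those commuting with `d` and with `x`. -/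
theorem exists_far_two {u x : G} (hu : u ∈ D) (hdu : ¬ Commute d u) (hx : x ∈ Dd D u) (hdx : Commute d x) :
    ∃ z, z ∈ Dd D u ∧ ¬ Commute d z ∧ ¬ Commute x z := by
  have hs := hcl.set
  by_contra! hno
  obtain ⟨b₀, hb₀, y₀, hy₀, hbu, hyu, hub, huy, hby, -, hdy₀⟩ :=
    exists_crossing hC hprim hw hu hd fun k => hdu k.symm
  obtain ⟨g, hgu, hgb⟩ := perp_transitive hC hprim hw hu hb₀ hx.1 hbu hx.2.1 hub hx.2.2
  have hgu' : g * u * g⁻¹ = u := by rw [hgu.eq, mul_inv_cancel_right]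
  have hB₁ : g * y₀ * g⁻¹ ∈ Dd D u ∧ ¬ Commute x (g * y₀ * g⁻¹) := by
    refine ⟨⟨hcl.conj g y₀ hy₀, fun e => hyu ?_, ?_⟩, ?_⟩
    · rw [← hgu'] at e; exact mul_left_cancel (mul_right_cancel e)
    · rw [← hgu', commute_conj_iff]; exact huy
    · rw [← hgb, commute_conj_iff]; exact hby
  set I := {w | w ∈ Dd D u ∧ ∀ b ∈ Dd D u, ¬ Commute x b → Commute w b} with hI
  have hconj : ∀ {m w : G}, m ∈ Dd D u → w ∈ Dd D u → m * w * m⁻¹ ∈ Dd D u := fun {m w} hm hw' => by
    have := conj_mem_left hcl hm.1 hw'.1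
    refine ⟨hcl.conj m w hw'.1, fun e => hw'.2.1 ?_, ?_⟩
    · have e' : m * u * m⁻¹ = u := by rw [← hm.2.2.eq, mul_inv_cancel_right]
      rw [← e'] at e; exact mul_left_cancel (mul_right_cancel e)
    · exact (hm.2.2.mul_right hw'.2.2).mul_right hm.2.2.inv_right
  have hA : y₀ ∈ I := by
    refine ⟨⟨hy₀, hyu, huy⟩, fun b hb hxb => ?_⟩
    have hdb : Commute d b := by
      by_contra hdb
      exact hxb (hno b hb hdb)
    by_contra hyb
    have hxy : Commute x y₀ := hno y₀ ⟨hy₀, hyu, huy⟩ hdy₀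
    have hmem := hconj ⟨hy₀, hyu, huy⟩ hb
    rw [inv_eq hs hy₀] at hmem
    refine ?_
    have e1 : ¬ Commute d (y₀ * b * y₀) := by
      intro h
      rw [braid hs hy₀ hb.1 hyb] at h
      apply hdy₀
      have h2 := (commute_conj_iff b d (b * y₀ * b)).2 h
      rw [inv_eq hs hb.1, show b * (b * y₀ * b) * b = y₀ by simp [mul_assoc, mul_self hs hb.1, mul_self_mul hs hb.1],
        show b * d * b = d by rw [← hdb.eq, mul_assoc, mul_self hs hb.1, mul_one]] at h2
      exact h2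
    have e2 := hno _ hmem e1
    apply hxb
    have h2 := (commute_conj_iff y₀ x (y₀ * b * y₀)).2 e2
    rw [inv_eq hs hy₀, show y₀ * (y₀ * b * y₀) * y₀ = b by simp [mul_assoc, mul_self hs hy₀, mul_self_mul hs hy₀],
      show y₀ * x * y₀ = x by rw [← hxy.eq, mul_assoc, mul_self hs hy₀, mul_one]] at h2
    exact h2
  have key : ∀ m ∈ Dd D u, ∀ w ∈ I, m * w * m⁻¹ ∈ I := by
    intro m hm w ⟨hw1, hw2⟩
    by_cases hall : ∀ b ∈ Dd D u, ¬ Commute x b → Commute m b
    · exact ⟨hconj hm hw1, fun b hb hxb =>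
        ((hall b hb hxb).mul_left (hw2 b hb hxb)).mul_left (hall b hb hxb).inv_left⟩
    · push Not at hall
      obtain ⟨b, hb, hxb, hmb⟩ := hall
      have hwm : Commute w m := by
        by_cases hxm : Commute x m
        · have hc : ¬ Commute x (m * b * m⁻¹) := by
            intro h
            apply hxb
            have h2 := (commute_conj_iff m⁻¹ x _).2 h
            rw [inv_inv, show m⁻¹ * (m * b * m⁻¹) * m = b by group,
              show m⁻¹ * x * m = x by rw [mul_assoc, hxm.eq, inv_mul_cancel_left]] at h2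
            exact h2
          have h1 := hw2 _ (hconj hm hb) hc
          have h0 := hw2 b hb hxb
          rw [inv_eq hs hm.1, braid hs hm.1 hb.1 hmb] at h1
          have := (h0.mul_right h1).mul_right h0
          rwa [show b * (b * m * b) * b = m by simp [mul_assoc, mul_self hs hb.1, mul_self_mul hs hb.1]] at this
        · exact hw2 m hm hxm
      rw [← hwm.eq, mul_inv_cancel_right]
      exact ⟨hw1, hw2⟩
  obtain ⟨p, -, -, hP, hPP⟩ := exists_full_orbit hC hprim hw hu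
  have hall : ∀ w ∈ Dd D u, w ∈ I := by
    intro w hwu
    have h1 : y₀ ∈ orb (cD D u) p := by rw [hP]; exact ⟨hy₀, hyu, huy⟩
    have h2 : w ∈ orb (cD D u) p := by rw [hP]; exact hwu
    obtain ⟨h, hh, e⟩ := hPP h1
    obtain ⟨k, hk, e'⟩ := hPP h2
    have := closure_preserves (S := orb (cD D u) p) (P := I) (fun m hm => key m (by rw [hP] at hm; exact hm))
      (mul_mem hk (inv_mem hh)) y₀ hA
    rwa [e, show k * h⁻¹ * (h * p * h⁻¹) * (k * h⁻¹)⁻¹ = k * p * k⁻¹ by group, ← e'] at this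
  obtain ⟨hb₁, hxb₁⟩ := hB₁
  obtain ⟨k, hku, hkb⟩ := perp_transitive hC hprim hw hu hb₁.1 hy₀ hb₁.2.1 hyu hb₁.2.2 huy
  apply hby
  have hku' : k * u * k⁻¹ = u := by rw [hku.eq, mul_inv_cancel_right]
  have hmem : k⁻¹ * b₀ * k ∈ Dd D u := by
    refine ⟨hcl.conj' k hb₀, fun e => hbu ?_, ?_⟩
    · rw [← hku', ← e]; group
    · rw [← commute_conj_iff k, hku', show k * (k⁻¹ * b₀ * k) * k⁻¹ = b₀ by group]; exact hub
  have h3 := (commute_conj_iff k _ _).2 ((hall _ hmem).2 _ hb₁ hxb₁)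
  rw [hkb, show k * (k⁻¹ * b₀ * k) * k⁻¹ = b₀ by group] at h3
  exact h3

/-- Cosets over two commuting members differ by the coset over a member commuting with `d`. -/
theorem compat {x y g h : G} (hxy : y ∈ Dd D x) (hx : x ∈ D) (hg : Lift D d x g) (hh : Lift D d y h) :
    Lift D d (g⁻¹ * y * g) (g⁻¹ * h) := by
  have hs := hcl.set
  -- it suffices to treat one pair of representatives
  have reduce : ∀ g₀ h₀, Lift D d x g₀ → Lift D d y h₀ → Lift D d (g₀⁻¹ * y * g₀) (g₀⁻¹ * h₀) →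
      Lift D d (g⁻¹ * y * g) (g⁻¹ * h) := by
    intro g₀ h₀ hg₀ hh₀ hl
    have h1 := (hl.conj hcl (inv_mem (hH.lift_unique hcl hd hg₀ hg))).mul (hH.lift_unique hcl hd hh₀ hh)
    simpa [mul_assoc] using h1
  have sym : ∀ {x' y' g' h' : G}, y' ∈ Dd D x' → Lift D d x' g' → Lift D d y' h' →
      Lift D d (g'⁻¹ * y' * g') (g'⁻¹ * h') → Lift D d (h'⁻¹ * x' * h') (h'⁻¹ * g') := by
    intro x' y' g' h' hxy' hg' hh' hl
    obtain ⟨eg, -⟩ := Lift.spec hcl hd hg'
    have hu : g'⁻¹ * y' * g' ∈ Dd D d := by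
      refine ⟨hcl.conj' g' hxy'.1, fun e => hxy'.2.1 ?_, ?_⟩
      · rw [← eg, ← e]; group
      · rw [← commute_conj_iff g', eg, show g' * (g'⁻¹ * y' * g') * g'⁻¹ = y' by group]; exact hxy'.2.2
    have h1 := hH.lift_inv hcl hd hu hl
    rw [← eg]
    simpa [mul_assoc] using h1
  have caseA : ∀ {y h : G}, y ∈ D → Lift D d y h → ∀ {g : G}, g ∈ Kc D d → Lift D d (g⁻¹ * y * g) (g⁻¹ * h) :=
    fun {y h} _ hh {g} hg => by simpa using hh.conj hcl (inv_mem hg)
  have caseC : ∀ {x y : G}, x ∈ Dd D d → y ∈ Dd D x → ¬ Commute d y →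
      ∃ g h, Lift D d x g ∧ Lift D d y h ∧ Lift D d (g⁻¹ * y * g) (g⁻¹ * h) := by
    intro x y hx' hyx hdy
    have hy := hyx.1
    have hxu : x ∈ Dd D y := Dd_symm hx'.1 hyx
    obtain ⟨e, heu, hde, hxe⟩ := exists_far_two hcl hd hC hprim hw hy hdy hxu hx'.2.2
    have cey : Commute e y := heu.2.2.symm
    refine ⟨e * x * d * e, d * y, hH.lift_far_two hcl hd hx' heu.1 hde hxe,
      Or.inr (Or.inr ⟨hy, hdy, by simp⟩), ?_⟩
    obtain ⟨hu, hl⟩ := hH.lift_far_pair hcl hd heu.1 hy cey heu.2.1 hde hdy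
    set u := e * y * d * (e * y)⁻¹ with hudef
    have hm := hl.mul (mul_mem (mem_Kc_of_Dd hx') (mem_Kc_of_Dd hu))
    have se := mul_self hs heu.1
    have sy := mul_self hs hy
    have sd := mul_self hs hd
    have sx := mul_self hs hx'.1
    have e1 : (e * x * d * e)⁻¹ = e * d * x * e := by
      simp [mul_inv_rev, inv_eq hs heu.1, inv_eq hs hd, inv_eq hs hx'.1, mul_assoc]
    have e2 : e * y * d * y * e = u := by
      rw [hudef, mul_inv_rev, inv_eq hs heu.1, inv_eq hs hy]; simp [mul_assoc]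
    have e3 : (e * x * d * e)⁻¹ * y * (e * x * d * e) = u := by
      rw [e1, ← e2]
      calc e * d * x * e * y * (e * x * d * e) = e * d * x * ((e * y) * e) * x * d * e := by simp [mul_assoc]
        _ = e * d * (x * y * x) * d * e := by rw [cey.eq, mul_assoc y, se, mul_one]; simp [mul_assoc]
        _ = e * (d * y * d) * e := by rw [hxu.2.2.symm.eq, mul_assoc y, sx, mul_one]; simp [mul_assoc]
        _ = e * y * d * y * e := by rw [braid hs hd hy hdy]; simp [mul_assoc]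
    have e4 : (e * x * d * e)⁻¹ * (d * y) = e * y * (x * u) := by
      have hyx' : y * x = x * y := hxu.2.2.eq
      rw [e1, ← e2]
      calc e * d * x * e * (d * y) = e * (d * x) * e * d * y := by simp [mul_assoc]
        _ = e * x * (d * e * d) * y := by rw [hx'.2.2.eq]; simp [mul_assoc]
        _ = e * x * (e * d * e) * y := by rw [braid hs hd heu.1 hde]
        _ = e * (x * (y * y)) * e * d * (e * y) := by rw [sy, mul_one]; simp [mul_assoc]
        _ = e * (y * x) * (y * e) * d * (y * e) := by rw [← mul_assoc x y y, ← hyx', cey.eq]; simp [mul_assoc]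
        _ = e * y * (x * ((y * e) * d * (y * e))) := by simp [mul_assoc]
        _ = e * y * (x * (e * y * d * y * e)) := by
          rw [show e * y * d * y * e = (e * y) * d * (y * e) by simp [mul_assoc], cey.eq]
    rw [e3, e4]
    exact hm
  have hy := hxy.1
  by_cases hdx : Commute d x
  · by_cases exd : x = d
    · subst exd
      rcases hg with ⟨-, hgK⟩ | ⟨h1, -⟩ | ⟨-, hn, -⟩
      · exact caseA hy hh hgK
      · exact absurd rfl h1.2.1
      · exact absurd (Commute.refl _) hn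
    by_cases hdy : Commute d y
    · by_cases eyd : y = d
      · subst eyd
        rcases hh with ⟨-, hhK⟩ | ⟨h1, -⟩ | ⟨-, hn, -⟩
        · exact sym ⟨hx, exd, hdx⟩ (Or.inl ⟨rfl, hhK⟩) hg (caseA hx hg hhK)
        · exact absurd rfl h1.2.1
        · exact absurd (Commute.refl _) hn
      obtain ⟨t, ht, htx⟩ := hH.trans y hy d ⟨hd, Ne.symm eyd, hdy.symm⟩ x (Dd_symm hx hxy)
      obtain ⟨s, hs', hsy⟩ := hH.trans x hx d ⟨hd, Ne.symm exd, hdx.symm⟩ y hxy
      have hls : Lift D d y s := Or.inr (Or.inl ⟨⟨hy, eyd, hdy⟩, s,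
        ⟨x, ⟨hx, exd, hdx⟩, Dd_symm hx hxy, hs', hsy⟩, by simp⟩)
      refine reduce t s (Or.inr (Or.inl ⟨⟨hx, exd, hdx⟩, t,
        ⟨y, ⟨hy, eyd, hdy⟩, hxy, ht, htx⟩, by simp⟩)) hls ?_
      have hk := conj_Kc_mem hcl s⁻¹ (inv_mem ht)
      rw [show s⁻¹ * y * s⁻¹⁻¹ = d by rw [← hsy]; group] at hk
      have := hls.mul hk
      rw [show t⁻¹ * y * t = y by rw [mul_assoc, ← (commute_Kc ht).eq, inv_mul_cancel_left]]
      rwa [show s * (s⁻¹ * t⁻¹ * s⁻¹⁻¹) = t⁻¹ * s by group] at this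
    · obtain ⟨g₀, h₀, hg₀, hh₀, hl⟩ := caseC ⟨hx, exd, hdx⟩ hxy hdy
      exact reduce g₀ h₀ hg₀ hh₀ hl
  · by_cases hdy : Commute d y
    · by_cases eyd : y = d
      · exact absurd (eyd ▸ hxy.2.2).symm hdx
      obtain ⟨h₀, g₀, hh₀, hg₀, hl⟩ := caseC ⟨hy, eyd, hdy⟩ (Dd_symm hx hxy) hdx
      exact reduce g₀ h₀ hg₀ hh₀ (sym (Dd_symm hx hxy) hh₀ hg₀ hl)
    · refine reduce (d * x) (d * y) (Or.inr (Or.inr ⟨hx, hdx, by simp⟩)) (Or.inr (Or.inr ⟨hy, hdy, by simp⟩)) ?_
      obtain ⟨-, hl⟩ := hH.lift_far_pair hcl hd hx hy hxy.2.2 (Ne.symm hxy.2.1) hdx hdy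
      have sx := mul_self hs hx
      have e1 : (d * x)⁻¹ = x * d := by simp [mul_inv_rev, inv_eq hs hd, inv_eq hs hx]
      rw [e1, show x * d * y * (d * x) = x * y * d * (x * y)⁻¹ by
        rw [mul_inv_rev, inv_eq hs hx, inv_eq hs hy]
        calc x * d * y * (d * x) = x * (d * y * d) * x := by simp [mul_assoc]
          _ = _ := by rw [braid hs hd hy hdy]; simp [mul_assoc],
        show x * d * (d * y) = x * y by simp [mul_assoc, mul_self_mul hs hd]]
      exact hl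

/-- The centraliser of `d` is generated by the members it contains. -/
theorem centralizer_eq : Subgroup.centralizer ({d} : Set G) = Kc D d := by
  have hs := hcl.set
  refine le_antisymm (fun g hg => ?_) ((Subgroup.closure_le _).2 fun y hy => by
    rw [SetLike.mem_coe, Subgroup.mem_centralizer_singleton_iff]
    exact hy.2.eq.symm)
  let P : G → Prop := fun m => ∀ z g, Lift D d z g → Lift D d (m * z * m⁻¹) (m * g)
  have hmem : ∀ e ∈ D, P e := by
    intro e he
    by_cases hde : Commute d e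
    · exact fun z g h => h.conj hcl (Subgroup.subset_closure ⟨he, hde⟩)
    have hQ : ∀ z : D, ∀ g, Lift D d z g → Lift D d (e * z * e⁻¹) (e * g) := by
      intro z
      have hreach := (hC.connected_of_primitive hprim hw).preconnected ⟨d, hd⟩ z
      rw [SimpleGraph.reachable_iff_reflTransGen] at hreach
      induction hreach with
      | refl =>
        intro g hg
        rcases hg with ⟨-, hgK⟩ | ⟨h1, -⟩ | ⟨-, hn, -⟩
        · have hb : e * d * e⁻¹ = d * e * d := by rw [inv_eq hs he, ← braid hs hd he hde]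
          have hl : Lift D d (e * d * e⁻¹) e := by
            refine Or.inr (Or.inr ⟨hcl.conj e d hd, ?_, ?_⟩)
            · rw [hb]
              intro h
              apply hde
              have h2 := (commute_conj_iff d d (d * e * d)).2 h
              rw [inv_eq hs hd, show d * (d * e * d) * d = e by simp [mul_assoc, mul_self hs hd, mul_self_mul hs hd],
                show d * d * d = d by rw [mul_self hs hd, one_mul]] at h2
              exact h2
            · rw [hb, show (d * (d * e * d))⁻¹ * e = d by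
                simp [mul_inv_rev, inv_eq hs hd, inv_eq hs he, mul_assoc, mul_self hs he, mul_self_mul hs hd]]
              exact self_mem_Kc hd
          exact hl.mul hgK
        · exact absurd rfl h1.2.1
        · exact absurd (Commute.refl _) hn
      | @tail u v _ huv ih =>
        obtain ⟨hne, huv⟩ := (SimpleGraph.fromRel_adj _ _ _).1 huv
        have hcm : Commute (u : G) v := huv.elim id Commute.symm
        intro h hh
        obtain ⟨g, hg⟩ := hH.lift_exists hcl hd u.2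
        have hg' := ih g hg
        obtain ⟨h', hh'⟩ := hH.lift_exists hcl hd (hcl.conj e v v.2)
        have hvu : (v : G) ∈ Dd D (u : G) := ⟨v.2, fun k => hne (Subtype.ext k.symm), hcm⟩
        have h1 := hH.compat hcl hd hC hprim hw hvu u.2 hg hh
        have h2 := hH.compat hcl hd hC hprim hw
          (x := e * u * e⁻¹) (y := e * v * e⁻¹) ⟨hcl.conj e v v.2, fun k => hvu.2.1
            (mul_left_cancel (mul_right_cancel k)), (commute_conj_iff e (u : G) v).2 hcm⟩ (hcl.conj e u u.2) hg' hh'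
        rw [show (e * g)⁻¹ * (e * v * e⁻¹) * (e * g) = g⁻¹ * v * g by group] at h2
        have hk := hH.lift_unique hcl hd h2 h1
        have := hh'.mul hk
        rwa [show h' * (((e * g)⁻¹ * h')⁻¹ * (g⁻¹ * h)) = e * h by group] at this
    intro z g hz
    exact hQ ⟨z, (Lift.spec hcl hd hz).2⟩ g hz
  have hPall : ∀ m₀ : G, P m₀ := by
    intro m₀
    have hgen : m₀ ∈ Subgroup.closure D := hC.gen ▸ Subgroup.mem_top m₀
    rw [← Subgroup.mem_toSubmonoid, Subgroup.closure_toSubmonoid_of_finite] at hgen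
    induction hgen using Submonoid.closure_induction with
    | mem m hm => exact hmem m hm
    | one => intro z g h; simpa using h
    | mul m n _ _ ihm ihn =>
      intro z k h
      simpa [mul_assoc] using ihm _ _ (ihn z k h)
  have h1 := hPall g d 1 (Or.inl ⟨rfl, one_mem _⟩)
  rw [mul_one, Subgroup.mem_centralizer_singleton_iff.1 hg, mul_inv_cancel_right] at h1
  rcases h1 with ⟨-, h1⟩ | ⟨h1, -⟩ | ⟨-, h1, -⟩
  · exact h1
  · exact absurd rfl h1.2.1
  · exact absurd (Commute.refl _) h1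

end CoverHyp

end CfsgLib.ThreeTrans.Tower
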