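import Mathlib
import Cfsg.Agent.Lib.ThreeTrans.HexM22
import Cfsg.Agent.Lib.ThreeTrans.Tower.Cover

/-! The properties passed up the tower of types M(22), M(23), M(24), and the model of the members commuting
with one member inside the quotient group at that member. -/

set_option autoImplicit false

namespace CfsgLib.ThreeTrans.Tower

/-- A class of 3-transpositions with rank three, no twins, and centralisers of members generated by members. -/
structure Local {Y : Type*} [Group Y] (E : Set Y) (N k l m : ℕ) : Prop where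
  group : Cfsg.IsThreeTranspositionGroup E
  center : Subgroup.center Y = ⊥
  rigid : Rigid E
  wTwins : ∀ a ∈ E, ∀ b ∈ E, a ≠ b → Dd E a ≠ Dd E b
  stab : ∀ a ∈ E, ∀ g : Y, Commute g a → g ∈ Kc E a
  perp : ∀ a ∈ E, ∀ b ∈ Dd E a, ∀ b' ∈ Dd E a, ∃ g : Y, Commute g a ∧ g * b * g⁻¹ = b'
  farT : ∀ a ∈ E, ∀ c ∈ E, ∀ c' ∈ E, ¬ Commute a c → ¬ Commute a c' → ∃ g : Y, Commute g a ∧ g * c * g⁻¹ = c'
  farTwins : ∀ a ∈ E, ∀ p ∈ E, ∀ q ∈ E, ¬ Commute a p → ¬ Commute a q →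
    (∀ u ∈ Dd E a, (Commute p u ↔ Commute q u)) → q = p ∨ q = a * p * a
  edge : ∀ a ∈ E, ∀ c ∈ E, ¬ Commute a c →
    ∃ x y : Y, x ∈ Dd E a ∧ x ∈ Dd E c ∧ y ∈ Dd E a ∧ y ∈ Dd E c ∧ y ∈ Dd E x
  common : ∀ x ∈ E, ∀ b ∈ Dd E x, ∀ b' ∈ Dd E x, ¬ Commute b b' →
    ∃ z, z ∈ Dd E x ∧ z ∈ Dd E b ∧ z ∈ Dd E b'
  indec : ∀ a ∈ E, ∀ c ∈ E, ¬ Commute a c → ∀ O : Set Y, O ⊆ Dd E a ∩ Dd E c → O.Nonempty →
    ((Dd E a ∩ Dd E c) \ O).Nonempty → ∃ x ∈ O, ∃ y ∈ (Dd E a ∩ Dd E c) \ O, ¬ Commute x y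
  card : E.ncard = N
  deg : ∀ a ∈ E, (Dd E a).ncard = k
  lam : ∀ a ∈ E, ∀ b ∈ Dd E a, (Dd E a ∩ Dd E b).ncard = l
  mu : ∀ a ∈ E, ∀ c ∈ E, ¬ Commute a c → (Dd E a ∩ Dd E c).ncard = m

variable {G : Type*} [Group G] {D : Set G} {a : G} {Y : Type*} [Group Y]

open Classical in
/-- The image of a member commuting with `a`. -/
noncomputable def phi (π : Hd D a →* Y) (x : G) : Y :=
  if h : x ∈ Dd D a then π ⟨x, Subgroup.subset_closure h⟩ else 1

theorem phi_of_mem (π : Hd D a →* Y) {x : Hd D a} (h : (x : G) ∈ Dd D a) : phi π (x : G) = π x := by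
  rw [phi, dif_pos h]

/-- The quotient map at a member, with the hypotheses that make it faithful on the members. -/
structure Model (D : Set G) (a : G) (E : Set Y) (π : Hd D a →* Y) : Prop where
  base : IsBase D a π
  img : imgSet D a π = E
  cls : ∀ p ∈ D, ∀ q ∈ D, ∃ g : G, g * p * g⁻¹ = q
  twins : NoTwins D

namespace Model

variable [Finite G] {E : Set Y} {π : Hd D a →* Y} (M : Model D a E π)
include M

omit [Finite G] in
theorem mem_self : a ∈ D := M.base.mem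

theorem mem {x : G} (h : x ∈ Dd D a) : phi π x ∈ E := by
  rw [← M.img, phi_of_mem π (x := ⟨x, Subgroup.subset_closure h⟩) h]
  exact M.base.img_mem M.cls M.twins h

theorem inj {x y : G} (hx : x ∈ Dd D a) (hy : y ∈ Dd D a) (h : phi π x = phi π y) : x = y := by
  rw [phi_of_mem π (x := ⟨x, Subgroup.subset_closure hx⟩) hx,
    phi_of_mem π (x := ⟨y, Subgroup.subset_closure hy⟩) hy] at h
  exact congrArg Subtype.val (M.base.img_injective M.cls M.twins
    (x := ⟨x, Subgroup.subset_closure hx⟩) (y := ⟨y, Subgroup.subset_closure hy⟩) hx hy h)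

theorem comm {x y : G} (hx : x ∈ Dd D a) (hy : y ∈ Dd D a) : Commute (phi π x) (phi π y) ↔ Commute x y := by
  rw [phi_of_mem π (x := ⟨x, Subgroup.subset_closure hx⟩) hx,
    phi_of_mem π (x := ⟨y, Subgroup.subset_closure hy⟩) hy]
  exact M.base.commute_img hx hy

omit [Finite G] in
theorem onto {e : Y} (he : e ∈ E) : ∃ x ∈ Dd D a, phi π x = e := by
  obtain ⟨-, x, hx, rfl⟩ := (M.img.symm ▸ he : e ∈ imgSet D a π)
  exact ⟨x, hx, phi_of_mem π hx⟩

omit [Finite G] in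
theorem conj_mem (h : Hd D a) {x : G} (hx : x ∈ Dd D a) : (h : G) * x * (h : G)⁻¹ ∈ Dd D a :=
  conj_mem_Dd (conjClosed_of_group M.base.group) (commute_of_mem_Hd h.2) hx

omit [Finite G] in
theorem phi_conj (h : Hd D a) {x : G} (hx : x ∈ Dd D a) :
    phi π ((h : G) * x * (h : G)⁻¹) = π h * phi π x * (π h)⁻¹ := by
  have h1 := phi_of_mem π (x := h * ⟨x, Subgroup.subset_closure hx⟩ * h⁻¹) (M.conj_mem h hx)
  rw [map_mul, map_mul, map_inv, ← phi_of_mem π (x := ⟨x, Subgroup.subset_closure hx⟩) hx] at h1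
  exact h1

theorem mem_Dd {x y : G} (hx : x ∈ Dd D a) (hy : y ∈ Dd D a) : phi π y ∈ Dd E (phi π x) ↔ y ∈ Dd D x :=
  ⟨fun h => ⟨hy.1, fun e => h.2.1 (by rw [e]), (M.comm hx hy).1 h.2.2⟩,
    fun h => ⟨M.mem hy, fun e => h.2.1 (M.inj hy hx e), (M.comm hx hy).2 h.2.2⟩⟩

theorem card : (Dd D a).ncard = E.ncard := by
  have : phi π '' Dd D a = E := by
    ext e
    constructor
    · rintro ⟨x, hx, rfl⟩; exact M.mem hx
    · intro he
      obtain ⟨x, hx, rfl⟩ := M.onto he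
      exact ⟨x, hx, rfl⟩
  rw [← this, Set.InjOn.ncard_image fun x hx y hy h => M.inj hx hy h]

theorem card_one {x : G} (hx : x ∈ Dd D a) : (Dd D a ∩ Dd D x).ncard = (Dd E (phi π x)).ncard := by
  have : phi π '' (Dd D a ∩ Dd D x) = Dd E (phi π x) := by
    ext e
    constructor
    · rintro ⟨y, ⟨hy, hyx⟩, rfl⟩; exact (M.mem_Dd hx hy).2 hyx
    · intro he
      obtain ⟨y, hy, rfl⟩ := M.onto he.1
      exact ⟨y, ⟨hy, (M.mem_Dd hx hy).1 he⟩, rfl⟩
  rw [← this, Set.InjOn.ncard_image fun p hp q hq h => M.inj hp.1 hq.1 h]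

theorem card_two {x z : G} (hx : x ∈ Dd D a) (hz : z ∈ Dd D a) :
    (Dd D a ∩ (Dd D x ∩ Dd D z)).ncard = (Dd E (phi π x) ∩ Dd E (phi π z)).ncard := by
  have : phi π '' (Dd D a ∩ (Dd D x ∩ Dd D z)) = Dd E (phi π x) ∩ Dd E (phi π z) := by
    ext e
    constructor
    · rintro ⟨y, ⟨hy, hyx, hyz⟩, rfl⟩; exact ⟨(M.mem_Dd hx hy).2 hyx, (M.mem_Dd hz hy).2 hyz⟩
    · intro he
      obtain ⟨y, hy, rfl⟩ := M.onto he.1.1
      exact ⟨y, ⟨hy, (M.mem_Dd hx hy).1 he.1, (M.mem_Dd hz hy).1 he.2⟩, rfl⟩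
  rw [← this, Set.InjOn.ncard_image fun p hp q hq h => M.inj hp.1 hq.1 h]

omit M in
/-- An element of the subgroup generated by members commuting with `a`, up to `a`. -/
theorem Kc_decomp (hs : Cfsg.IsThreeTranspositionSet D) (ha : a ∈ D) {h : G} (hh : h ∈ Kc D a) :
    ∃ h₀ : Hd D a, h = h₀ ∨ h = a * h₀ := by
  induction hh using Subgroup.closure_induction with
  | mem y hy =>
    by_cases e : y = a
    · exact ⟨1, Or.inr (by rw [e]; simp)⟩
    · exact ⟨⟨y, Subgroup.subset_closure ⟨hy.1, e, hy.2⟩⟩, Or.inl rfl⟩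
  | one => exact ⟨1, Or.inl rfl⟩
  | mul p q _ _ hp hq =>
    obtain ⟨u, hu⟩ := hp
    obtain ⟨v, hv⟩ := hq
    have hc : a * (u : G) = u * a := (commute_of_mem_Hd u.2).eq.symm
    refine ⟨u * v, ?_⟩
    rcases hu with rfl | rfl <;> rcases hv with rfl | rfl
    · exact Or.inl rfl
    · right; rw [Subgroup.coe_mul, ← mul_assoc, ← mul_assoc, ← hc]
    · right; rw [Subgroup.coe_mul, mul_assoc]
    · left; rw [Subgroup.coe_mul, mul_assoc, ← mul_assoc (u : G), ← hc]; simp [mul_assoc, mul_self_mul hs ha]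
  | inv p _ hp =>
    obtain ⟨u, hu⟩ := hp
    refine ⟨u⁻¹, ?_⟩
    rcases hu with rfl | rfl
    · exact Or.inl rfl
    · right
      rw [mul_inv_rev, inv_eq hs ha, Subgroup.coe_inv, ((commute_of_mem_Hd u.2).inv_left).eq]

/-- Elements of the quotient centralising a member lift to products of members commuting with it. -/
theorem lift_Kc {b : G} (hb : b ∈ Dd D a) {k : Y} (hk : k ∈ Kc E (phi π b)) :
    ∃ h : Hd D a, (h : G) ∈ Subgroup.closure (ClassTwo.cD D a ∩ ClassTwo.cD D b) ∧ π h = k := by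
  induction hk using Subgroup.closure_induction with
  | mem e he =>
    obtain ⟨x, hx, rfl⟩ := M.onto he.1
    exact ⟨⟨x, Subgroup.subset_closure hx⟩,
      Subgroup.subset_closure ⟨⟨hx.1, hx.2.2⟩, ⟨hx.1, (M.comm hb hx).1 he.2⟩⟩, (phi_of_mem π hx).symm⟩
  | one => exact ⟨1, one_mem _, map_one π⟩
  | mul p q _ _ hp hq =>
    obtain ⟨u, hu, rfl⟩ := hp
    obtain ⟨v, hv, rfl⟩ := hq
    exact ⟨u * v, mul_mem hu hv, map_mul π u v⟩
  | inv p _ hp =>
    obtain ⟨u, hu, rfl⟩ := hp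
    exact ⟨u⁻¹, inv_mem hu, map_inv π u⟩

end Model

end CfsgLib.ThreeTrans.Tower
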