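import Mathlib

/-! Counting in graphs with constant parameters: the integrality condition, and a lower bound which forces
every vertex outside a set to have a neighbour in it. -/

set_option autoImplicit false

namespace CfsgLib.ThreeTrans.Tower

open Finset Matrix

variable {V : Type*} [Fintype V] [DecidableEq V]

/-- Constant valency `k`, `l` common neighbours for neighbours and `m` for the other pairs of distinct vertices. -/
structure IsSrg (R : V → V → Prop) [DecidableRel R] (k l m : ℕ) : Prop where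
  symm : ∀ u w, R u w → R w u
  irr : ∀ u, ¬ R u u
  deg : ∀ u, (univ.filter (R u)).card = k
  adj : ∀ u w, R u w → (univ.filter fun z => R u z ∧ R z w).card = l
  far : ∀ u w, u ≠ w → ¬ R u w → (univ.filter fun z => R u z ∧ R z w).card = m

variable {R : V → V → Prop} [DecidableRel R] {k l m : ℕ}

theorem IsSrg.common_count (h : IsSrg R k l m) (u w : V) :
    ((univ.filter fun z => R u z ∧ R z w).card : ℤ) =
      ((k : ℤ) - m) * (if u = w then 1 else 0) + ((l : ℤ) - m) * (if R u w then 1 else 0) + m := by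
  by_cases huw : u = w
  · subst huw
    rw [show (univ.filter fun z => R u z ∧ R z u) = univ.filter (R u) from
      filter_congr fun z _ => ⟨fun hz => hz.1, fun hz => ⟨hz, h.symm u z hz⟩⟩, h.deg, if_pos rfl, if_neg (h.irr u)]
    ring
  · by_cases hR : R u w
    · rw [h.adj u w hR, if_neg huw, if_pos hR]; ring
    · rw [h.far u w huw hR, if_neg huw, if_neg hR]; ring

/-- The number of vertices and the integrality of the multiplicities. -/
theorem IsSrg.param [Nonempty V] (h : IsSrg R k l m) (hmk : m < k) :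
    (m : ℤ) * Fintype.card V = (k : ℤ) * k - ((l : ℤ) - m) * k - ((k : ℤ) - m) ∧
      ∃ n : ℤ, n * n * (((l : ℤ) - m) * ((l : ℤ) - m) + 4 * ((k : ℤ) - m)) =
        (2 * (k : ℤ) + ((Fintype.card V : ℤ) - 1) * ((l : ℤ) - m)) ^ 2 := by
  classical
  let A : Matrix V V ℝ := Matrix.of fun u w => if R u w then 1 else 0
  let J : Matrix V V ℝ := Matrix.of fun _ _ => 1
  set c : ℝ := (l : ℝ) - m with hc
  set v : ℝ := (Fintype.card V : ℝ) with hv
  have hv0 : v ≠ 0 := by rw [hv]; exact_mod_cast Fintype.card_ne_zero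
  have hAA : A * A = ((k : ℝ) - m) • (1 : Matrix V V ℝ) + c • A + (m : ℝ) • J := by
    ext u w
    have e : (A * A) u w = ((univ.filter fun z => R u z ∧ R z w).card : ℝ) := by
      simp only [Matrix.mul_apply, A, Matrix.of_apply, ite_mul, one_mul, zero_mul]
      rw [Finset.card_filter, Nat.cast_sum]
      refine Finset.sum_congr rfl fun z _ => ?_
      by_cases h1 : R u z <;> by_cases h2 : R z w <;> simp [h1, h2]
    have e2 := congrArg (fun t : ℤ => (t : ℝ)) (h.common_count u w)
    push_cast at e2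
    rw [e, e2]
    simp only [Matrix.add_apply, Matrix.smul_apply, Matrix.one_apply, A, J, Matrix.of_apply, smul_eq_mul, hc]
    split_ifs <;> ring
  have hAJ : A * J = (k : ℝ) • J := by
    ext u w
    simp only [Matrix.mul_apply, A, J, Matrix.of_apply, mul_one, Matrix.smul_apply, smul_eq_mul]
    rw [Finset.sum_boole, h.deg]
  have hJA : J * A = (k : ℝ) • J := by
    ext u w
    simp only [Matrix.mul_apply, A, J, Matrix.of_apply, one_mul, Matrix.smul_apply, smul_eq_mul, mul_one]
    rw [Finset.sum_boole, show (univ.filter fun x => R x w) = univ.filter (R w) from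
      filter_congr fun z _ => ⟨h.symm z w, h.symm w z⟩, h.deg]
  have hJJ : J * J = v • J := by
    ext u w
    simp [Matrix.mul_apply, J, hv]
  obtain ⟨x₀⟩ : Nonempty V := inferInstance
  have hid : (k : ℝ) * k = ((k : ℝ) - m) + c * k + m * v := by
    have e1 : A * A * J = ((k : ℝ) * k) • J := by
      rw [mul_assoc, hAJ, Matrix.mul_smul, hAJ, smul_smul]
    have e2 : A * A * J = (((k : ℝ) - m) + c * k + m * v) • J := by
      rw [hAA, add_mul, add_mul, Matrix.smul_mul, Matrix.smul_mul, Matrix.smul_mul, one_mul, hAJ, hJJ, smul_smul,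
        smul_smul, add_smul, add_smul]
    simpa [J] using congrFun (congrFun (e1.symm.trans e2) x₀) x₀
  have hcast : (m : ℤ) * Fintype.card V = (k : ℤ) * k - ((l : ℤ) - m) * k - ((k : ℤ) - m) := by
    have : (m : ℝ) * (Fintype.card V : ℝ) = (k : ℝ) * k - ((l : ℝ) - m) * k - ((k : ℝ) - m) := by
      rw [← hv, ← hc]; linarith [hid]
    exact_mod_cast this
  refine ⟨hcast, ?_⟩
  set D : ℝ := c * c + 4 * ((k : ℝ) - m) with hDdef
  have hD : 0 < D := by
    have : (m : ℝ) < k := by exact_mod_cast hmk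
    have := mul_self_nonneg c
    rw [hDdef]; linarith
  set s := Real.sqrt D with hs
  have hs2 : s * s = D := Real.mul_self_sqrt hD.le
  have hs0 : s ≠ 0 := fun e => by rw [e, zero_mul] at hs2; exact hD.ne hs2
  set P : Matrix V V ℝ := v⁻¹ • J with hP
  have hPP : P * P = P := by
    rw [hP, Matrix.smul_mul, Matrix.mul_smul, hJJ, smul_smul, smul_smul]
    congr 1; field_simp
  have hAP : A * P = (k : ℝ) • P := by rw [hP, Matrix.mul_smul, hAJ, smul_comm]
  have hPA : P * A = (k : ℝ) • P := by rw [hP, Matrix.smul_mul, hJA, smul_comm]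
  set B : Matrix V V ℝ := (2 : ℝ) • A - c • (1 : Matrix V V ℝ) - (2 * (k : ℝ) - c) • P with hB
  have hBP : B * P = 0 := by
    rw [hB, sub_mul, sub_mul, Matrix.smul_mul, Matrix.smul_mul, Matrix.smul_mul, hAP, hPP, one_mul]
    module
  have hPB : P * B = 0 := by
    rw [hB, mul_sub, mul_sub, Matrix.mul_smul, Matrix.mul_smul, Matrix.mul_smul, hPA, hPP, mul_one]
    module
  have hJP : J = v • P := by rw [hP, smul_smul, mul_inv_cancel₀ hv0, one_smul]
  have hBB : B * B = D • ((1 : Matrix V V ℝ) - P) := by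
    calc B * B = B * ((2 : ℝ) • A - c • (1 : Matrix V V ℝ)) - (2 * (k : ℝ) - c) • (B * P) := by
          conv_lhs => arg 2; rw [hB]
          rw [mul_sub, Matrix.mul_smul _ _ P]
      _ = (4 : ℝ) • (A * A) - (4 * c) • A + (c * c) • (1 : Matrix V V ℝ) -
          ((2 * (k : ℝ) - c) * (2 * (k : ℝ) - c)) • P := by
          rw [hBP, smul_zero, sub_zero, hB]
          simp only [mul_sub, sub_mul, Matrix.smul_mul, Matrix.mul_smul, one_mul, mul_one, hPA]
          module
      _ = D • ((1 : Matrix V V ℝ) - P) := by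
          have hmJ : (m : ℝ) • J = ((m : ℝ) * v) • P := by rw [mul_smul, ← hJP]
          rw [hAA, hmJ, hDdef]
          clear_value P
          match_scalars <;> first | ring1 | linear_combination (4 : ℝ) * hid | linear_combination (-4 : ℝ) * hid
  set E : Matrix V V ℝ := (1 / 2 : ℝ) • ((1 : Matrix V V ℝ) - P + s⁻¹ • B) with hE
  have hEE : E * E = E := by
    rw [hE]
    simp only [Matrix.smul_mul, Matrix.mul_smul, add_mul, mul_add, sub_mul, mul_sub, one_mul, mul_one, hPP, hBP,
      hPB, hBB]
    clear_value P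
    match_scalars <;> field_simp <;> first
      | ring1 | linear_combination hs2 | linear_combination (-1 : ℝ) * hs2 | linear_combination (2 : ℝ) * hs2
      | linear_combination (-2 : ℝ) * hs2
  have hidem : IsIdempotentElem (Matrix.toLin' E) := by
    unfold IsIdempotentElem
    rw [Module.End.mul_eq_comp, ← Matrix.toLin'_mul, hEE]
  obtain ⟨f, hf⟩ : ∃ f : ℕ, Matrix.trace E = (f : ℝ) :=
    ⟨_, by rw [← Matrix.trace_toLin'_eq]; exact ((LinearMap.IsIdempotentElem.isProj_range _) hidem).trace⟩
  have htA : Matrix.trace A = 0 := Finset.sum_eq_zero fun u _ => if_neg (h.irr u)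
  have htP : Matrix.trace P = 1 := by
    simp [Matrix.trace, hP, J, ← hv, mul_inv_cancel₀ hv0]
  have htB : Matrix.trace B = -(c * v) - (2 * (k : ℝ) - c) := by
    rw [hB, Matrix.trace_sub, Matrix.trace_sub, Matrix.trace_smul, Matrix.trace_smul, Matrix.trace_smul, htA,
      Matrix.trace_one, htP, ← hv, smul_eq_mul, smul_eq_mul, smul_eq_mul]
    ring
  have htE : 2 * (f : ℝ) - (v - 1) = (-(c * v) - (2 * (k : ℝ) - c)) / s := by
    rw [← hf, hE, Matrix.trace_smul, Matrix.trace_add, Matrix.trace_sub, Matrix.trace_smul s⁻¹ B, Matrix.trace_one, htP,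
      htB, ← hv, smul_eq_mul, smul_eq_mul]
    ring
  refine ⟨2 * (f : ℤ) - ((Fintype.card V : ℤ) - 1), ?_⟩
  have : (2 * (f : ℝ) - (v - 1)) * (2 * (f : ℝ) - (v - 1)) * D = (2 * (k : ℝ) + (v - 1) * c) ^ 2 := by
    rw [htE, ← hs2]; field_simp; ring
  rw [hDdef, hc, hv] at this
  exact_mod_cast this

/-- A vertex outside `S` has a neighbour in `S`, provided the numbers allow no exception. -/
theorem IsSrg.exists_neighbour (h : IsSrg R k l m) {S : Finset V} {i : ℕ}
    (hin : ∀ x ∈ S, (S.filter (R x)).card = i)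
    (hnum : ((Fintype.card V : ℤ) - S.card - 1) *
      ((S.card : ℤ) * k + (S.card : ℤ) * i * ((l : ℤ) - m) + (S.card : ℤ) * ((S.card : ℤ) - 1) * m - (S.card : ℤ) * i * i) <
        ((S.card : ℤ) * k - (S.card : ℤ) * i) ^ 2)
    {x : V} (hx : x ∉ S) : ∃ y ∈ S, R x y := by
  classical
  by_contra! hno
  let s : V → ℤ := fun z => ((S.filter (R z)).card : ℤ)
  have hs : ∀ z, s z = ∑ y ∈ S, if R z y then (1 : ℤ) else 0 := fun z => by
    simp only [s, Finset.sum_boole]
  have h1 : ∑ z, s z = (S.card : ℤ) * k := by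
    simp only [hs]
    rw [Finset.sum_comm, Finset.sum_congr rfl (g := fun _ => (k : ℤ)), Finset.sum_const, nsmul_eq_mul]
    intro y _
    rw [Finset.sum_boole, show (univ.filter fun z => R z y) = univ.filter (R y) from
      filter_congr fun z _ => ⟨h.symm z y, h.symm y z⟩, h.deg]
  have h2 : ∑ z, s z * s z = (S.card : ℤ) * k + (S.card : ℤ) * i * ((l : ℤ) - m) +
      (S.card : ℤ) * ((S.card : ℤ) - 1) * m := by
    simp only [hs, Finset.sum_mul_sum]
    rw [Finset.sum_comm, Finset.sum_congr rfl (g := fun _ => ((k : ℤ) - m) + i * ((l : ℤ) - m) + (S.card : ℤ) * m),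
      Finset.sum_const, nsmul_eq_mul]
    · ring
    intro y hy
    rw [Finset.sum_comm, Finset.sum_congr rfl (g := fun y' => ((k : ℤ) - m) * (if y = y' then 1 else 0) +
      ((l : ℤ) - m) * (if R y y' then 1 else 0) + m)]
    · rw [Finset.sum_add_distrib, Finset.sum_add_distrib, ← Finset.mul_sum, ← Finset.mul_sum, Finset.sum_const,
        Finset.sum_boole, Finset.sum_boole, hin y hy, Finset.filter_eq, if_pos hy, nsmul_eq_mul,
        Finset.card_singleton]
      push_cast; ring
    intro y' _
    rw [← h.common_count y y', Finset.card_filter, Nat.cast_sum]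
    refine Finset.sum_congr rfl fun z _ => ?_
    by_cases p : R z y <;> by_cases p' : R z y' <;> simp [p, p', h.symm z y, mt (h.symm y z)]
  have hsum : ∀ f : V → ℤ, ∑ z, f z = ∑ z ∈ S, f z + ∑ z ∈ Sᶜ, f z := fun f => (Finset.sum_add_sum_compl S f).symm
  rw [hsum] at h1 h2
  have hiS : ∀ z ∈ S, s z = i := fun z hz => by simp only [s]; rw [hin z hz]
  rw [Finset.sum_congr rfl hiS, Finset.sum_const, nsmul_eq_mul] at h1
  rw [Finset.sum_congr rfl (fun z hz => by rw [hiS z hz] : ∀ z ∈ S, s z * s z = (i : ℤ) * i), Finset.sum_const,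
    nsmul_eq_mul] at h2
  have hxc : x ∈ Sᶜ := Finset.mem_compl.2 hx
  have hx0 : s x = 0 := by
    simp only [s]
    rw [Finset.filter_false_of_mem hno, Finset.card_empty]; rfl
  rw [← Finset.add_sum_erase _ _ hxc, hx0] at h1 h2
  have hcs := sq_sum_le_card_mul_sum_sq (s := Sᶜ.erase x) (f := s)
  simp only [pow_two] at hcs
  have hcard : ((Sᶜ.erase x).card : ℤ) = (Fintype.card V : ℤ) - S.card - 1 := by
    rw [Finset.card_erase_of_mem hxc, Finset.card_compl]
    have hlt : S.card < Fintype.card V := by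
      rw [← Finset.card_univ]
      exact Finset.card_lt_card (Finset.ssubset_univ_iff.2 fun e => hx (e ▸ Finset.mem_univ x))
    omega
  rw [hcard] at hcs
  have e1 : ∑ z ∈ Sᶜ.erase x, s z = (S.card : ℤ) * k - (S.card : ℤ) * i := by linarith [h1]
  have e2 : ∑ z ∈ Sᶜ.erase x, s z * s z = (S.card : ℤ) * k + (S.card : ℤ) * i * ((l : ℤ) - m) +
      (S.card : ℤ) * ((S.card : ℤ) - 1) * m - (S.card : ℤ) * i * i := by linarith [h2]
  rw [e1, e2] at hcs
  linarith [pow_two ((S.card : ℤ) * k - (S.card : ℤ) * i), hnum, hcs]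

end CfsgLib.ThreeTrans.Tower
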