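import Mathlib
import Cfsg.Agent.Lib.ThreeTrans.Tower.Local
import Cfsg.Agent.Lib.ThreeTrans.Tower.Srg
import Cfsg.Agent.Lib.ThreeTrans.FischerTypes

/-! One step up the tower: from the local data of the quotient at each member to the same data for the group. -/

set_option autoImplicit false

namespace CfsgLib.ThreeTrans.Tower

open CfsgLib.Sporadic.RankThree (perp_transitive far_transitive exists_common)

/-- The hypotheses of a step. -/
structure Stage {G Y : Type*} [Group G] [Group Y] (D : Set G) (E : Set Y) (N k l m : ℕ) : Prop where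
  group : Cfsg.IsThreeTranspositionGroup D
  prim : Cfsg.IsPrimitiveUnderConj D
  center : Subgroup.center G = ⊥
  loc : Local E N k l m
  base : ∀ a ∈ D, ∃ π : Hd D a →* Y, Model D a E π

theorem card_filter_subtype {G : Type*} {T : Set G} [Fintype T] (P : G → Prop) [DecidablePred fun v : T => P v] :
    (Finset.univ.filter fun v : T => P v).card = (T ∩ {x | P x}).ncard := by
  rw [← Set.ncard_coe_finset, ← Set.ncard_image_of_injective _ Subtype.val_injective]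
  congr 1
  ext x
  simp [and_comm]

namespace Stage

variable {G Y : Type*} [Group G] [Finite G] [Group Y] {D : Set G} {E : Set Y} {N k l m : ℕ}
  (S : Stage D E N k l m)
include S

omit [Finite G] in
theorem closed : ConjClosed D := conjClosed_of_group S.group

omit [Finite G] in
theorem threeSet : Cfsg.IsThreeTranspositionSet D := S.group.1

theorem classTwo : ClassTwo D := classTwo_of_primitive S.group S.prim

omit [Finite G] in
theorem width : ∃ a ∈ D, ∃ b ∈ D, a ≠ b ∧ Commute a b := by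
  obtain ⟨d, hd, -⟩ := S.prim.2.1
  obtain ⟨π, M⟩ := S.base d hd
  obtain ⟨e, he, -⟩ := S.loc.rigid.nonabelian
  obtain ⟨x, hx, -⟩ := M.onto he
  exact ⟨d, hd, x, hx.1, Ne.symm hx.2.1, hx.2.2⟩

theorem twins : NoTwins D := noTwins_of_primitive S.group S.prim S.width

theorem deg {a : G} (ha : a ∈ D) : (Dd D a).ncard = N := by
  obtain ⟨π, M⟩ := S.base a ha
  rw [M.card, S.loc.card]

theorem lam {a b : G} (ha : a ∈ D) (hb : b ∈ Dd D a) : (Dd D a ∩ Dd D b).ncard = k := by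
  obtain ⟨π, M⟩ := S.base a ha
  rw [M.card_one hb, S.loc.deg _ (M.mem hb)]

theorem inner {a c x : G} (ha : a ∈ D) (hc : c ∈ D) (hac : ¬ Commute a c) (hx : x ∈ Dd D a) (hxc : x ∈ Dd D c) :
    (Dd D x ∩ (Dd D a ∩ Dd D c)).ncard = m := by
  obtain ⟨π, M⟩ := S.base x hx.1
  rw [M.card_two (Dd_symm ha hx) (Dd_symm hc hxc)]
  exact S.loc.mu _ (M.mem (Dd_symm ha hx)) _ (M.mem (Dd_symm hc hxc))
    fun h => hac ((M.comm (Dd_symm ha hx) (Dd_symm hc hxc)).1 h)

theorem common {x b b' : G} (hx : x ∈ D) (hb : b ∈ Dd D x) (hb' : b' ∈ Dd D x) (h : ¬ Commute b b') :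
    ∃ z, z ∈ Dd D x ∧ z ∈ Dd D b ∧ z ∈ Dd D b' := by
  obtain ⟨π, M⟩ := S.base x hx
  obtain ⟨u, -, hu, hu', -, -, -⟩ := S.loc.edge _ (M.mem hb) _ (M.mem hb') fun e => h ((M.comm hb hb').1 e)
  obtain ⟨z, hz, rfl⟩ := M.onto hu.1
  exact ⟨z, hz, (M.mem_Dd hb hz).1 hu, (M.mem_Dd hb' hz).1 hu'⟩

theorem exists_common' {a c : G} (ha : a ∈ D) (hc : c ∈ D) (hac : ¬ Commute a c) :
    ∃ x, x ∈ Dd D a ∧ x ∈ Dd D c := by
  obtain ⟨x, hx, hxa, hax, hcx⟩ := exists_common S.classTwo S.prim S.width ha hc hac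
  exact ⟨x, ⟨hx, hxa, hax⟩, ⟨hx, fun e => hac (e ▸ hax), hcx⟩⟩

theorem edge {a c : G} (ha : a ∈ D) (hc : c ∈ D) (hac : ¬ Commute a c) :
    ∃ x y : G, x ∈ Dd D a ∧ x ∈ Dd D c ∧ y ∈ Dd D a ∧ y ∈ Dd D c ∧ y ∈ Dd D x := by
  obtain ⟨x, hx, hxc⟩ := S.exists_common' ha hc hac
  obtain ⟨y, hy1, hy2, hy3⟩ := S.common hx.1 (Dd_symm ha hx) (Dd_symm hc hxc) hac
  exact ⟨x, y, hx, hxc, hy2, hy3, hy1⟩

theorem pairConj {a c a' c' : G} (ha : a ∈ D) (hc : c ∈ D) (hac : ¬ Commute a c) (ha' : a' ∈ D) (hc' : c' ∈ D)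
    (hac' : ¬ Commute a' c') : ∃ g : G, g * a * g⁻¹ = a' ∧ g * c * g⁻¹ = c' := by
  obtain ⟨g, rfl⟩ := S.prim.1 a ha a' ha'
  have hn : ¬ Commute (g * a * g⁻¹) (g * c * g⁻¹) := by rwa [commute_conj_iff]
  obtain ⟨h, hh, hhc⟩ := far_transitive S.classTwo S.prim S.width ha' (S.closed.conj g c hc) hc' hn hac'
  refine ⟨h * g, ?_, ?_⟩
  · calc h * g * a * (h * g)⁻¹ = h * (g * a * g⁻¹) * h⁻¹ := by group
      _ = g * a * g⁻¹ := by rw [hh.eq, mul_inv_cancel_right]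
  · rw [← hhc]; group

theorem mu_eq {a c a' c' : G} (ha : a ∈ D) (hc : c ∈ D) (hac : ¬ Commute a c) (ha' : a' ∈ D) (hc' : c' ∈ D)
    (hac' : ¬ Commute a' c') : (Dd D a ∩ Dd D c).ncard = (Dd D a' ∩ Dd D c').ncard := by
  obtain ⟨g, rfl, rfl⟩ := S.pairConj ha hc hac ha' hc' hac'
  rw [← Set.ncard_image_of_injective (Dd D a ∩ Dd D c)
    (f := fun x => g * x * g⁻¹) fun x y h => mul_left_cancel (mul_right_cancel h)]
  congr 1
  ext y
  constructor
  · rintro ⟨x, ⟨h1, h2⟩, rfl⟩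
    exact ⟨conj_mem_Dd_conj S.closed g h1, conj_mem_Dd_conj S.closed g h2⟩
  · rintro ⟨h1, h2⟩
    refine ⟨g⁻¹ * y * g, ⟨?_, ?_⟩, by group⟩
    · have := conj_mem_Dd_conj S.closed g⁻¹ h1
      rwa [show g⁻¹ * (g * a * g⁻¹) * g⁻¹⁻¹ = a by group, inv_inv] at this
    · have := conj_mem_Dd_conj S.closed g⁻¹ h2
      rwa [show g⁻¹ * (g * c * g⁻¹) * g⁻¹⁻¹ = c by group, inv_inv] at this

theorem farTwins {a p q : G} (ha : a ∈ D) (hp : p ∈ D) (hq : q ∈ D) (hap : ¬ Commute a p) (haq : ¬ Commute a q)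
    (h : ∀ u ∈ Dd D a, (Commute p u ↔ Commute q u)) : q = p ∨ q = a * p * a := by
  obtain ⟨x, hxa, hxp⟩ := S.exists_common' ha hp hap
  have hxq : x ∈ Dd D q := ⟨hxa.1, fun e => haq (e ▸ hxa.2.2), (h x hxa).1 hxp.2.2⟩
  obtain ⟨π, M⟩ := S.base x hxa.1
  have ma := Dd_symm ha hxa
  have mp := Dd_symm hp hxp
  have mq := Dd_symm hq hxq
  rcases S.loc.farTwins _ (M.mem ma) _ (M.mem mp) _ (M.mem mq) (fun e => hap ((M.comm ma mp).1 e))
    (fun e => haq ((M.comm ma mq).1 e)) (fun u hu => by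
      obtain ⟨u', hu', rfl⟩ := M.onto hu.1
      rw [M.comm mp hu', M.comm mq hu']
      exact h u' ((M.mem_Dd ma hu').1 hu)) with e | e
  · exact Or.inl (M.inj mq mp e)
  · right
    have h1 := M.phi_conj ⟨a, Subgroup.subset_closure ma⟩ mp
    have hm := M.conj_mem ⟨a, Subgroup.subset_closure ma⟩ mp
    rw [← phi_of_mem π (x := ⟨a, Subgroup.subset_closure ma⟩) ma, inv_eq S.loc.group.1 (M.mem ma),
      inv_eq S.threeSet ha] at h1
    rw [inv_eq S.threeSet ha] at hm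
    exact M.inj mq hm (e.trans h1.symm)

theorem wTwins {a b : G} (ha : a ∈ D) (hb : b ∈ D) (hne : a ≠ b) : Dd D a ≠ Dd D b := fun h =>
  hne (S.classTwo.wRel_eq_self (S.classTwo.cores_of_primitive S.prim S.width).2
    (⟨ha, hb, h⟩ : WRel D a b)).symm

/-- Only `1` and `a` centralise all members commuting with `a`. -/
theorem kernel {a z : G} (ha : a ∈ D) (hza : Commute z a) (hz : ∀ y ∈ Dd D a, Commute z y) : z = 1 ∨ z = a := by
  have hs := S.threeSet
  have hC := S.classTwo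
  obtain ⟨e, he, hae⟩ := exists_not_commute hC.gen hC.closed hC.class_eq hC.two ha
  have fix : ∀ w : G, (∀ y ∈ D, Commute a y → Commute w y) → Commute w e → w = 1 := by
    intro w hw hwe
    set H := Subgroup.closure ({y | y ∈ D ∧ Commute a y} ∪ {e})
    have hH : Cfsg.IsDSubgroup D H := by
      refine le_antisymm ((Subgroup.closure_le _).2 fun y hy => hy.2) ((Subgroup.closure_le _).2 ?_)
      intro y hy
      refine Subgroup.subset_closure ⟨?_, Subgroup.subset_closure hy⟩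
      rcases hy with hy | rfl
      exacts [hy.1, he]
    have hle : H ≤ Subgroup.centralizer ({w} : Set G) := by
      refine (Subgroup.closure_le _).2 ?_
      rintro y (hy | rfl)
      · rw [SetLike.mem_coe, Subgroup.mem_centralizer_singleton_iff]; exact (hw y hy.1 hy.2).eq.symm
      · rw [SetLike.mem_coe, Subgroup.mem_centralizer_singleton_iff]; exact hwe.eq.symm
    rcases (hC.dSubgroup_maximal S.prim S.width ha).2 H hH (Subgroup.closure_mono Set.subset_union_left) with h | h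
    · refine absurd (commute_Kc (D := D) (a := a) ?_).symm hae
      exact (h ▸ Subgroup.subset_closure (Or.inr rfl) : e ∈ Subgroup.closure {y | y ∈ D ∧ Commute a y})
    · have : w ∈ Subgroup.center G := mem_center_of_commute hC.gen fun y _ =>
        (Subgroup.mem_centralizer_singleton_iff.1 (hle (h ▸ Subgroup.mem_top y))).symm
      rwa [S.center, Subgroup.mem_bot] at this
  have hfix : z * a * z⁻¹ = a := by rw [hza.eq, mul_inv_cancel_right]
  have hze : ¬ Commute a (z * e * z⁻¹) := by rw [← hfix, commute_conj_iff]; exact hae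
  have hall : ∀ y ∈ D, Commute a y → Commute z y := fun y hy hay => by
    by_cases e' : y = a
    · exact e' ▸ hza
    · exact hz y ⟨hy, e', hay⟩
  rcases S.farTwins ha he (S.closed.conj z e he) hae hze (fun u hu => by
      have hu' : z * u * z⁻¹ = u := by rw [(hz u hu).eq, mul_inv_cancel_right]
      constructor
      · intro h; rw [← hu', commute_conj_iff]; exact h
      · intro h; rwa [← hu', commute_conj_iff] at h) with h | h
  · exact Or.inl (fix z hall (mul_inv_eq_iff_eq_mul.1 h))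
  · right
    have hz1 : z * a = 1 := by
      refine fix (z * a) (fun y hy hay => (hall y hy hay).mul_left hay) (mul_inv_eq_iff_eq_mul.1 ?_)
      calc z * a * e * (z * a)⁻¹ = z * (a * e * a) * z⁻¹ := by simp [mul_inv_rev, inv_eq hs ha, mul_assoc]
        _ = (z * a * z⁻¹) * (z * e * z⁻¹) * (z * a * z⁻¹) := by group
        _ = e := by rw [hfix, h]; simp [mul_assoc, mul_self hs ha, mul_self_mul hs ha]
    rw [mul_eq_one_iff_eq_inv, inv_eq hs ha] at hz1
    exact hz1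

/-- An element fixing `a` and `b` is generated by the members commuting with both. -/
theorem stab₂ {a b h : G} (ha : a ∈ D) (hb : b ∈ Dd D a) (hh : h ∈ Kc D a) (hhb : Commute h b) :
    h ∈ Subgroup.closure (ClassTwo.cD D a ∩ ClassTwo.cD D b) := by
  obtain ⟨π, M⟩ := S.base a ha
  set T := Subgroup.closure (ClassTwo.cD D a ∩ ClassTwo.cD D b)
  have haT : a ∈ T := Subgroup.subset_closure ⟨⟨ha, Commute.refl a⟩, ⟨ha, hb.2.2.symm⟩⟩
  obtain ⟨h₀, hh₀⟩ := Model.Kc_decomp S.threeSet ha hh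
  have hb₀ : Commute (h₀ : G) b := by
    rcases hh₀ with rfl | rfl
    · exact hhb
    · have := hb.2.2.inv_left.mul_left hhb
      rwa [inv_mul_cancel_left] at this
  have hk : Commute (π h₀) (phi π b) := by
    rw [phi_of_mem π (x := ⟨b, Subgroup.subset_closure hb⟩) hb]
    exact Commute.map (show Commute h₀ ⟨b, Subgroup.subset_closure hb⟩ from Subtype.ext hb₀) π
  obtain ⟨h₁, hh₁, e⟩ := M.lift_Kc hb (S.loc.stab _ (M.mem hb) _ hk)
  have hz := (M.base.map_eq_one_iff' (h₁⁻¹ * h₀)).1 (by rw [map_mul, map_inv, e, inv_mul_cancel])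
  have h2 : (h₀ : G) ∈ T := by
    have e2 : (h₀ : G) = h₁ * ((h₁⁻¹ * h₀ : Hd D a) : G) := by simp
    rw [e2]
    refine mul_mem hh₁ ?_
    rcases S.kernel ha (commute_of_mem_Hd (h₁⁻¹ * h₀).2) hz with h' | h' <;> rw [h']
    exacts [one_mem _, haT]
  rcases hh₀ with rfl | rfl
  exacts [h2, mul_mem haT h2]

theorem exists_srg_link {a : G} (ha : a ∈ D) [Fintype (Dd D a)]
    [DecidableRel fun u v : Dd D a => (v : G) ∈ Dd D (u : G)] :
    IsSrg (fun u v : Dd D a => (v : G) ∈ Dd D (u : G)) k l m := by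
  classical
  obtain ⟨π, M⟩ := S.base a ha
  refine ⟨fun u w h => Dd_symm u.2.1 h, fun u h => h.2.1 rfl, fun u => ?_, fun u w h => ?_, fun u w hne h => ?_⟩
  · have := card_filter_subtype (T := Dd D a) (fun x => x ∈ Dd D (u : G))
    rw [this, show (Dd D a ∩ {x | x ∈ Dd D (u : G)}) = Dd D a ∩ Dd D (u : G) from rfl, M.card_one u.2]
    exact S.loc.deg _ (M.mem u.2)
  · have e : (Finset.univ.filter fun z : Dd D a => (z : G) ∈ Dd D (u : G) ∧ (w : G) ∈ Dd D (z : G)) =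
        Finset.univ.filter fun z : Dd D a => (z : G) ∈ Dd D (u : G) ∧ (z : G) ∈ Dd D (w : G) :=
      Finset.filter_congr fun z _ => and_congr_right fun _ => ⟨Dd_symm z.2.1, Dd_symm w.2.1⟩
    rw [e, card_filter_subtype (T := Dd D a) (fun x => x ∈ Dd D (u : G) ∧ x ∈ Dd D (w : G)),
      show (Dd D a ∩ {x | x ∈ Dd D (u : G) ∧ x ∈ Dd D (w : G)}) = Dd D a ∩ (Dd D (u : G) ∩ Dd D (w : G)) from rfl,
      M.card_two u.2 w.2]
    exact S.loc.lam _ (M.mem u.2) _ ((M.mem_Dd u.2 w.2).2 h)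
  · have e : (Finset.univ.filter fun z : Dd D a => (z : G) ∈ Dd D (u : G) ∧ (w : G) ∈ Dd D (z : G)) =
        Finset.univ.filter fun z : Dd D a => (z : G) ∈ Dd D (u : G) ∧ (z : G) ∈ Dd D (w : G) :=
      Finset.filter_congr fun z _ => and_congr_right fun _ => ⟨Dd_symm z.2.1, Dd_symm w.2.1⟩
    rw [e, card_filter_subtype (T := Dd D a) (fun x => x ∈ Dd D (u : G) ∧ x ∈ Dd D (w : G)),
      show (Dd D a ∩ {x | x ∈ Dd D (u : G) ∧ x ∈ Dd D (w : G)}) = Dd D a ∩ (Dd D (u : G) ∩ Dd D (w : G)) from rfl,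
      M.card_two u.2 w.2]
    exact S.loc.mu _ (M.mem u.2) _ (M.mem w.2) fun hc =>
      h ⟨w.2.1, fun e => hne (Subtype.ext e.symm), (M.comm u.2 w.2).1 hc⟩

theorem exists_srg [Fintype D] [DecidableRel fun u v : D => (v : G) ∈ Dd D (u : G)] {μ : ℕ}
    (hμ : ∀ a ∈ D, ∀ c ∈ D, ¬ Commute a c → (Dd D a ∩ Dd D c).ncard = μ) :
    IsSrg (fun u v : D => (v : G) ∈ Dd D (u : G)) N k μ := by
  classical
  refine ⟨fun u w h => Dd_symm u.2 h, fun u h => h.2.1 rfl, fun u => ?_, fun u w h => ?_, fun u w hne h => ?_⟩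
  · rw [card_filter_subtype (T := D) (fun x => x ∈ Dd D (u : G)), ← S.deg u.2]
    congr 1
    ext x
    exact ⟨fun h => h.2, fun h => ⟨h.1, h⟩⟩
  all_goals
    have e : (Finset.univ.filter fun z : D => (z : G) ∈ Dd D (u : G) ∧ (w : G) ∈ Dd D (z : G)) =
        Finset.univ.filter fun z : D => (z : G) ∈ Dd D (u : G) ∧ (z : G) ∈ Dd D (w : G) :=
      Finset.filter_congr fun z _ => and_congr_right fun _ => ⟨Dd_symm z.2, Dd_symm w.2⟩
    have e2 : (D ∩ {x | x ∈ Dd D (u : G) ∧ x ∈ Dd D (w : G)}) = Dd D (u : G) ∩ Dd D (w : G) :=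
      Set.inter_eq_right.2 fun x hx => hx.1.1
    rw [e, card_filter_subtype (T := D) (fun x => x ∈ Dd D (u : G) ∧ x ∈ Dd D (w : G)), e2]
  · exact S.lam u.2 h
  · exact hμ _ u.2 _ w.2 fun hc => h ⟨w.2, fun e => hne (Subtype.ext e.symm), hc⟩

/-- The parameters of the commuting graph. -/
theorem param {a c : G} (ha : a ∈ D) (hc : c ∈ D) (hac : ¬ Commute a c) :
    ((Dd D a ∩ Dd D c).ncard : ℤ) * D.ncard =
        (N : ℤ) * N - ((k : ℤ) - (Dd D a ∩ Dd D c).ncard) * N - ((N : ℤ) - (Dd D a ∩ Dd D c).ncard) ∧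
      ((Dd D a ∩ Dd D c).ncard < N ∧ ∃ n : ℤ, n * n * (((k : ℤ) - (Dd D a ∩ Dd D c).ncard) *
        ((k : ℤ) - (Dd D a ∩ Dd D c).ncard) + 4 * ((N : ℤ) - (Dd D a ∩ Dd D c).ncard)) =
        (2 * (N : ℤ) + ((D.ncard : ℤ) - 1) * ((k : ℤ) - (Dd D a ∩ Dd D c).ncard)) ^ 2) := by
  classical
  haveI := Fintype.ofFinite D
  have hlt : (Dd D a ∩ Dd D c).ncard < N := by
    rw [← S.deg ha]
    refine Set.ncard_lt_ncard ⟨Set.inter_subset_left, fun h => ?_⟩ (Set.toFinite _)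
    obtain ⟨b, hb, y, hy, hba, hya, hab, hay, -, -, hcy⟩ :=
      CfsgLib.Sporadic.RankThree.exists_crossing S.classTwo S.prim S.width ha hc hac
    exact hcy (h ⟨hy, hya, hay⟩).2.2.2
  haveI : Nonempty D := ⟨⟨a, ha⟩⟩
  obtain ⟨h1, h2⟩ := (S.exists_srg (μ := (Dd D a ∩ Dd D c).ncard)
    fun a' ha' c' hc' h => S.mu_eq ha' hc' h ha hc hac).param hlt
  rw [← Nat.card_eq_fintype_card, Nat.card_coe_set_eq] at h1 h2
  exact ⟨h1, hlt, h2⟩

theorem indec {a c : G} (ha : a ∈ D) (hc : c ∈ D) (hac : ¬ Commute a c) {O : Set G}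
    (hO : O ⊆ Dd D a ∩ Dd D c) (hne : O.Nonempty) (hne' : ((Dd D a ∩ Dd D c) \ O).Nonempty) :
    ∃ x ∈ O, ∃ y ∈ (Dd D a ∩ Dd D c) \ O, ¬ Commute x y := by
  by_contra! hall
  have hadj : ∀ {x y : G}, x ∈ O → y ∈ (Dd D a ∩ Dd D c) \ O → y ∈ Dd D x := fun {x y} hx hy =>
    ⟨hy.1.1.1, fun e => hy.2 (e ▸ hx), hall x hx y hy⟩
  have key : ∀ (A B : Set G), A ⊆ Dd D a ∩ Dd D c → B ⊆ Dd D a ∩ Dd D c → B.Nonempty →
      (∀ p ∈ A, ∀ q ∈ B, q ∈ Dd D p) → (∀ p ∈ Dd D a ∩ Dd D c, p ∈ A ∨ p ∈ B) → Disjoint A B →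
      ∀ p ∈ A, ∀ q ∈ A, q ∉ Dd D p := by
    intro A B hA hB hBne hAB hcov hdis p hp q hq hqp
    have hpx := (hA hp).1
    obtain ⟨π, M⟩ := S.base p hpx.1
    have ma := Dd_symm ha hpx
    have mc := Dd_symm hc (hA hp).2
    obtain ⟨u, ⟨u', hu', rfl⟩, v, ⟨⟨hva, hvc⟩, hvn⟩, huv⟩ := S.loc.indec _ (M.mem ma) _ (M.mem mc)
      (fun e => hac ((M.comm ma mc).1 e)) (phi π '' (A ∩ Dd D p))
      (by
        rintro _ ⟨w, ⟨hw, hwp⟩, rfl⟩
        exact ⟨(M.mem_Dd ma hwp).2 (hA hw).1, (M.mem_Dd mc hwp).2 (hA hw).2⟩)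
      ⟨_, q, ⟨hq, hqp⟩, rfl⟩
      (by
        obtain ⟨r, hr⟩ := hBne
        have hrp := hAB p hp r hr
        refine ⟨phi π r, ⟨(M.mem_Dd ma hrp).2 (hB hr).1, (M.mem_Dd mc hrp).2 (hB hr).2⟩, ?_⟩
        rintro ⟨w, ⟨hw, hwp⟩, e⟩
        exact Set.disjoint_left.1 hdis hw ((M.inj hwp hrp e).symm ▸ hr))
    obtain ⟨v', hv', rfl⟩ := M.onto hva.1
    refine huv ((M.comm hu'.2 hv').2 ?_)
    rcases hcov v' ⟨(M.mem_Dd ma hv').1 hva, (M.mem_Dd mc hv').1 hvc⟩ with h | h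
    · exact absurd ⟨v', ⟨h, hv'⟩, rfl⟩ hvn
    · exact (hAB u' hu'.1 v' h).2.2
  have h1 := key O _ hO (fun x hx => hx.1) hne' (fun p hp q hq => hadj hp hq)
    (fun p hp => (em (p ∈ O)).imp id fun h => ⟨hp, h⟩) (Set.disjoint_left.2 fun x hx hx' => hx'.2 hx)
  have h2 := key _ O (fun x hx => hx.1) hO hne (fun p hp q hq => Dd_symm (hO hq).1.1 (hadj hq hp))
    (fun p hp => (em (p ∈ O)).symm.imp (fun h => ⟨hp, h⟩) id) (Set.disjoint_left.2 fun x hx hx' => hx.2 hx')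
  obtain ⟨x, hx⟩ := hne
  obtain ⟨π, M⟩ := S.base x (hO hx).1.1
  have ma := Dd_symm ha (hO hx).1
  have mc := Dd_symm hc (hO hx).2
  obtain ⟨u, v, hua, huc, hva, hvc, huv⟩ :=
    S.loc.edge _ (M.mem ma) _ (M.mem mc) fun e => hac ((M.comm ma mc).1 e)
  obtain ⟨u', hu', rfl⟩ := M.onto hua.1
  obtain ⟨v', hv', rfl⟩ := M.onto hva.1
  have huS : u' ∈ Dd D a ∩ Dd D c := ⟨(M.mem_Dd ma hu').1 hua, (M.mem_Dd mc hu').1 huc⟩
  have hvS : v' ∈ Dd D a ∩ Dd D c := ⟨(M.mem_Dd ma hv').1 hva, (M.mem_Dd mc hv').1 hvc⟩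
  exact h2 u' ⟨huS, fun h => h1 x hx u' h hu'⟩ v' ⟨hvS, fun h => h1 x hx v' h hv'⟩ ((M.mem_Dd hu' hv').1 huv)

/-- The number of common neighbours divides the order of the group they generate modulo its centre. -/
theorem mu_dvd {a c : G} (ha : a ∈ D) (hc : c ∈ D) (hac : ¬ Commute a c) :
    (Dd D a ∩ Dd D c).ncard ∣ Nat.card (↥(Subgroup.closure (Dd D a ∩ Dd D c)) ⧸
      Subgroup.center ↥(Subgroup.closure (Dd D a ∩ Dd D c))) := by
  have hs := S.threeSet
  set L := Subgroup.closure (Dd D a ∩ Dd D c) with hL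
  letI : MulAction L G := MulAction.compHom G (MulAut.conj.comp L.subtype)
  have hsmul : ∀ (g : L) (x : G), g • x = (g : G) * x * (g : G)⁻¹ := fun g x => rfl
  obtain ⟨x, hxa, hxc⟩ := S.exists_common' ha hc hac
  have hgens : ∀ g ∈ L, Commute g a ∧ Commute g c := fun g hg => by
    induction hg using Subgroup.closure_induction with
    | mem y hy => exact ⟨hy.1.2.2.symm, hy.2.2.2.symm⟩
    | one => exact ⟨Commute.one_left _, Commute.one_left _⟩
    | mul p q _ _ hp hq => exact ⟨hp.1.mul_left hq.1, hp.2.mul_left hq.2⟩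
    | inv p _ hp => exact ⟨hp.1.inv_left, hp.2.inv_left⟩
  have horb : MulAction.orbit L x = Dd D a ∩ Dd D c := by
    have hsub : MulAction.orbit L x ⊆ Dd D a ∩ Dd D c := by
      rintro _ ⟨g, rfl⟩
      obtain ⟨hga, hgc⟩ := hgens g g.2
      refine ⟨?_, ?_⟩
      · have := conj_mem_Dd_conj S.closed (g : G) hxa
        rwa [hga.eq, mul_inv_cancel_right] at this
      · have := conj_mem_Dd_conj S.closed (g : G) hxc
        rwa [hgc.eq, mul_inv_cancel_right] at this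
    refine hsub.antisymm fun y hy => ?_
    by_contra hyo
    obtain ⟨w, hw, y', hy', hn⟩ := S.indec ha hc hac hsub ⟨x, MulAction.mem_orbit_self x⟩ ⟨y, hy, hyo⟩
    refine hy'.2 ?_
    have hmem : ∀ {u : G}, u ∈ Dd D a ∩ Dd D c → u ∈ L := fun hu => Subgroup.subset_closure hu
    have h1 : (⟨w, hmem (hsub hw)⟩ * ⟨y', hmem hy'.1⟩ : L) • w ∈ MulAction.orbit L x :=
      MulAction.mem_orbit_of_mem_orbit _ hw
    rw [hsmul, Subgroup.coe_mul,
      CfsgLib.Sporadic.RankThree.conj_braid hs (hsub hw).1.1 hy'.1.1.1 hn] at h1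
    exact h1
  have hcen : Subgroup.center L ≤ MulAction.stabilizer L x := by
    intro z hz
    rw [MulAction.mem_stabilizer_iff, hsmul]
    have hxL : x ∈ L := Subgroup.subset_closure ⟨hxa, hxc⟩
    have := congrArg Subtype.val (Subgroup.mem_center_iff.1 hz ⟨x, hxL⟩)
    simp only [Subgroup.coe_mul] at this
    rw [← this, mul_inv_cancel_right]
  have h := Subgroup.index_dvd_of_le hcen
  rw [MulAction.index_stabilizer, horb] at h
  exact h

variable {μ : ℕ}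

/-- The data for the covering argument. -/
theorem coverHyp (hμ : ∀ a ∈ D, ∀ c ∈ D, ¬ Commute a c → (Dd D a ∩ Dd D c).ncard = μ) (hk : 0 < k)
    (hnum : ((N : ℤ) - μ - 1) * ((μ : ℤ) * k + (μ : ℤ) * m * ((l : ℤ) - m) + (μ : ℤ) * ((μ : ℤ) - 1) * m -
      (μ : ℤ) * m * m) < ((μ : ℤ) * k - (μ : ℤ) * m) ^ 2) : CoverHyp D := by
  classical
  have hC := S.classTwo
  refine ⟨fun a ha b hb h hh hhb => S.stab₂ ha hb hh hhb, ?_, ?_, ?_, ?_, ?_⟩
  · intro a ha b hb b' hb'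
    obtain ⟨π, M⟩ := S.base a ha
    obtain ⟨g, hg⟩ := S.loc.rigid.class_eq _ (M.mem hb) _ (M.mem hb')
    obtain ⟨h, rfl⟩ := M.base.surj g
    refine ⟨h, Subgroup.closure_mono (Dd_subset_cD a) h.2, M.inj (M.conj_mem h hb) hb' ?_⟩
    rw [M.phi_conj h hb, hg]
  · intro a ha b hb x hxa hxb y hya hyb
    obtain ⟨π, M⟩ := S.base a ha
    obtain ⟨g, hg, hgx⟩ := S.loc.perp _ (M.mem hb) _ ((M.mem_Dd hb hxa).2 hxb) _ ((M.mem_Dd hb hya).2 hyb)
    obtain ⟨h, rfl⟩ := M.base.surj g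
    refine ⟨h, Subgroup.closure_mono (Dd_subset_cD a) h.2, ?_, M.inj (M.conj_mem h hxa) hya ?_⟩
    · refine mul_inv_eq_iff_eq_mul.1 (M.inj (M.conj_mem h hb) hb ?_)
      rw [M.phi_conj h hb, hg.eq, mul_inv_cancel_right]
    · rw [M.phi_conj h hxa, hgx]
  · intro a ha x hx
    have h := S.lam ha hx
    obtain ⟨b, hb⟩ := Set.nonempty_of_ncard_ne_zero (by omega : (Dd D a ∩ Dd D x).ncard ≠ 0)
    exact ⟨b, hb.1, hb.2⟩
  · intro a ha x hx b hba hbx b' hba' hbx' hn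
    obtain ⟨π, M⟩ := S.base a ha
    obtain ⟨z, hz1, hz2, hz3⟩ := S.loc.common _ (M.mem hx) _ ((M.mem_Dd hx hba).2 hbx) _
      ((M.mem_Dd hx hba').2 hbx') fun e => hn ((M.comm hba hba').1 e)
    obtain ⟨z', hz', rfl⟩ := M.onto hz1.1
    exact ⟨z', hz', (M.mem_Dd hx hz').1 hz1, (M.mem_Dd hba hz').1 hz2, (M.mem_Dd hba' hz').1 hz3⟩
  · intro d hd x hx e he hde hxe
    haveI := Fintype.ofFinite (Dd D d)
    let T : Finset (Dd D d) := Finset.univ.filter fun v => (v : G) ∈ Dd D e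
    have hT : T.card = μ := by
      have h1 : T.card = (Dd D d ∩ Dd D e).ncard := card_filter_subtype (T := Dd D d) (fun v => v ∈ Dd D e)
      rw [h1]
      exact hμ d hd e he hde
    have hcardV : (Fintype.card (Dd D d) : ℤ) = N := by
      rw [← Nat.card_eq_fintype_card, Nat.card_coe_set_eq, S.deg hd]
    obtain ⟨y, hy, hxy⟩ := (S.exists_srg_link hd).exists_neighbour (S := T) (i := m) (by
        intro v hv
        simp only [T, Finset.mem_filter, Finset.mem_univ, true_and] at hv ⊢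
        rw [Finset.filter_filter, card_filter_subtype (T := Dd D d) (fun z => z ∈ Dd D e ∧ z ∈ Dd D (v : G)),
          ← S.inner hd he hde v.2 hv]
        congr 1
        ext z
        exact ⟨fun h => ⟨h.2.2, h.1, h.2.1⟩, fun h => ⟨h.2.1, h.2.2, h.1⟩⟩)
      (by rw [hT, hcardV]; exact hnum) (x := ⟨x, hx⟩) (by
        simp only [T, Finset.mem_filter, Finset.mem_univ, true_and]
        exact fun h => hxe h.2.2.symm)
    simp only [T, Finset.mem_filter, Finset.mem_univ, true_and] at hy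
    exact ⟨y, y.2, hxy, hy.2.2⟩

theorem toLocal (hμ : ∀ a ∈ D, ∀ c ∈ D, ¬ Commute a c → (Dd D a ∩ Dd D c).ncard = μ) (hk : 0 < k)
    (hnum : ((N : ℤ) - μ - 1) * ((μ : ℤ) * k + (μ : ℤ) * m * ((l : ℤ) - m) + (μ : ℤ) * ((μ : ℤ) - 1) * m -
      (μ : ℤ) * m * m) < ((μ : ℤ) * k - (μ : ℤ) * m) ^ 2) {v : ℕ} (hv : D.ncard = v) : Local D v N k μ := by
  have hC := S.classTwo
  have hH := S.coverHyp hμ hk hnum
  refine
    { group := S.group, center := S.center, rigid := ⟨S.prim.1, ?_, S.twins⟩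
      wTwins := fun a ha b hb h => S.wTwins ha hb h
      stab := fun a ha g hg => ?_
      perp := fun a ha b hb b' hb' => perp_transitive hC S.prim S.width ha hb.1 hb'.1 hb.2.1 hb'.2.1 hb.2.2 hb'.2.2
      farT := fun a ha c hc c' hc' h h' => far_transitive hC S.prim S.width ha hc hc' h h'
      farTwins := fun a ha p hp q hq h1 h2 h3 => S.farTwins ha hp hq h1 h2 h3
      edge := fun a ha c hc h => S.edge ha hc h
      common := fun x hx b hb b' hb' h => S.common hx hb hb' h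
      indec := fun a ha c hc h O h1 h2 h3 => S.indec ha hc h h1 h2 h3
      card := hv
      deg := fun a ha => S.deg ha
      lam := fun a ha b hb => S.lam ha hb
      mu := hμ }
  · obtain ⟨d, hd, -⟩ := hC.two
    obtain ⟨e, he, hde⟩ := exists_not_commute hC.gen hC.closed hC.class_eq hC.two hd
    exact ⟨d, hd, e, he, hde⟩
  · rw [← hH.centralizer_eq S.closed ha hC S.prim S.width]
    exact Subgroup.mem_centralizer_singleton_iff.2 hg

end Stage

end CfsgLib.ThreeTrans.Tower
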