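import Mathlib
import Cfsg.Agent.Lib.ThreeTrans.Tower.Step

/-! The quotient at a member of a primitive group is again primitive, given local data one level down. -/

set_option autoImplicit false

namespace CfsgLib.ThreeTrans.Tower

open CfsgLib.Sporadic.RankThree (far_transitive conj_braid)

variable {G : Type*} [Group G] [Finite G] {D : Set G}

/-- Every member in the common neighbourhood of two members not commuting has a neighbour there, as soon as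
one such neighbourhood contains an edge. -/
theorem exists_neighbour_common (hC : ClassTwo D) (hprim : Cfsg.IsPrimitiveUnderConj D)
    (hw : ∃ a ∈ D, ∃ b ∈ D, a ≠ b ∧ Commute a b) {a₀ c₀ u₀ v₀ : G} (ha₀ : a₀ ∈ D) (hc₀ : c₀ ∈ D)
    (hn₀ : ¬ Commute a₀ c₀) (hua : u₀ ∈ Dd D a₀) (huc : u₀ ∈ Dd D c₀) (hva : v₀ ∈ Dd D a₀) (hvc : v₀ ∈ Dd D c₀)
    (huv : v₀ ∈ Dd D u₀) {a c x : G} (ha : a ∈ D) (hc : c ∈ D) (hn : ¬ Commute a c) (hxa : x ∈ Dd D a)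
    (hxc : x ∈ Dd D c) : ∃ y, y ∈ Dd D x ∧ y ∈ Dd D a ∧ y ∈ Dd D c := by
  have hcl := hC.closed
  -- an edge in this neighbourhood
  obtain ⟨g, rfl⟩ := hprim.1 a₀ ha₀ a ha
  have hn1 : ¬ Commute (g * a₀ * g⁻¹) (g * c₀ * g⁻¹) := by rwa [commute_conj_iff]
  obtain ⟨h, hh, hhc⟩ := far_transitive hC hprim hw ha (hcl.conj g c₀ hc₀) hc hn1 hn
  set k := h * g with hk
  have hka : k * a₀ * k⁻¹ = g * a₀ * g⁻¹ := by
    rw [hk]
    calc h * g * a₀ * (h * g)⁻¹ = h * (g * a₀ * g⁻¹) * h⁻¹ := by group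
      _ = g * a₀ * g⁻¹ := by rw [hh.eq, mul_inv_cancel_right]
  have hkc : k * c₀ * k⁻¹ = c := by rw [← hhc, hk]; group
  have mu := conj_mem_Dd_conj hcl k hua
  have mu' := conj_mem_Dd_conj hcl k huc
  have mv := conj_mem_Dd_conj hcl k hva
  have mv' := conj_mem_Dd_conj hcl k hvc
  have muv := conj_mem_Dd_conj hcl k huv
  rw [hka] at mu mv
  rw [hkc] at mu' mv'
  generalize k * u₀ * k⁻¹ = u at mu mu' muv
  generalize k * v₀ * k⁻¹ = v at mv mv' muv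
  by_cases hxu : x = u
  · subst hxu; exact ⟨v, muv, mv, mv'⟩
  by_cases hcu : Commute x u
  · exact ⟨u, ⟨mu.1, Ne.symm hxu, hcu⟩, mu, mu'⟩
  -- otherwise carry `x` to `u` fixing both
  have hfix : ∀ z, z ∈ D → x ∈ Dd D z → u ∈ Dd D z → Commute (x * u)⁻¹ z := fun z _ h1 h2 =>
    ((h1.2.2.symm.mul_left h2.2.2.symm).inv_left)
  have e := conj_braid hcl.set hxa.1 mu.1 hcu
  refine ⟨(x * u)⁻¹ * v * (x * u)⁻¹⁻¹, ?_, ?_, ?_⟩
  · have h1 := conj_mem_Dd_conj hcl (x * u)⁻¹ muv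
    have e' : (x * u)⁻¹ * u * (x * u)⁻¹⁻¹ = x := by
      calc (x * u)⁻¹ * u * (x * u)⁻¹⁻¹ = (x * u)⁻¹ * (x * u * x * (x * u)⁻¹) * (x * u) := by rw [e, inv_inv]
        _ = x := by group
    rwa [e'] at h1
  · have h1 := conj_mem_Dd_conj hcl (x * u)⁻¹ mv
    rwa [(hfix _ ha hxa mu).eq, mul_inv_cancel_right] at h1
  · have h1 := conj_mem_Dd_conj hcl (x * u)⁻¹ mv'
    rwa [(hfix _ hc hxc mu').eq, mul_inv_cancel_right] at h1

variable {Y Z : Type*} [Group Y] [Group Z] {E : Set Y} {E' : Set Z} {N k l m : ℕ}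

/-- The hypotheses of a step from a base point. -/
theorem stage_of_base (hD : Cfsg.IsThreeTranspositionGroup D) (hprim : Cfsg.IsPrimitiveUnderConj D)
    (hZ : Subgroup.center G = ⊥) (hloc : Local E N k l m) {d : G} {π : Hd D d →* Y} (hB : IsBase D d π)
    (himg : imgSet D d π = E) : Stage D E N k l m := by
  obtain ⟨e, he, -⟩ := hloc.rigid.nonabelian
  rw [← himg] at he
  obtain ⟨-, x, hx, -⟩ := he
  have hw : ∃ a ∈ D, ∃ b ∈ D, a ≠ b ∧ Commute a b := ⟨d, hB.mem, x, hx.1, Ne.symm hx.2.1, hx.2.2⟩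
  have hNT := noTwins_of_primitive hD hprim hw
  exact ⟨hD, hprim, hZ, hloc, fun a ha => by
    obtain ⟨π', hB', e'⟩ := hB.exists_base hprim.1 ha
    exact ⟨π', hB', e'.trans himg, hprim.1, hNT⟩⟩

/-- Equal neighbourhoods of distinct members are excluded one level up from the same one level down. -/
theorem wTwins_up [Finite Y] (hYgrp : Cfsg.IsThreeTranspositionGroup E) (hE : Rigid E) (hna : E'.Nonempty)
    (hwt : ∀ a ∈ E', ∀ b ∈ E', a ≠ b → Dd E' a ≠ Dd E' b) {p₀ : Y} {π₀ : Hd E p₀ →* Z} (hB₀ : IsBase E p₀ π₀)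
    (himg₀ : imgSet E p₀ π₀ = E') : ∀ a ∈ E, ∀ b ∈ E, a ≠ b → Dd E a ≠ Dd E b := by
  intro a ha b hb hne hab
  have hbase : ∀ p ∈ E, ∃ π' : Hd E p →* Z, Model E p E' π' := fun p hp => by
    obtain ⟨π', hB', e'⟩ := hB₀.exists_base hE.class_eq hp
    exact ⟨π', hB', e'.trans himg₀, hE.class_eq, hE.twins⟩
  obtain ⟨π', M'⟩ := hbase a ha
  obtain ⟨q, hq⟩ := hna
  obtain ⟨z, hza, -⟩ := M'.onto hq
  have hzb : z ∈ Dd E b := (Set.ext_iff.1 hab z).1 hza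
  obtain ⟨π'', M''⟩ := hbase z hza.1
  have ma := Dd_symm ha hza
  have mb := Dd_symm hb hzb
  refine hwt _ (M''.mem ma) _ (M''.mem mb) (fun h => hne (M''.inj ma mb h)) (Set.ext fun r => ?_)
  constructor <;> intro hr <;> obtain ⟨r', hr', rfl⟩ := M''.onto hr.1
  · exact (M''.mem_Dd mb hr').2 ((Set.ext_iff.1 hab _).1 ((M''.mem_Dd ma hr').1 hr))
  · exact (M''.mem_Dd ma hr').2 ((Set.ext_iff.1 hab _).2 ((M''.mem_Dd mb hr').1 hr))

/-- Primitivity passes to the quotient at a member. -/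
theorem primitive_img [Finite Y] (hD : Cfsg.IsThreeTranspositionGroup D) (hprim : Cfsg.IsPrimitiveUnderConj D)
    {d : G} {π : Hd D d →* Y} (hB : IsBase D d π) (himg : imgSet D d π = E) (hE : Rigid E)
    (hna : ∃ a ∈ E', ∃ b ∈ E', ¬ Commute a b) (hwt : ∀ a ∈ E', ∀ b ∈ E', a ≠ b → Dd E' a ≠ Dd E' b)
    {p₀ : Y} {π₀ : Hd E p₀ →* Z} (hB₀ : IsBase E p₀ π₀)
    (himg₀ : imgSet E p₀ π₀ = E') : Cfsg.IsPrimitiveUnderConj E := by
  obtain ⟨e, he, f, hf, hef⟩ := hE.nonabelian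
  have hd := hB.mem
  obtain ⟨-, x₀, hx₀, -⟩ := (himg.symm ▸ he : e ∈ imgSet D d π)
  have hw : ∃ a ∈ D, ∃ b ∈ D, a ≠ b ∧ Commute a b := ⟨d, hd, x₀, hx₀.1, Ne.symm hx₀.2.1, hx₀.2.2⟩
  have hC := classTwo_of_primitive hD hprim
  have M : Model D d E π := ⟨hB, himg, hprim.1, noTwins_of_primitive hD hprim hw⟩
  have hYgrp : Cfsg.IsThreeTranspositionGroup E := himg ▸ hB.img_group
  have hCE : ClassTwo E := ⟨conjClosed_of_group hYgrp, hYgrp.2.2, hE.class_eq,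
    ⟨e, he, f, hf, fun h => hef (h ▸ Commute.refl e)⟩⟩
  have hbase : ∀ p ∈ E, ∃ π' : Hd E p →* Z, Model E p E' π' := fun p hp => by
    obtain ⟨π', hB', e'⟩ := hB₀.exists_base hE.class_eq hp
    exact ⟨π', hB', e'.trans himg₀, hE.class_eq, hE.twins⟩
  -- an edge in some common neighbourhood
  obtain ⟨π', M'⟩ := hbase e he
  obtain ⟨q₁, hq₁, q₂, hq₂, hq⟩ := id hna
  obtain ⟨p₁, hp₁, rfl⟩ := M'.onto hq₁
  obtain ⟨p₂, hp₂, rfl⟩ := M'.onto hq₂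
  have hn₀ : ¬ Commute p₁ p₂ := fun h => hq ((M'.comm hp₁ hp₂).2 h)
  obtain ⟨z₀, hz₀, rfl⟩ := M.onto he
  obtain ⟨b₁, hb₁, rfl⟩ := M.onto hp₁.1
  obtain ⟨b₂, hb₂, rfl⟩ := M.onto hp₂.1
  have hn : ¬ Commute b₁ b₂ := fun h => hn₀ ((M.comm hb₁ hb₂).2 h)
  have key : ∀ {x y : G}, x ∈ Dd D d → y ∈ Dd D d → ¬ Commute x y →
      ∃ z, z ∈ Dd D d ∧ z ∈ Dd D x ∧ z ∈ Dd D y := fun {x y} hx hy hxy =>
    exists_neighbour_common hC hprim hw hb₁.1 hb₂.1 hn (Dd_symm hd hb₁) (Dd_symm hd hb₂)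
      (Dd_symm hz₀.1 ((M.mem_Dd hz₀ hb₁).1 hp₁)) (Dd_symm hz₀.1 ((M.mem_Dd hz₀ hb₂).1 hp₂))
      hz₀ hx.1 hy.1 hxy (Dd_symm hd hx) (Dd_symm hd hy)
  -- connected
  haveI : Nonempty E := ⟨⟨_, M.mem hz₀⟩⟩
  have hadj : ∀ u v : E, (v : Y) ∈ Dd E u → (Cfsg.commutingGraph E).Adj u v := fun u v h =>
    (SimpleGraph.fromRel_adj _ _ _).2 ⟨fun e => h.2.1 (by rw [e]), Or.inl h.2.2⟩
  have hconn : (Cfsg.commutingGraph E).Connected := SimpleGraph.Connected.mk fun u v => by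
    by_cases huv : u = v
    · subst huv; exact SimpleGraph.Reachable.refl _
    by_cases hc : Commute (u : Y) v
    · exact (hadj u v ⟨v.2, fun e => huv (Subtype.ext e.symm), hc⟩).reachable
    obtain ⟨x, hx, hxe⟩ := M.onto u.2
    obtain ⟨y, hy, hye⟩ := M.onto v.2
    obtain ⟨z, hz, hzx, hzy⟩ := key hx hy fun h => hc (hxe ▸ hye ▸ (M.comm hx hy).2 h)
    have h1 : phi π z ∈ Dd E u := hxe ▸ (M.mem_Dd hx hz).2 hzx
    have h2 : phi π z ∈ Dd E v := hye ▸ (M.mem_Dd hy hz).2 hzy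
    exact (hadj u ⟨_, M.mem hz⟩ h1).reachable.trans (hadj v ⟨_, M.mem hz⟩ h2).symm.reachable
  -- cores
  have h2 : Cfsg.pCore 2 Y ≤ Subgroup.center Y := by
    by_contra h
    obtain ⟨v, hv, hne⟩ := hCE.exists_vRel_ne h (M.mem hz₀)
    exact hne (hE.twins _ hv.1 _ hv.2.1 fun y hy => (hv.2.2 y hy).symm).symm
  have h3 : Cfsg.pCore 3 Y ≤ Subgroup.center Y := by
    by_contra h
    obtain ⟨w, hww, hne⟩ := hCE.exists_wRel_ne h (M.mem hz₀)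
    exact wTwins_up hYgrp hE ⟨_, hq₁⟩ hwt hB₀ himg₀ _ hww.1 _ hww.2.1 (Ne.symm hne) hww.2.2
  obtain ⟨L, hL⟩ := hCE.exists_component h2 h3
  exact hCE.primitive_of_index_le_two h2 h3 hL (hCE.index_le_two_of_connected hL hconn)

end CfsgLib.ThreeTrans.Tower
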