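import Mathlib
import Cfsg.Agent.Lib.ThreeTrans.Tower.Local

/-! Conjugation carries neighbourhoods to neighbourhoods. -/

set_option autoImplicit false

namespace CfsgLib.ThreeTrans.Tower

variable {G : Type*} [Group G] {D : Set G}

theorem image_Dd (hD : ConjClosed D) (g a : G) :
    (fun x => g * x * g⁻¹) '' Dd D a = Dd D (g * a * g⁻¹) := by
  ext y
  constructor
  · rintro ⟨x, hx, rfl⟩
    exact conj_mem_Dd_conj hD g hx
  · intro hy
    refine ⟨g⁻¹ * y * g, ?_, by group⟩
    have h := conj_mem_Dd_conj hD g⁻¹ hy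
    rwa [show g⁻¹ * (g * a * g⁻¹) * g⁻¹⁻¹ = a by group, inv_inv] at h

theorem ncard_Dd_conj (hD : ConjClosed D) (g a : G) : (Dd D a).ncard = (Dd D (g * a * g⁻¹)).ncard := by
  rw [← image_Dd hD, Set.ncard_image_of_injective _ fun x y h => mul_left_cancel (mul_right_cancel h)]

theorem ncard_Dd_inter_conj (hD : ConjClosed D) (g a b : G) :
    (Dd D a ∩ Dd D b).ncard = (Dd D (g * a * g⁻¹) ∩ Dd D (g * b * g⁻¹)).ncard := by
  rw [← image_Dd hD, ← image_Dd hD, ← Set.image_inter fun x y h => mul_left_cancel (mul_right_cancel h),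
    Set.ncard_image_of_injective _ fun x y h => mul_left_cancel (mul_right_cancel h)]

end CfsgLib.ThreeTrans.Tower
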