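import Mathlib
import Cfsg.Agent.Lib.ThreeTrans.UnitarySixLines
import Cfsg.Agent.Lib.ClassicalGroups.HermCount

/-! Coordinates for the six dimensional hermitian space over four elements: two coordinates spanning a
hyperbolic plane, and the four remaining ones. -/

set_option autoImplicit false
set_option linter.unusedSectionVars false

namespace CfsgLib.ThreeTrans.USix

open Matrix CfsgLib.ClassicalGroups

variable {F : Type*} [Field F] [Fintype F]

local notation "V" => Fin 6 → F
local notation "W" => Fin 4 → F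
local notation "𝕙" => Cfsg.hermForm 6 F 2
local notation "𝕙₄" => Cfsg.hermForm 4 F 2
local notation "SU₆" => Cfsg.SU 6 F 2

/-- A vector from two coordinates and the remaining four. -/
def mk6 (a b : F) (z : W) : V := Fin.cons a (Fin.cons b z)

/-- The last four coordinates. -/
def tl (x : V) : W := fun i => x i.succ.succ

/-- The first standard isotropic vector. -/
def v₀ : V := mk6 1 1 0

theorem mk6_zero (a b : F) (z : W) : mk6 a b z 0 = a := rfl

theorem mk6_one (a b : F) (z : W) : mk6 a b z 1 = b := rfl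

theorem tl_mk6 (a b : F) (z : W) : tl (mk6 a b z) = z := by
  funext i; fin_cases i <;> rfl

theorem mk6_tl (x : V) : mk6 (x 0) (x 1) (tl x) = x := by
  funext i; fin_cases i <;> rfl

theorem mk6_inj {a b a' b' : F} {z z' : W} : mk6 a b z = mk6 a' b' z' ↔ a = a' ∧ b = b' ∧ z = z' := by
  refine ⟨fun h => ⟨congrFun h 0, congrFun h 1, ?_⟩, fun ⟨h1, h2, h3⟩ => by rw [h1, h2, h3]⟩
  have := congrArg tl h
  rwa [tl_mk6, tl_mk6] at this

theorem smul_mk6 (c a b : F) (z : W) : c • mk6 a b z = mk6 (c * a) (c * b) (c • z) := by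
  funext i; fin_cases i <;> rfl

theorem add_mk6 (a b a' b' : F) (z z' : W) : mk6 a b z + mk6 a' b' z' = mk6 (a + a') (b + b') (z + z') := by
  funext i; fin_cases i <;> rfl

theorem herm_split (x y : V) : 𝕙 x y = x 0 * y 0 ^ 2 + x 1 * y 1 ^ 2 + 𝕙₄ (tl x) (tl y) := by
  simp [Cfsg.hermForm, Fin.sum_univ_six, Fin.sum_univ_four, tl, add_assoc]

theorem herm_mk6 (a b a' b' : F) (z z' : W) :
    𝕙 (mk6 a b z) (mk6 a' b' z') = a * a' ^ 2 + b * b' ^ 2 + 𝕙₄ z z' := by
  rw [herm_split, mk6_zero, mk6_one, mk6_zero, mk6_one, tl_mk6, tl_mk6]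

section

variable (hF : Fintype.card F = 2 ^ 2)
include hF

theorem herm_zero_zero_four : 𝕙₄ (0 : W) 0 = 0 := hermForm_zero_left _

theorem v₀_iso : 𝕙 (v₀ (F := F)) v₀ = 0 := by
  rw [v₀, herm_mk6, hermForm_zero_left]; linear_combination two_eq_zero hF

theorem v₀_ne : (v₀ : V) ≠ 0 := fun h => one_ne_zero (congrFun h 0)

theorem sq_add (a b : F) : (a + b) ^ 2 = a ^ 2 + b ^ 2 := herm_conj_add hF a b

theorem sq_inj {a b : F} (h : a ^ 2 = b ^ 2) : a = b := by
  have := congrArg (· ^ 2) h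
  simpa [← pow_mul, pow_four hF] using this

theorem herm_v₀ (x : V) : 𝕙 x v₀ = x 0 + x 1 := by
  rw [herm_split, v₀, mk6_zero, mk6_one, tl_mk6, hermForm_zero_right hF]; ring

theorem v₀_herm (x : V) : 𝕙 v₀ x = (x 0 + x 1) ^ 2 := by
  rw [herm_symm' hF, herm_v₀ hF]

theorem norm_sum_cases {a b : F} (h : a + b = 1) :
    (a = 1 ∧ b = 0) ∨ (a = 0 ∧ b = 1) ∨ (a ≠ 0 ∧ b ≠ 0 ∧ 1 + a + a ^ 2 = 0 ∧ b = a ^ 2) := by
  have h2 := two_eq_zero hF
  by_cases ha : a = 0
  · exact Or.inr (Or.inl ⟨ha, by rw [ha, zero_add] at h; exact h⟩)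
  by_cases hb : b = 0
  · exact Or.inl ⟨by rw [hb, add_zero] at h; exact h, hb⟩
  refine Or.inr (Or.inr ⟨ha, hb, ?_, ?_⟩)
  all_goals
    have h3 := cube_eq_one hF ha
    have ha1 : a - 1 ≠ 0 := fun e => hb (by linear_combination h - e)
    have hsum : 1 + a + a ^ 2 = 0 := mul_left_cancel₀ ha1 (by linear_combination h3)
  · exact hsum
  · linear_combination h - hsum + h2

/-- A non-zero vector of the complement pairs non-trivially with an isotropic one. -/
theorem exists_iso_pair {z : W} (hz : z ≠ 0) (c : F) : ∃ u : W, 𝕙₄ u u = 0 ∧ 𝕙₄ u z = c := by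
  have h2 := two_eq_zero hF
  suffices ∃ u : W, 𝕙₄ u u = 0 ∧ 𝕙₄ u z ≠ 0 by
    obtain ⟨u, hu, hne⟩ := this
    exact ⟨(c / 𝕙₄ u z) • u, by rw [hermForm_smul_left, hermForm_smul_right, hu, mul_zero, mul_zero],
      by rw [hermForm_smul_left, div_mul_cancel₀ _ hne]⟩
  by_contra! hno
  obtain ⟨w, hw0, hw1, hw⟩ := exists_omega hF
  have hw3 := cube_eq_one hF hw0
  have key : ∀ i j : Fin 4, i ≠ j → z j = 0 := by
    intro i j hij
    have e : ∀ c : F, c ≠ 0 → z i ^ 2 + c * z j ^ 2 = 0 := by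
      intro c hc
      have h1 := hno (fun k => if k = i then 1 else if k = j then c else 0) (by
        fin_cases i <;> fin_cases j <;> simp_all [Cfsg.hermForm, Fin.sum_univ_four] <;>
          linear_combination cube_eq_one hF hc + h2)
      fin_cases i <;> fin_cases j <;> simp_all [Cfsg.hermForm, Fin.sum_univ_four] <;> linear_combination h1
    have e1 := e 1 one_ne_zero
    have ew := e w hw0
    have h3 : (w - 1) * z j ^ 2 = 0 := by linear_combination ew - e1
    exact eq_zero_of_pow_eq_zero ((mul_eq_zero.1 h3).resolve_left (sub_ne_zero.2 hw1))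
  refine hz (funext fun j => ?_)
  by_cases h : j = 0
  · exact key 1 j (by rw [h]; decide)
  · exact key 0 j (Ne.symm h)

end

end CfsgLib.ThreeTrans.USix
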