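import Mathlib
import Cfsg.Agent.Lib.ThreeTrans.Tower.UnitaryVec
import Cfsg.Agent.Lib.ClassicalGroups.UnitaryGen

/-! The centraliser of a transvection of the six dimensional unitary group over four elements is generated,
up to scalars, by the transvections it contains. -/

set_option autoImplicit false
set_option linter.unusedSectionVars false

namespace CfsgLib.ThreeTrans.USix

open Matrix CfsgLib.ClassicalGroups

variable {F : Type*} [Field F] [Fintype F]

local notation "V" => Fin 6 → F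
local notation "W" => Fin 4 → F
local notation "𝕙" => Cfsg.hermForm 6 F 2
local notation "𝕙₄" => Cfsg.hermForm 4 F 2
local notation "SU₆" => Cfsg.SU 6 F 2
local notation "SU₄" => Cfsg.SU 4 F 2
local notation "PSU₆" => Cfsg.PSU 6 F 2

/-- The subgroup generated by the transvections fixing the standard vector. -/
def perpTv (F : Type*) [Field F] [Fintype F] : Subgroup (Cfsg.SU 6 F 2) :=
  Subgroup.closure {A | ∃ v, IsTvAt v A ∧ Cfsg.hermForm 6 F 2 v v₀ = 0}

/-- The subgroup generated by the transvections at vectors with the first two coordinates zero. -/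
def tailTv (F : Type*) [Field F] [Fintype F] : Subgroup (Cfsg.SU 6 F 2) :=
  Subgroup.closure {A | ∃ z : Fin 4 → F, IsTvAt (mk6 0 0 z) A}

/-- A four by four matrix acting on the last four coordinates. -/
def extMat (M : Matrix (Fin 4) (Fin 4) F) : Matrix (Fin 6) (Fin 6) F :=
  Matrix.of ![Pi.single 0 1, Pi.single 1 1, mk6 0 0 (M 0), mk6 0 0 (M 1), mk6 0 0 (M 2), mk6 0 0 (M 3)]

theorem mk6_dot (a b : F) (z : W) (x : V) :
    mk6 a b z ⬝ᵥ x = a * x 0 + b * x 1 + z ⬝ᵥ tl x := by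
  simp [dotProduct, Fin.sum_univ_succ, mk6, tl, add_assoc]

theorem extMat_mulVec (M : Matrix (Fin 4) (Fin 4) F) (x : V) :
    extMat M *ᵥ x = mk6 (x 0) (x 1) (M *ᵥ tl x) := by
  funext i
  fin_cases i
  · exact single_one_dotProduct 0 x
  · exact single_one_dotProduct 1 x
  all_goals (refine (mk6_dot _ _ _ x).trans ?_; rw [zero_mul, zero_mul, zero_add, zero_add]; rfl)

theorem extMat_det (M : Matrix (Fin 4) (Fin 4) F) : (extMat M).det = M.det := by
  rw [← Matrix.det_submatrix_equiv_self (finSumFinEquiv : Fin 2 ⊕ Fin 4 ≃ Fin 6) (extMat M)]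
  have e : (extMat M).submatrix (finSumFinEquiv : Fin 2 ⊕ Fin 4 ≃ Fin 6) finSumFinEquiv =
      Matrix.fromBlocks 1 0 0 M := by
    ext i j
    rcases i with i | i <;> rcases j with j | j <;> fin_cases i <;> fin_cases j <;> rfl
  rw [e, Matrix.det_fromBlocks_zero₂₁, Matrix.det_one, one_mul]

theorem tailTv_le : tailTv F ≤ perpTv F :=
  (Subgroup.closure_le _).2 fun _ ⟨z, hz⟩ => Subgroup.subset_closure ⟨_, hz, by
    rw [v₀, herm_mk6]
    simp [Cfsg.hermForm]⟩

variable (hF : Fintype.card F = 2 ^ 2)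
include hF

theorem perpTv_fix {k : SU₆} (hk : k ∈ perpTv F) : k.1.1 *ᵥ v₀ = v₀ := by
  induction hk using Subgroup.closure_induction with
  | mem A hA =>
    obtain ⟨v, hA, hv⟩ := hA
    rw [hA.apply, herm_zero_symm hF hv, zero_smul, add_zero]
  | one => exact SU_one_mulVec _
  | mul p q _ _ hp hq => rw [SU_mul_mulVec, hq, hp]
  | inv p _ hp =>
    conv_lhs => rw [← hp]
    exact SU_inv_mulVec_mulVec _ _

theorem exists_perp_step (c : F) (z : W) (hne : mk6 c c z ≠ 0) (hz : 𝕙₄ z z = 0) :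
    ∃ k ∈ perpTv F, ∀ a b t, 𝕙 (mk6 a b t) (mk6 c c z) = a * c ^ 2 + b * c ^ 2 + 𝕙₄ t z ∧
      k.1.1 *ᵥ mk6 a b t = mk6 (a + (a * c ^ 2 + b * c ^ 2 + 𝕙₄ t z) * c)
        (b + (a * c ^ 2 + b * c ^ 2 + 𝕙₄ t z) * c) (t + (a * c ^ 2 + b * c ^ 2 + 𝕙₄ t z) • z) := by
  have h2 := two_eq_zero hF
  obtain ⟨A, hA⟩ := exists_tvAt hF hne (by rw [herm_mk6, hz]; linear_combination c ^ 3 * h2)
  refine ⟨A, Subgroup.subset_closure ⟨_, hA, ?_⟩, fun a b t => ⟨herm_mk6 .., ?_⟩⟩
  · rw [herm_v₀ hF, mk6_zero, mk6_one, add_self' hF]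
  · rw [hA.apply, herm_mk6, smul_mk6, add_mk6]

/-- The subgroup is transitive on the isotropic vectors pairing to one with the standard vector. -/
theorem exists_perp_move {x : V} (hx : 𝕙 x x = 0) (hx1 : x 0 + x 1 = 1) :
    ∀ w : F, w ≠ 0 → w ≠ 1 → 1 + w + w ^ 2 = 0 →
      ∃ k ∈ perpTv F, k.1.1 *ᵥ x = mk6 w (w ^ 2) 0 := by
  intro w hw0 hw1 hw
  have h2 := two_eq_zero hF
  have hw3 := cube_eq_one hF hw0
  obtain ⟨a, b, t, rfl⟩ : ∃ a b t, x = mk6 a b t := ⟨_, _, _, (mk6_tl x).symm⟩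
  rw [mk6_zero, mk6_one] at hx1
  rw [herm_mk6] at hx
  have swap : ∀ a b : F, a + b = 1 → ∃ k ∈ perpTv F, ∀ t, k.1.1 *ᵥ mk6 a b t = mk6 (a + 1) (b + 1) t := by
    intro a b hab
    obtain ⟨k, hk, hkx⟩ := exists_perp_step hF 1 0 (fun h => one_ne_zero (congrFun h 0)) (hermForm_zero_left _)
    refine ⟨k, hk, fun t => ?_⟩
    rw [(hkx a b t).2]
    simp only [hermForm_zero_right hF, add_zero, one_pow, mul_one, hab, smul_zero]
  -- an isotropic tail
  have iso : ∀ (a : F) (t : W), a ≠ 0 → a ≠ 1 → 𝕙₄ t t = 0 →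
      ∃ k ∈ perpTv F, k.1.1 *ᵥ mk6 a (a + 1) t = mk6 w (w ^ 2) 0 := by
    intro a t ha0 ha1 ht
    have fin : ∀ a : F, a ≠ 0 → a ≠ 1 → ∃ k ∈ perpTv F, k.1.1 *ᵥ mk6 a (a + 1) (0 : W) = mk6 w (w ^ 2) 0 := by
      intro a ha0 ha1
      rcases omega_cases hF hw1 hw ha0 with e | e | e
      · exact absurd e ha1
      · refine ⟨1, one_mem _, ?_⟩
        rw [SU_one_mulVec, e, mk6_inj]
        exact ⟨rfl, by linear_combination -hw + (w + 1) * h2, rfl⟩
      · obtain ⟨k, hk, hkx⟩ := swap a (a + 1) (by linear_combination a * h2)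
        refine ⟨k, hk, ?_⟩
        rw [hkx, e, mk6_inj]
        exact ⟨by linear_combination hw - w * h2, by linear_combination h2, rfl⟩
    obtain ⟨k, hk, hkx⟩ := exists_perp_step hF 1 t (fun h => one_ne_zero (congrFun h 0)) ht
    obtain ⟨k', hk', hkx'⟩ := fin (a + 1) (fun h => ha1 (by linear_combination h - h2))
      (fun h => ha0 (by linear_combination h))
    refine ⟨k' * k, mul_mem hk' hk, ?_⟩
    rw [SU_mul_mulVec, (hkx a (a + 1) t).2, ht, ← hkx']
    congr 1
    rw [mk6_inj]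
    refine ⟨by linear_combination a * h2, by linear_combination a * h2, ?_⟩
    rw [show a * 1 ^ 2 + (a + 1) * 1 ^ 2 + 0 = 1 by linear_combination a * h2, one_smul]
    funext i; exact add_self' hF (t i)
  have hb : b = a + 1 := by linear_combination hx1 - a * h2
  subst hb
  by_cases h01 : a = 0 ∨ a = 1
  · have ht : 𝕙₄ t t = 1 := by
      rcases h01 with rfl | rfl
      · linear_combination hx - h2
      · linear_combination hx - h2 * 1 - 4 * h2
    have ht0 : t ≠ 0 := fun e => by rw [e, hermForm_zero_left] at ht; exact zero_ne_one ht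
    obtain ⟨z, hz, hzt⟩ := exists_iso_pair hF ht0 w
    have htz : 𝕙₄ t z = w ^ 2 := by rw [hermForm_symm hF 4 z t, hzt]
    have hs : a * 1 ^ 2 + (a + 1) * 1 ^ 2 + 𝕙₄ t z = w := by
      rw [htz]; linear_combination hw + (a - w) * h2
    obtain ⟨k, hk, hkx⟩ := exists_perp_step hF 1 z (fun h => one_ne_zero (congrFun h 0)) hz
    have hnew : 𝕙₄ (t + w • z) (t + w • z) = 0 := by
      rw [hermForm_add_left, hermForm_add_right hF, hermForm_add_right hF, hermForm_smul_left,
        hermForm_smul_left, hermForm_smul_right, hermForm_smul_right, ht, hz, hzt, htz]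
      linear_combination hw + (w ^ 4 - w) * (0 : F) + (w * hw3)
    obtain ⟨k', hk', hkx'⟩ := iso (a + w) (t + w • z) (fun e => by
        rcases h01 with rfl | rfl
        · exact hw0 (by linear_combination e)
        · exact hw1 (by linear_combination e - h2)) (fun e => by
        rcases h01 with rfl | rfl
        · exact hw1 (by linear_combination e)
        · exact hw0 (by linear_combination e)) hnew
    refine ⟨k' * k, mul_mem hk' hk, ?_⟩
    rw [SU_mul_mulVec, (hkx a (a + 1) t).2, hs, ← hkx', mul_one, add_right_comm]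
  · push Not at h01
    refine iso a t h01.1 h01.2 ?_
    have h3 := cube_eq_one hF h01.1
    have h3' := cube_eq_one hF (x := a + 1) (fun h => h01.2 (by linear_combination h - h2))
    linear_combination hx - h3 - h3' - h2

/-- Elements acting on the last four coordinates. -/
def IsExt (M : SU₄) : Prop := ∃ k ∈ tailTv F, ∀ x, k.1.1 *ᵥ x = mk6 (x 0) (x 1) (M.1.1 *ᵥ tl x)

theorem isExt_all (M : SU₄) : IsExt M := by
  have hM : M ∈ Subgroup.closure (suTvSet 4 F 2) := by
    rw [closure_suTvSet (n := 4) hF (by norm_num) (by norm_num)]; trivial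
  induction hM using Subgroup.closure_induction with
  | mem A hA =>
    obtain ⟨v, c, hv, hA⟩ := hA
    by_cases hvc : v = 0 ∨ c = 0
    · refine ⟨1, one_mem _, fun x => ?_⟩
      rw [SU_one_mulVec, hA, unitaryTransvection_mulVec]
      rcases hvc with rfl | rfl <;> simp [mk6_tl]
    push Not at hvc
    obtain ⟨y, hy⟩ := exists_pairing_ne (q := 2) hF hvc.1
    have hyv : 𝕙₄ y v = 1 := by rw [hermForm_symm hF 4 v y, hy, one_pow]
    have hc : c = 1 := by
      have h := mem_SU_iff.1 A.2 y y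
      rw [hA, unitaryTransvection_mulVec, hyv, hermForm_add_left, hermForm_add_right hF,
        hermForm_add_right hF, hermForm_smul_left, hermForm_smul_left, hermForm_smul_right,
        hermForm_smul_right, hv, hyv, hy] at h
      have h' : c * (c + 1) = 0 := by linear_combination h
      have h2 := two_eq_zero hF
      linear_combination (mul_eq_zero.1 h').resolve_left hvc.2 - h2
    subst hc
    have hne : mk6 0 0 v ≠ 0 := fun h => hvc.1 (((tl_mk6 0 0 v).symm.trans (congrArg tl h)).trans (funext fun i => rfl))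
    obtain ⟨k, hk⟩ := exists_tvAt hF hne (by rw [herm_mk6, hv]; ring)
    refine ⟨k, Subgroup.subset_closure ⟨v, hk⟩, fun x => ?_⟩
    rw [hk.apply, hA, unitaryTransvection_mulVec, herm_split, mk6_zero, mk6_one, tl_mk6]
    conv_lhs => rw [← mk6_tl x]
    rw [smul_mk6, add_mk6, mk6_zero, mk6_one, tl_mk6]
    simp
  | one => exact ⟨1, one_mem _, fun x => by rw [SU_one_mulVec, SU_one_mulVec, mk6_tl]⟩
  | mul p q _ _ hp hq =>
    obtain ⟨k, hk, hkx⟩ := hp
    obtain ⟨l, hl, hlx⟩ := hq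
    refine ⟨k * l, mul_mem hk hl, fun x => ?_⟩
    rw [SU_mul_mulVec, hlx, hkx, SU_mul_mulVec, mk6_zero, mk6_one, tl_mk6]
  | inv p _ hp =>
    obtain ⟨k, hk, hkx⟩ := hp
    refine ⟨k⁻¹, inv_mem hk, fun x => ?_⟩
    have h := congrArg ((k⁻¹).1.1 *ᵥ ·) (hkx (mk6 (x 0) (x 1) ((p⁻¹).1.1 *ᵥ tl x)))
    simp only [mk6_zero, mk6_one, tl_mk6, SU_mulVec_inv_mulVec, SU_inv_mulVec_mulVec, mk6_tl] at h
    exact h.symm

/-- An element fixing the two vectors of the hyperbolic plane is a product of transvections. -/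
theorem fix_plane_mem {g : SU₆} (h0 : g.1.1 *ᵥ mk6 1 0 0 = mk6 1 0 0) (h1 : g.1.1 *ᵥ mk6 0 1 0 = mk6 0 1 0) :
    g ∈ tailTv F := by
  let L : W →ₗ[F] W :=
    { toFun := fun t => tl (g.1.1 *ᵥ mk6 0 0 t)
      map_add' := fun s t => by
        rw [show mk6 0 0 (s + t) = mk6 0 0 s + mk6 0 0 t by rw [add_mk6, add_zero], Matrix.mulVec_add]; rfl
      map_smul' := fun c t => by
        rw [show mk6 0 0 (c • t) = c • mk6 0 0 t by rw [smul_mk6, mul_zero], Matrix.mulVec_smul]; rfl }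
  have hL : ∀ t, g.1.1 *ᵥ mk6 0 0 t = mk6 0 0 (L t) := fun t => by
    have e0 := herm_map g (mk6 0 0 t) (mk6 1 0 0)
    have e1 := herm_map g (mk6 0 0 t) (mk6 0 1 0)
    rw [h0, herm_mk6, herm_split] at e0
    rw [h1, herm_mk6, herm_split] at e1
    simp [mk6_zero, mk6_one, tl_mk6, hermForm_zero_right hF] at e0 e1
    conv_lhs => rw [← mk6_tl (g.1.1 *ᵥ mk6 0 0 t), e0, e1]
    rfl
  have hpres : ∀ s t, 𝕙₄ (L s) (L t) = 𝕙₄ s t := fun s t => by
    have e := herm_map g (mk6 0 0 s) (mk6 0 0 t)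
    rw [hL, hL, herm_mk6, herm_mk6] at e
    linear_combination e
  obtain ⟨M₀, hM₀⟩ := exists_GU_of_preserving hF L hpres
  have hg : ∀ x, g.1.1 *ᵥ x = mk6 (x 0) (x 1) (M₀.1.val *ᵥ tl x) := fun x => by
    have e : x = x 0 • mk6 1 0 0 + x 1 • mk6 0 1 0 + mk6 0 0 (tl x) := by
      rw [smul_mk6, smul_mk6, add_mk6, add_mk6]; simp [mk6_tl]
    conv_lhs => rw [e, Matrix.mulVec_add, Matrix.mulVec_add, Matrix.mulVec_smul, Matrix.mulVec_smul, h0, h1, hL]
    rw [smul_mk6, smul_mk6, add_mk6, add_mk6, hM₀]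
    simp
  have hge : g.1.1 = extMat M₀.1.val := Matrix.ext_of_mulVec_single fun i => by rw [hg, extMat_mulVec]
  have hdet : M₀.1.val.det = 1 := by rw [← extMat_det, ← hge]; exact g.1.2
  obtain ⟨M, hM⟩ := exists_SU_of_GU M₀ hdet
  obtain ⟨k, hk, hkx⟩ := isExt_all hF M
  have : g = k := SU_ext fun x => by rw [hg, hkx, hM]
  exact this ▸ hk

/-- The stabiliser of the standard vector is generated by transvections. -/
theorem fix_mem {g : SU₆} (hg : g.1.1 *ᵥ v₀ = v₀) : g ∈ perpTv F := by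
  have h2 := two_eq_zero hF
  obtain ⟨w, hw0, hw1, hw⟩ := exists_omega hF
  have hw3 := cube_eq_one hF hw0
  set u : V := mk6 w (w ^ 2) 0 with hu
  have huu : 𝕙 u u = 0 := by rw [hu, herm_mk6, hermForm_zero_left]; linear_combination (2 + w ^ 3) * hw3 + h2
  have hu1 : 𝕙 u v₀ = 1 := by rw [hu, herm_v₀ hF, mk6_zero, mk6_one]; linear_combination hw - h2
  obtain ⟨k, hk, hkx⟩ := exists_perp_move hF (x := g.1.1 *ᵥ u) (by rw [herm_map, huu])
    (by rw [← herm_v₀ hF, ← hg, herm_map, hu1]) w hw0 hw1 hw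
  have hkg : (k * g).1.1 *ᵥ v₀ = v₀ := by rw [SU_mul_mulVec, hg, perpTv_fix hF hk]
  have hku : (k * g).1.1 *ᵥ u = u := by rw [SU_mul_mulVec, hkx]
  have e0 : mk6 (1 : F) 0 (0 : W) = w ^ 2 • v₀ + u := by
    rw [hu, v₀, smul_mk6, add_mk6, mk6_inj]
    exact ⟨by linear_combination -hw + h2, by linear_combination -(w ^ 2) * h2, by simp⟩
  have e1 : mk6 (0 : F) 1 (0 : W) = w • v₀ + u := by
    rw [hu, v₀, smul_mk6, add_mk6, mk6_inj]
    exact ⟨by linear_combination -w * h2, by linear_combination -hw + h2, by simp⟩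
  have := fix_plane_mem hF (g := k * g) (by rw [e0, Matrix.mulVec_add, Matrix.mulVec_smul, hkg, hku])
    (by rw [e1, Matrix.mulVec_add, Matrix.mulVec_smul, hkg, hku])
  exact (Subgroup.mul_mem_cancel_left _ hk).1 (tailTv_le this)

/-- Scalars by cube roots of one are central. -/
theorem exists_scalar {c : F} (hc : c ≠ 0) :
    ∃ z : SU₆, z ∈ Subgroup.center SU₆ ∧ ∀ x, z.1.1 *ᵥ x = c • x := by
  have hc3 := cube_eq_one hF hc
  obtain ⟨z₀, hz₀⟩ := exists_GU_of_preserving hF (c • LinearMap.id : V →ₗ[F] V) (fun x y => by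
    rw [LinearMap.smul_apply, LinearMap.smul_apply, LinearMap.id_apply, LinearMap.id_apply,
      hermForm_smul_left, hermForm_smul_right, ← mul_assoc, ← pow_succ', hc3, one_mul])
  have hm : z₀.1.val = c • (1 : Matrix (Fin 6) (Fin 6) F) := Matrix.ext_of_mulVec_single fun i => by
    rw [hz₀, Matrix.smul_mulVec, Matrix.one_mulVec]; rfl
  obtain ⟨z, hz⟩ := exists_SU_of_GU z₀ (by
    rw [hm, Matrix.det_smul, Matrix.det_one, mul_one, Fintype.card_fin, show (6 : ℕ) = 3 * 2 by rfl,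
      pow_mul, hc3, one_pow])
  have happ : ∀ x, z.1.1 *ᵥ x = c • x := fun x => by rw [hz, hz₀]; rfl
  exact ⟨z, Subgroup.mem_center_iff.2 fun g => SU_ext fun x => by
    rw [SU_mul_mulVec, SU_mul_mulVec, happ, happ, Matrix.mulVec_smul], happ⟩

/-- The centraliser of a transvection in the simple group. -/
theorem centralizer_perpTv {A₀ : SU₆} (hA₀ : IsTvAt v₀ A₀) {g : PSU₆}
    (hg : Commute g (QuotientGroup.mk A₀)) : ∃ k ∈ perpTv F, (QuotientGroup.mk k : PSU₆) = g := by
  obtain ⟨g, rfl⟩ := QuotientGroup.mk_surjective g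
  obtain ⟨c, hc⟩ := map_line_of_mk_commute hF hA₀ hg
  have hc0 : c ≠ 0 := fun e => v₀_ne hF (by
    have := SU_inv_mulVec_mulVec g (v₀ : V)
    rwa [hc, e, zero_smul, Matrix.mulVec_zero, eq_comm] at this)
  obtain ⟨z, hz, hzx⟩ := exists_scalar hF (inv_ne_zero hc0)
  refine ⟨z * g, fix_mem hF (by rw [SU_mul_mulVec, hc, hzx, inv_smul_smul₀ hc0]), ?_⟩
  rw [QuotientGroup.mk_mul, (QuotientGroup.eq_one_iff z).2 hz, one_mul]

end CfsgLib.ThreeTrans.USix
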