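import Mathlib
import Cfsg.Agent.Lib.ThreeTrans.Tower.UnitaryStab
import Cfsg.Agent.Lib.ThreeTrans.Tower.Local

/-! The local data of the transvections of `PSU(6,2)`: the first member of the tower. -/

set_option autoImplicit false
set_option linter.unusedSectionVars false

namespace CfsgLib.ThreeTrans.USix

open Matrix CfsgLib.ClassicalGroups
open CfsgLib.ThreeTrans.Tower (Kc Dd_symm)

variable {F : Type*} [Field F] [Fintype F]

local notation "V" => Fin 6 → F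
local notation "W" => Fin 4 → F
local notation "𝕙" => Cfsg.hermForm 6 F 2
local notation "𝕙₄" => Cfsg.hermForm 4 F 2
local notation "SU₆" => Cfsg.SU 6 F 2
local notation "PSU₆" => Cfsg.PSU 6 F 2

theorem smul_ne_of_tl {x y : V} (hy : tl y = 0) (hx : tl x ≠ 0) (c : F) : x ≠ c • y := by
  intro h
  refine hx ?_
  have : tl (c • y) = c • tl y := rfl
  rw [h, this, hy, smul_zero]

theorem tl_smul (c : F) (x : V) : tl (c • x) = c • tl x := rfl

theorem tl_zero : tl (0 : V) = 0 := rfl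

variable (hF : Fintype.card F = 2 ^ 2)

/-- A conjugation invariant non-empty set of 3-transpositions. -/
structure TClass {F : Type*} [Field F] (E : Set (Cfsg.PSU 6 F 2)) : Prop where
  set : Cfsg.IsThreeTranspositionSet E
  conj : ∀ g, ∀ a ∈ E, g * a * g⁻¹ ∈ E
  nonempty : E.Nonempty

namespace TClass

variable {E : Set (Cfsg.PSU 6 F 2)} (hE : TClass E)
include hF hE

theorem rep {a : PSU₆} (ha : a ∈ E) : ∃ (v : V) (A : SU₆), IsTvAt v A ∧ (QuotientGroup.mk A : PSU₆) = a :=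
  exists_rep hF hE.set hE.conj ha

theorem hall {v : V} {A : SU₆} (hA : IsTvAt v A) : (QuotientGroup.mk A : PSU₆) ∈ E := by
  obtain ⟨a, ha⟩ := hE.nonempty
  obtain ⟨w, B, hB, rfl⟩ := hE.rep hF ha
  obtain ⟨s, rfl⟩ := tv_conjugate hF hB hA
  rw [QuotientGroup.mk_mul, QuotientGroup.mk_mul, QuotientGroup.mk_inv]
  exact hE.conj _ _ ha

theorem mk_eq_iff {v w : V} {A B : SU₆} (hA : IsTvAt v A) (hB : IsTvAt w B) :
    (QuotientGroup.mk A : PSU₆) = QuotientGroup.mk B ↔ ∃ c : F, c ≠ 0 ∧ w = c • v := by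
  constructor
  · intro h
    rw [← eq_of_mk_eq hF hA hB h] at hB
    exact hA.line hF hB
  · rintro ⟨c, hc, rfl⟩
    rw [(hA.scale hF hc).unique hF hB]

theorem mem_Dd_iff {v w : V} {A B : SU₆} (hA : IsTvAt v A) (hB : IsTvAt w B) :
    (QuotientGroup.mk B : PSU₆) ∈ Dd E (QuotientGroup.mk A) ↔ 𝕙 w v = 0 ∧ ∀ c : F, w ≠ c • v := by
  constructor
  · rintro ⟨-, hne, hc⟩
    exact ⟨herm_zero_symm hF ((commute_mk_iff hF hA hB).1 hc), hA.not_smul hF hB (Ne.symm hne)⟩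
  · rintro ⟨h, hns⟩
    refine ⟨hE.hall hF hB, fun e => ?_, (commute_mk_iff hF hA hB).2 (herm_zero_symm hF h)⟩
    obtain ⟨c, -, hc⟩ := (hE.mk_eq_iff hF hA hB).1 e.symm
    exact hns c hc

theorem conj_mk {v w : V} {A B : SU₆} (hA : IsTvAt v A) (hB : IsTvAt w B) {s : SU₆} {c : F} (hc : c ≠ 0)
    (h : s.1.1 *ᵥ v = c • w) :
    (QuotientGroup.mk s : PSU₆) * QuotientGroup.mk A * (QuotientGroup.mk s)⁻¹ = QuotientGroup.mk B := by
  have h1 := hA.conj hF s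
  rw [h] at h1
  rw [← QuotientGroup.mk_inv, ← QuotientGroup.mk_mul, ← QuotientGroup.mk_mul, h1.unique hF (hB.scale hF hc)]

theorem closed : ConjClosed E := ⟨hE.set, hE.conj⟩

theorem group : Cfsg.IsThreeTranspositionGroup E := by
  refine ⟨hE.set, hE.conj, ?_⟩
  haveI := psu_isSimpleGroup (n := 6) hF (by norm_num) (by norm_num)
  haveI : (Subgroup.closure E).Normal := ⟨fun x hx g => by
    induction hx using Subgroup.closure_induction with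
    | mem y hy => exact Subgroup.subset_closure (hE.conj g y hy)
    | one => simp
    | mul p q _ _ hp hq => simpa [mul_assoc] using mul_mem hp hq
    | inv p _ hp => simpa [mul_assoc] using inv_mem hp⟩
  refine (Subgroup.Normal.eq_bot_or_eq_top (H := Subgroup.closure E) inferInstance).resolve_left fun h => ?_
  obtain ⟨a, ha⟩ := hE.nonempty
  have h1 : a ∈ (⊥ : Subgroup PSU₆) := h ▸ Subgroup.subset_closure ha
  rw [Subgroup.mem_bot] at h1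
  have h2 := hE.set.1 a ha
  rw [h1, orderOf_one] at h2
  exact absurd h2 (by norm_num)

/-- A pair of members not commuting moves to any other such pair. -/
theorem exists_far_map {v w x y : V} {A B X Y : SU₆} (hA : IsTvAt v A) (hB : IsTvAt w B) (hX : IsTvAt x X)
    (hY : IsTvAt y Y) (h : 𝕙 v w ≠ 0) (h' : 𝕙 x y ≠ 0) :
    ∃ g : PSU₆, g * QuotientGroup.mk A * g⁻¹ = QuotientGroup.mk X ∧
      g * QuotientGroup.mk B * g⁻¹ = QuotientGroup.mk Y := by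
  obtain ⟨s, a, b, ha, hb, hsa, hsb⟩ := exists_SU_map_nonorth hF hA.2.1 hB.2.1 h hX.2.1 hY.2.1 h'
  exact ⟨_, hE.conj_mk hF hA hX ha hsa, hE.conj_mk hF hB hY hb hsb⟩

/-- A commuting pair moves to any other such pair. -/
theorem exists_near_map {v w x y : V} {A B X Y : SU₆} (hA : IsTvAt v A) (hB : IsTvAt w B) (hX : IsTvAt x X)
    (hY : IsTvAt y Y) (h : 𝕙 w v = 0) (hns : ∀ c : F, w ≠ c • v) (h' : 𝕙 y x = 0) (hns' : ∀ c : F, y ≠ c • x) :
    ∃ g : PSU₆, g * QuotientGroup.mk A * g⁻¹ = QuotientGroup.mk X ∧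
      g * QuotientGroup.mk B * g⁻¹ = QuotientGroup.mk Y := by
  obtain ⟨s, a, b, ha, hb, hsa, hsb⟩ := exists_SU_map_orth hF hA.2.1 hB.2.1 (herm_zero_symm hF h)
    (li_pair_of_ne hA.1 hns) hX.2.1 hY.2.1 (herm_zero_symm hF h') (li_pair_of_ne hX.1 hns')
  exact ⟨_, hE.conj_mk hF hA hX ha hsa, hE.conj_mk hF hB hY hb hsb⟩

end TClass

/-- The standard partner of `v₀`. -/
def u₀ (w : F) : V := mk6 w (w ^ 2) 0

include hF

theorem u₀_spec {w : F} (hw0 : w ≠ 0) (hw : 1 + w + w ^ 2 = 0) :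
    u₀ w ≠ 0 ∧ 𝕙 (u₀ w) (u₀ w) = 0 ∧ 𝕙 v₀ (u₀ w) = 1 ∧ 𝕙 (u₀ w) v₀ = 1 := by
  have h2 := two_eq_zero hF
  have hw3 := cube_eq_one hF hw0
  have h1 : 𝕙 (u₀ w) v₀ = 1 := by rw [u₀, herm_v₀ hF, mk6_zero, mk6_one]; linear_combination hw - h2
  refine ⟨fun h => hw0 (congrFun h 0), ?_, by rw [herm_symm' hF, h1, one_pow], h1⟩
  rw [u₀, herm_mk6, hermForm_zero_left]; linear_combination (2 + w ^ 3) * hw3 + h2

/-- A vector of the complement meets the standard pair orthogonally. -/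
theorem tail_perp (w : F) (z : W) :
    𝕙 (mk6 0 0 z) v₀ = 0 ∧ 𝕙 (mk6 0 0 z) (u₀ w) = 0 := by
  refine ⟨by rw [v₀, herm_mk6, hermForm_zero_right hF]; ring, by rw [u₀, herm_mk6, hermForm_zero_right hF]; ring⟩

theorem eq_tail {x : V} {w : F} (hw : 1 + w + w ^ 2 = 0) (h0 : 𝕙 x v₀ = 0) (h1 : 𝕙 x (u₀ w) = 0) :
    x = mk6 0 0 (tl x) := by
  have h2 := two_eq_zero hF
  rw [herm_v₀ hF] at h0
  rw [u₀, herm_split, mk6_zero, mk6_one, tl_mk6, hermForm_zero_right hF] at h1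
  have hw0 : w ≠ 0 := fun e => one_ne_zero (α := F) (by rw [e] at hw; linear_combination hw)
  have hw3 := cube_eq_one hF hw0
  have e0 : x 0 = 0 := by linear_combination h1 - w * h0 - x 1 * w * hw3 - x 0 * hw + x 0 * (w + 1) * h2
  have e1 : x 1 = 0 := by linear_combination h0 - e0
  conv_lhs => rw [← mk6_tl x, e0, e1]

theorem herm_four (u v : W) : 𝕙₄ u v = u 0 * v 0 ^ 2 + u 1 * v 1 ^ 2 + u 2 * v 2 ^ 2 + u 3 * v 3 ^ 2 := by
  simp [Cfsg.hermForm, Fin.sum_univ_four]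

/-- An isotropic vector of the complement has an independent orthogonal one. -/
theorem exists_tail_second {z : W} (hz : z ≠ 0) (hzz : 𝕙₄ z z = 0) :
    ∃ z' : W, 𝕙₄ z' z' = 0 ∧ 𝕙₄ z' z = 0 ∧ ∀ c : F, z' ≠ c • z := by
  have h2 := two_eq_zero hF
  set e : W := ![1, 1, 0, 0] with he
  set e' : W := ![0, 0, 1, 1] with he'
  obtain ⟨g, hg⟩ := exists_GU_family hF ![e] ![z]
    (LinearIndependent.of_subsingleton 0 fun h => one_ne_zero (α := F) (congrFun h 0))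
    (LinearIndependent.of_subsingleton 0 hz) (fun i j => by
      fin_cases i; fin_cases j
      simp only [Fin.zero_eta, Matrix.cons_val_fin_one, hzz, herm_four hF, he]
      simp; linear_combination h2)
  have hG : ∀ x y, 𝕙₄ (g.1.val *ᵥ x) (g.1.val *ᵥ y) = 𝕙₄ x y := mem_GU_iff.1 g.2
  have hg0 : g.1.val *ᵥ e = z := hg 0
  refine ⟨g.1.val *ᵥ e', ?_, ?_, fun c h => ?_⟩
  · rw [hG, herm_four hF]; simp [he']; linear_combination h2
  · rw [← hg0, hG, herm_four hF]; simp [he, he']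
  · rw [← hg0, ← Matrix.mulVec_smul] at h
    have h' := congrArg (g⁻¹.1.val *ᵥ ·) h
    simp only [← GU_mul_mulVec, inv_mul_cancel, GU_one_mulVec] at h'
    simpa [he, he'] using congrFun h' 2

/-- Two independent orthogonal isotropic vectors of the complement have a common non-neighbour. -/
theorem exists_tail_far {z z' : W} (hz : 𝕙₄ z z = 0) (hz' : 𝕙₄ z' z' = 0) (hzz : 𝕙₄ z z' = 0)
    (hli : LinearIndependent F ![z, z']) : ∃ u : W, 𝕙₄ u u = 0 ∧ 𝕙₄ u z ≠ 0 ∧ 𝕙₄ u z' ≠ 0 := by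
  have h2 := two_eq_zero hF
  set e : W := ![1, 1, 0, 0] with he
  set e' : W := ![0, 0, 1, 1] with he'
  have hli' : LinearIndependent F ![e, e'] := by
    rw [LinearIndependent.pair_iff]
    intro s t h
    have e0 := congrFun h 0
    have e2 := congrFun h 2
    simp [he, he'] at e0 e2
    exact ⟨e0, e2⟩
  have hzz' : 𝕙₄ z' z = 0 := by rw [hermForm_symm hF 4 z z', hzz, zero_pow two_ne_zero]
  obtain ⟨g, hg⟩ := exists_GU_family hF ![e, e'] ![z, z'] hli' hli (fun i j => by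
    fin_cases i <;> fin_cases j <;> simp [herm_four hF, he, he'] <;> simp [← herm_four hF, hz, hz', hzz, hzz'] <;>
      linear_combination h2)
  have hG : ∀ x y, 𝕙₄ (g.1.val *ᵥ x) (g.1.val *ᵥ y) = 𝕙₄ x y := mem_GU_iff.1 g.2
  have hg0 : g.1.val *ᵥ e = z := hg 0
  have hg1 : g.1.val *ᵥ e' = z' := hg 1
  refine ⟨g.1.val *ᵥ ![1, 0, 1, 0], ?_, ?_, ?_⟩
  · rw [hG, herm_four hF]; simp; linear_combination h2
  · rw [← hg0, hG, herm_four hF]; simp [he]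
  · rw [← hg1, hG, herm_four hF]; simp [he']

namespace TClass

variable {E : Set (Cfsg.PSU 6 F 2)} (hE : TClass E)
include hE

/-- Standard position for two members not commuting. -/
theorem normal {w : F} (hw0 : w ≠ 0) (hw : 1 + w + w ^ 2 = 0) {A₀ U₀ : SU₆} (hA₀ : IsTvAt v₀ A₀)
    (hU₀ : IsTvAt (u₀ w) U₀) {a c : PSU₆} (ha : a ∈ E) (hc : c ∈ E) (hac : ¬ Commute a c) :
    ∃ g : PSU₆, g * QuotientGroup.mk A₀ * g⁻¹ = a ∧ g * QuotientGroup.mk U₀ * g⁻¹ = c := by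
  obtain ⟨v, A, hA, rfl⟩ := hE.rep hF ha
  obtain ⟨x, C, hC, rfl⟩ := hE.rep hF hc
  exact hE.exists_far_map hF hA₀ hU₀ hA hC (by rw [(u₀_spec hF hw0 hw).2.2.1]; exact one_ne_zero)
    fun h => hac ((commute_mk_iff hF hA hC).2 h)

theorem stab {a g : PSU₆} (ha : a ∈ E) (hg : Commute g a) : g ∈ Kc E a := by
  obtain ⟨v, A, hA, rfl⟩ := hE.rep hF ha
  obtain ⟨A₀, hA₀⟩ := exists_tvAt hF (v₀_ne hF) (v₀_iso hF)
  obtain ⟨s, hs⟩ := tv_conjugate hF hA₀ hA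
  have hs' : (QuotientGroup.mk s : PSU₆) * QuotientGroup.mk A₀ * (QuotientGroup.mk s)⁻¹ = QuotientGroup.mk A := by
    rw [← QuotientGroup.mk_inv, ← QuotientGroup.mk_mul, ← QuotientGroup.mk_mul, hs]
  set t : PSU₆ := QuotientGroup.mk s
  have hg' : Commute (t⁻¹ * g * t) (QuotientGroup.mk A₀) := by
    rw [← commute_conj_iff t, hs', show t * (t⁻¹ * g * t) * t⁻¹ = g by group]
    exact hg
  obtain ⟨k, hk, hkg⟩ := centralizer_perpTv hF hA₀ hg'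
  have hkc : (QuotientGroup.mk k : PSU₆) ∈ Kc E (QuotientGroup.mk A₀) := by
    clear hkg
    induction hk using Subgroup.closure_induction with
    | mem B hB =>
      obtain ⟨x, hB, hx⟩ := hB
      exact Subgroup.subset_closure ⟨hE.hall hF hB, (commute_mk_iff hF hA₀ hB).2 (herm_zero_symm hF hx)⟩
    | one => rw [QuotientGroup.mk_one]; exact one_mem _
    | mul p q _ _ hp hq => rw [QuotientGroup.mk_mul]; exact mul_mem hp hq
    | inv p _ hp => rw [QuotientGroup.mk_inv]; exact inv_mem hp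
  have := Tower.conj_Kc_mem (hE.closed hF) t hkc
  rwa [hs', hkg, show t * (t⁻¹ * g * t) * t⁻¹ = g by group] at this

theorem perp {a b b' : PSU₆} (ha : a ∈ E) (hb : b ∈ Dd E a) (hb' : b' ∈ Dd E a) :
    ∃ g : PSU₆, Commute g a ∧ g * b * g⁻¹ = b' := by
  obtain ⟨v, A, hA, rfl⟩ := hE.rep hF ha
  obtain ⟨x, B, hB, rfl⟩ := hE.rep hF hb.1
  obtain ⟨y, B', hB', rfl⟩ := hE.rep hF hb'.1
  obtain ⟨h1, n1⟩ := (hE.mem_Dd_iff hF hA hB).1 hb
  obtain ⟨h2, n2⟩ := (hE.mem_Dd_iff hF hA hB').1 hb'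
  obtain ⟨g, hga, hgb⟩ := hE.exists_near_map hF hA hB hA hB' h1 n1 h2 n2
  exact ⟨g, mul_inv_eq_iff_eq_mul.1 hga, hgb⟩

theorem farT {a c c' : PSU₆} (ha : a ∈ E) (hc : c ∈ E) (hc' : c' ∈ E) (hac : ¬ Commute a c)
    (hac' : ¬ Commute a c') : ∃ g : PSU₆, Commute g a ∧ g * c * g⁻¹ = c' := by
  obtain ⟨v, A, hA, rfl⟩ := hE.rep hF ha
  obtain ⟨x, C, hC, rfl⟩ := hE.rep hF hc
  obtain ⟨y, C', hC', rfl⟩ := hE.rep hF hc'
  obtain ⟨g, hga, hgc⟩ := hE.exists_far_map hF hA hC hA hC' (fun h => hac ((commute_mk_iff hF hA hC).2 h))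
    fun h => hac' ((commute_mk_iff hF hA hC').2 h)
  exact ⟨g, mul_inv_eq_iff_eq_mul.1 hga, hgc⟩

theorem farTwins {a p q : PSU₆} (ha : a ∈ E) (hp : p ∈ E) (hq : q ∈ E) (hap : ¬ Commute a p)
    (haq : ¬ Commute a q) (h : ∀ u ∈ Dd E a, (Commute p u ↔ Commute q u)) : q = p ∨ q = a * p * a := by
  have h2 := two_eq_zero hF
  obtain ⟨w, hw0, hw1, hw⟩ := exists_omega hF
  have hw3 := cube_eq_one hF hw0
  obtain ⟨hu0, huu, hvu, huv⟩ := u₀_spec hF hw0 hw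
  obtain ⟨A₀, hA₀⟩ := exists_tvAt hF (v₀_ne hF) (v₀_iso hF)
  obtain ⟨U₀, hU₀⟩ := exists_tvAt hF hu0 huu
  obtain ⟨g, hga, hgp⟩ := hE.normal hF hw0 hw hA₀ hU₀ ha hp hap
  have hq' : g⁻¹ * q * g⁻¹⁻¹ ∈ E := hE.conj _ _ hq
  obtain ⟨x, Q, hQ, hQq⟩ := hE.rep hF hq'
  have hgq : g * QuotientGroup.mk Q * g⁻¹ = q := by rw [hQq]; group
  have hxv : 𝕙 x v₀ ≠ 0 := fun e => haq (by
    rw [← hga, ← hgq, commute_conj_iff, commute_mk_iff hF hA₀ hQ]
    exact herm_zero_symm hF e)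
  have hQ' := hQ.scale hF (inv_ne_zero hxv)
  set y : V := (𝕙 x v₀)⁻¹ • x with hy
  have hy1 : y 0 + y 1 = 1 := by rw [← herm_v₀ hF, hy, hermForm_smul_left, inv_mul_cancel₀ hxv]
  have ht : tl y = 0 := by
    by_contra ht
    obtain ⟨z, hz, hzy⟩ := exists_iso_pair hF ht 1
    have hz0 : z ≠ 0 := fun e => by rw [e, hermForm_zero_left] at hzy; exact zero_ne_one hzy
    have hne : mk6 0 0 z ≠ 0 := fun e => hz0 ((tl_mk6 0 0 z).symm.trans (congrArg tl e))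
    obtain ⟨Z, hZ⟩ := exists_tvAt hF hne (by rw [herm_mk6, hz]; ring)
    have hZm : g * QuotientGroup.mk Z * g⁻¹ ∈ Dd E a := hga ▸ conj_mem_Dd_conj (hE.closed hF) g
      ((hE.mem_Dd_iff hF hA₀ hZ).2 ⟨(tail_perp hF w z).1, smul_ne_of_tl (tl_mk6 1 1 0) (by rw [tl_mk6]; exact hz0)⟩)
    have h1 := (h _ hZm).1 (by
      rw [← hgp, commute_conj_iff, commute_mk_iff hF hU₀ hZ]
      exact herm_zero_symm hF (tail_perp hF w z).2)
    rw [← hgq, commute_conj_iff, commute_mk_iff hF hQ' hZ, herm_split, mk6_zero, mk6_one, tl_mk6,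
      hermForm_symm hF 4 z (tl y), hzy] at h1
    exact one_ne_zero (α := F) (by linear_combination h1)
  have hy2 := hQ'.2.1
  rw [← mk6_tl y, ht, herm_mk6, hermForm_zero_left] at hy2
  rcases norm_sum_cases hF hy1 with ⟨e0, e1⟩ | ⟨e0, e1⟩ | ⟨e0, e1, -, e3⟩
  · rw [e0, e1] at hy2; exact absurd (by linear_combination hy2) (one_ne_zero (α := F))
  · rw [e0, e1] at hy2; exact absurd (by linear_combination hy2) (one_ne_zero (α := F))
  rcases omega_cases hF hw1 hw e0 with e | e | e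
  · rw [e, one_pow] at e3
    rw [e, e3] at hy1
    exact absurd (by linear_combination h2 - hy1) (one_ne_zero (α := F))
  · left
    have hyu : y = u₀ w := by rw [← mk6_tl y, ht, e3, e]; rfl
    rw [hyu] at hQ'
    rw [← hgq, ← hgp, hQ'.unique hF hU₀]
  · right
    have h1 := hU₀.conj hF A₀
    rw [hA₀.apply, huv, one_smul, show u₀ w + v₀ = y by
      rw [← mk6_tl y, ht, e3, e, u₀, v₀, add_mk6, mk6_inj]
      exact ⟨by linear_combination -hw + (w + 1) * h2, by linear_combination hw - w * hw3 - w * h2, add_zero 0⟩] at h1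
    have e4 : (QuotientGroup.mk Q : PSU₆) =
        QuotientGroup.mk A₀ * QuotientGroup.mk U₀ * (QuotientGroup.mk A₀)⁻¹ := by
      rw [hQ'.unique hF h1]; rfl
    rw [inv_eq hE.set (hE.hall hF hA₀)] at e4
    rw [← hgq, ← hgp, ← hga, e4]
    group

theorem edge {a c : PSU₆} (ha : a ∈ E) (hc : c ∈ E) (hac : ¬ Commute a c) :
    ∃ x y : PSU₆, x ∈ Dd E a ∧ x ∈ Dd E c ∧ y ∈ Dd E a ∧ y ∈ Dd E c ∧ y ∈ Dd E x := by
  have h2 := two_eq_zero hF
  obtain ⟨w, hw0, hw1, hw⟩ := exists_omega hF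
  obtain ⟨hu0, huu, -, -⟩ := u₀_spec hF hw0 hw
  obtain ⟨A₀, hA₀⟩ := exists_tvAt hF (v₀_ne hF) (v₀_iso hF)
  obtain ⟨U₀, hU₀⟩ := exists_tvAt hF hu0 huu
  obtain ⟨g, rfl, rfl⟩ := hE.normal hF hw0 hw hA₀ hU₀ ha hc hac
  set e : W := ![1, 1, 0, 0] with he
  set e' : W := ![0, 0, 1, 1] with he'
  have hne : e ≠ 0 := fun h => one_ne_zero (α := F) (congrFun h 0)
  have hne' : e' ≠ 0 := fun h => one_ne_zero (α := F) (congrFun h 2)
  obtain ⟨X, hX⟩ := exists_tvAt hF (v := mk6 0 0 e) (fun h => hne ((tl_mk6 0 0 e).symm.trans (congrArg tl h)))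
    (by rw [herm_mk6, herm_four hF]; simp [he]; linear_combination h2)
  obtain ⟨Y, hY⟩ := exists_tvAt hF (v := mk6 0 0 e') (fun h => hne' ((tl_mk6 0 0 e').symm.trans (congrArg tl h)))
    (by rw [herm_mk6, herm_four hF]; simp [he']; linear_combination h2)
  have hc := hE.closed hF
  have k1 : ∀ {z : W} {Z : SU₆}, z ≠ 0 → IsTvAt (mk6 0 0 z) Z →
      g * QuotientGroup.mk Z * g⁻¹ ∈ Dd E (g * QuotientGroup.mk A₀ * g⁻¹) ∧
      g * QuotientGroup.mk Z * g⁻¹ ∈ Dd E (g * QuotientGroup.mk U₀ * g⁻¹) := fun {z Z} hz hZ =>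
    ⟨conj_mem_Dd_conj hc g ((hE.mem_Dd_iff hF hA₀ hZ).2
      ⟨(tail_perp hF w z).1, smul_ne_of_tl (tl_mk6 1 1 0) (by rw [tl_mk6]; exact hz)⟩),
    conj_mem_Dd_conj hc g ((hE.mem_Dd_iff hF hU₀ hZ).2
      ⟨(tail_perp hF w z).2, smul_ne_of_tl (tl_mk6 w (w ^ 2) 0) (by rw [tl_mk6]; exact hz)⟩)⟩
  refine ⟨_, _, (k1 hne hX).1, (k1 hne hX).2, (k1 hne' hY).1, (k1 hne' hY).2,
    conj_mem_Dd_conj hc g ((hE.mem_Dd_iff hF hX hY).2 ⟨?_, fun c h => ?_⟩)⟩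
  · rw [herm_mk6, herm_four hF]; simp [he, he']
  · have := congrFun h 4
    simp [mk6, he, he'] at this

theorem common {x b b' : PSU₆} (hx : x ∈ E) (hb : b ∈ Dd E x) (hb' : b' ∈ Dd E x) (h : ¬ Commute b b') :
    ∃ z, z ∈ Dd E x ∧ z ∈ Dd E b ∧ z ∈ Dd E b' := by
  obtain ⟨w, hw0, hw1, hw⟩ := exists_omega hF
  obtain ⟨hu0, huu, -, -⟩ := u₀_spec hF hw0 hw
  obtain ⟨A₀, hA₀⟩ := exists_tvAt hF (v₀_ne hF) (v₀_iso hF)
  obtain ⟨U₀, hU₀⟩ := exists_tvAt hF hu0 huu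
  obtain ⟨g, rfl, rfl⟩ := hE.normal hF hw0 hw hA₀ hU₀ hb.1 hb'.1 h
  have hc := hE.closed hF
  obtain ⟨v, X, hX, hXx⟩ := hE.rep hF (hE.conj g⁻¹ x hx)
  obtain rfl : g * QuotientGroup.mk X * g⁻¹ = x := by rw [hXx]; group
  have hv0 := (commute_mk_iff hF hX hA₀).1 ((commute_conj_iff g _ _).1 hb.2.2)
  have hv1 := (commute_mk_iff hF hX hU₀).1 ((commute_conj_iff g _ _).1 hb'.2.2)
  have hv := eq_tail hF hw hv0 hv1
  have hz0 : tl v ≠ 0 := fun e => hX.1 (by rw [hv, e]; funext i; fin_cases i <;> rfl)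
  have hzz : 𝕙₄ (tl v) (tl v) = 0 := by
    have := hX.2.1
    rw [hv, herm_mk6] at this
    linear_combination this
  obtain ⟨z, hz, hzv, hns⟩ := exists_tail_second hF hz0 hzz
  have hzne : z ≠ 0 := fun e => hns 0 (by rw [e, zero_smul])
  obtain ⟨Z, hZ⟩ := exists_tvAt hF (v := mk6 0 0 z) (fun h => hzne ((tl_mk6 0 0 z).symm.trans (congrArg tl h)))
    (by rw [herm_mk6, hz]; ring)
  refine ⟨g * QuotientGroup.mk Z * g⁻¹,
    conj_mem_Dd_conj hc g ((hE.mem_Dd_iff hF hX hZ).2 ⟨?_, fun c e => hns c ?_⟩),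
    conj_mem_Dd_conj hc g ((hE.mem_Dd_iff hF hA₀ hZ).2
      ⟨(tail_perp hF w z).1, smul_ne_of_tl (tl_mk6 1 1 0) (by rw [tl_mk6]; exact hzne)⟩),
    conj_mem_Dd_conj hc g ((hE.mem_Dd_iff hF hU₀ hZ).2
      ⟨(tail_perp hF w z).2, smul_ne_of_tl (tl_mk6 w (w ^ 2) 0) (by rw [tl_mk6]; exact hzne)⟩)⟩
  · rw [hv, herm_mk6, hzv]; ring
  · rw [← tl_smul, ← e, tl_mk6]

theorem indec {a c : PSU₆} (ha : a ∈ E) (hc : c ∈ E) (hac : ¬ Commute a c) {O : Set PSU₆}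
    (hO : O ⊆ Dd E a ∩ Dd E c) (hne : O.Nonempty) (hne' : ((Dd E a ∩ Dd E c) \ O).Nonempty) :
    ∃ x ∈ O, ∃ y ∈ (Dd E a ∩ Dd E c) \ O, ¬ Commute x y := by
  obtain ⟨w, hw0, hw1, hw⟩ := exists_omega hF
  obtain ⟨hu0, huu, -, -⟩ := u₀_spec hF hw0 hw
  obtain ⟨A₀, hA₀⟩ := exists_tvAt hF (v₀_ne hF) (v₀_iso hF)
  obtain ⟨U₀, hU₀⟩ := exists_tvAt hF hu0 huu
  obtain ⟨g, rfl, rfl⟩ := hE.normal hF hw0 hw hA₀ hU₀ ha hc hac
  have hcl := hE.closed hF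
  by_contra! hno
  obtain ⟨x, hx⟩ := hne
  obtain ⟨y, hy⟩ := hne'
  have coord : ∀ p ∈ Dd E (g * QuotientGroup.mk A₀ * g⁻¹) ∩ Dd E (g * QuotientGroup.mk U₀ * g⁻¹),
      ∃ (z : W) (Z : SU₆), IsTvAt (mk6 0 0 z) Z ∧ 𝕙₄ z z = 0 ∧ z ≠ 0 ∧ g * QuotientGroup.mk Z * g⁻¹ = p := by
    intro p hp
    obtain ⟨v, X, hX, hXx⟩ := hE.rep hF (hE.conj g⁻¹ p hp.1.1)
    obtain rfl : g * QuotientGroup.mk X * g⁻¹ = p := by rw [hXx]; group
    have hv := eq_tail hF hw (herm_zero_symm hF ((commute_mk_iff hF hA₀ hX).1 ((commute_conj_iff g _ _).1 hp.1.2.2)))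
      (herm_zero_symm hF ((commute_mk_iff hF hU₀ hX).1 ((commute_conj_iff g _ _).1 hp.2.2.2)))
    refine ⟨tl v, X, hv ▸ hX, ?_, fun e => hX.1 (by rw [hv, e]; funext i; fin_cases i <;> rfl), rfl⟩
    have := hX.2.1
    rw [hv, herm_mk6] at this
    linear_combination this
  obtain ⟨z, Z, hZ, hz, hz0, rfl⟩ := coord x (hO hx)
  obtain ⟨z', Z', hZ', hz', hz0', rfl⟩ := coord y hy.1
  have hzz : 𝕙₄ z z' = 0 := by
    have := (commute_mk_iff hF hZ hZ').1 ((commute_conj_iff g _ _).1 (hno _ hx _ hy))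
    rw [herm_mk6] at this
    linear_combination this
  have hli : LinearIndependent F ![z, z'] := by
    rw [LinearIndependent.pair_iff' hz0]
    intro s hs
    have hs0 : s ≠ 0 := fun e => hz0' (by rw [← hs, e, zero_smul])
    have e : (QuotientGroup.mk Z : PSU₆) = QuotientGroup.mk Z' :=
      (hE.mk_eq_iff hF hZ hZ').2 ⟨s, hs0, by rw [smul_mk6, mul_zero, hs]⟩
    exact hy.2 (e ▸ hx)
  obtain ⟨u, hu, huz, huz'⟩ := exists_tail_far hF hz hz' hzz hli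
  have hu0 : u ≠ 0 := fun e => huz (by rw [e, hermForm_zero_left])
  obtain ⟨T, hT⟩ := exists_tvAt hF (v := mk6 0 0 u) (fun h => hu0 ((tl_mk6 0 0 u).symm.trans (congrArg tl h)))
    (by rw [herm_mk6, hu]; ring)
  have hmem : g * QuotientGroup.mk T * g⁻¹ ∈
      Dd E (g * QuotientGroup.mk A₀ * g⁻¹) ∩ Dd E (g * QuotientGroup.mk U₀ * g⁻¹) :=
    ⟨conj_mem_Dd_conj hcl g ((hE.mem_Dd_iff hF hA₀ hT).2
      ⟨(tail_perp hF w u).1, smul_ne_of_tl (tl_mk6 1 1 0) (by rw [tl_mk6]; exact hu0)⟩),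
    conj_mem_Dd_conj hcl g ((hE.mem_Dd_iff hF hU₀ hT).2
      ⟨(tail_perp hF w u).2, smul_ne_of_tl (tl_mk6 w (w ^ 2) 0) (by rw [tl_mk6]; exact hu0)⟩)⟩
  have hherm : ∀ {s : W} {S : SU₆}, IsTvAt (mk6 0 0 s) S →
      Commute (g * QuotientGroup.mk T * g⁻¹) (g * QuotientGroup.mk S * g⁻¹) → 𝕙₄ u s = 0 := by
    intro s S hS h
    have := (commute_mk_iff hF hT hS).1 ((commute_conj_iff g _ _).1 h)
    rw [herm_mk6] at this
    linear_combination this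
  by_cases hin : g * QuotientGroup.mk T * g⁻¹ ∈ O
  · exact huz' (hherm hZ' (hno _ hin _ hy))
  · exact huz (hherm hZ (hno _ hx _ ⟨hmem, hin⟩).symm)

theorem wTwins {a b : PSU₆} (ha : a ∈ E) (hb : b ∈ E) (hne : a ≠ b) : Dd E a ≠ Dd E b := by
  intro h
  have hab : ¬ Commute a b := fun hc => by
    have : b ∈ Dd E a := ⟨hb, Ne.symm hne, hc⟩
    exact (h ▸ this : b ∈ Dd E b).2.1 rfl
  obtain ⟨w, hw0, hw1, hw⟩ := exists_omega hF
  obtain ⟨hu0, huu, hvu, -⟩ := u₀_spec hF hw0 hw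
  obtain ⟨A₀, hA₀⟩ := exists_tvAt hF (v₀_ne hF) (v₀_iso hF)
  obtain ⟨U₀, hU₀⟩ := exists_tvAt hF hu0 huu
  obtain ⟨g, rfl, rfl⟩ := hE.normal hF hw0 hw hA₀ hU₀ ha hb hab
  set z : W := ![1, 1, 0, 0] with hz
  obtain ⟨X, hX⟩ := exists_tvAt hF (v := mk6 1 1 z) (fun e => one_ne_zero (α := F) (congrFun e 0))
    (by rw [herm_mk6, herm_four hF]; simp [hz]; linear_combination 2 * two_eq_zero hF)
  have hx : g * QuotientGroup.mk X * g⁻¹ ∈ Dd E (g * QuotientGroup.mk A₀ * g⁻¹) :=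
    conj_mem_Dd_conj (hE.closed hF) g ((hE.mem_Dd_iff hF hA₀ hX).2
      ⟨by rw [herm_v₀ hF, mk6_zero, mk6_one, add_self' hF],
        smul_ne_of_tl (tl_mk6 1 1 0) (by rw [tl_mk6]; exact fun e => one_ne_zero (α := F) (congrFun e 0))⟩)
  rw [h] at hx
  have h1 := (commute_mk_iff hF hX hU₀).1 ((commute_conj_iff g _ _).1 hx.2.2.symm)
  rw [u₀, herm_mk6, hermForm_zero_right hF, one_mul, one_mul] at h1
  exact one_ne_zero (α := F) (by linear_combination hw - h1 + w * cube_eq_one hF hw0)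

end TClass

end CfsgLib.ThreeTrans.USix
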