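import Mathlib
import Cfsg.Agent.Lib.ThreeTrans.Tower.UnitaryLocal
import Cfsg.Agent.Lib.ThreeTrans.Tower.Conj

/-! The numbers 693, 180, 51, 45 of the transvections of `PSU(6,2)`, and the local data assembled. -/

set_option autoImplicit false
set_option linter.unusedSectionVars false

namespace CfsgLib.ThreeTrans.USix

open Matrix CfsgLib.ClassicalGroups
open CfsgLib.ThreeTrans.Tower (Kc Dd_symm)

variable {F : Type*} [Field F] [Fintype F]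

local notation "V" => Fin 6 → F
local notation "W" => Fin 4 → F
local notation "𝕙" => Cfsg.hermForm 6 F 2
local notation "𝕙₄" => Cfsg.hermForm 4 F 2
local notation "SU₆" => Cfsg.SU 6 F 2
local notation "PSU₆" => Cfsg.PSU 6 F 2

/-- The members with a vector in a given set. -/
def ptsOf {F : Type*} [Field F] [Fintype F] (S : Set (Fin 6 → F)) : Set (Cfsg.PSU 6 F 2) :=
  {e | ∃ v A, IsTvAt v A ∧ v ∈ S ∧ QuotientGroup.mk A = e}

theorem mk6_zero_zero : mk6 0 0 0 = (0 : V) := by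
  funext i; fin_cases i <;> rfl

variable (hF : Fintype.card F = 2 ^ 2)
include hF

/-- Three vectors to each member. -/
theorem ncard_ptsOf {S : Set V} (hiso : ∀ v ∈ S, v ≠ 0 ∧ 𝕙 v v = 0) (hscale : ∀ v ∈ S, ∀ c : F, c ≠ 0 → c • v ∈ S) :
    3 * (ptsOf S).ncard = S.ncard := by
  classical
  have hsel : ∀ e : ptsOf S, ∃ v : V, v ∈ S ∧ ∃ A, IsTvAt v A ∧ (QuotientGroup.mk A : PSU₆) = e := by
    rintro ⟨e, v, A, hA, hv, rfl⟩
    exact ⟨v, hv, A, hA, rfl⟩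
  choose r hr A hA hAe using hsel
  let f : ptsOf S × Fˣ → S := fun p => ⟨(p.2 : F) • r p.1, hscale _ (hr p.1) _ p.2.ne_zero⟩
  have hf : Function.Bijective f := by
    constructor
    · rintro ⟨e, c⟩ ⟨e', c'⟩ h
      have h' : (c : F) • r e = (c' : F) • r e' := congrArg Subtype.val h
      have h1 := (hA e).scale hF c.ne_zero
      rw [h'] at h1
      obtain rfl : e = e' := Subtype.ext (by
        rw [← hAe e, ← hAe e', h1.unique hF ((hA e').scale hF c'.ne_zero)])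
      obtain rfl : c = c' := Units.ext (smul_left_injective F (hA e).1 h')
      rfl
    · rintro ⟨v, hv⟩
      obtain ⟨B, hB⟩ := exists_tvAt hF (hiso v hv).1 (hiso v hv).2
      let e : ptsOf S := ⟨QuotientGroup.mk B, v, B, hB, hv, rfl⟩
      have hAB : A e = B := eq_of_mk_eq hF (hA e) hB (hAe e)
      have h1 := hA e
      rw [hAB] at h1
      obtain ⟨c, hc, hv'⟩ := h1.line hF hB
      exact ⟨(e, Units.mk0 c hc), Subtype.ext hv'.symm⟩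
  have h := Nat.card_eq_of_bijective f hf
  rw [Nat.card_prod, Nat.card_units, Nat.card_eq_fintype_card (α := F), hF, Nat.card_coe_set_eq,
    Nat.card_coe_set_eq] at h
  omega

theorem ncard_iso_four : {z : W | 𝕙₄ z z = 0}.ncard = 136 := by
  rw [← Nat.card_coe_set_eq]
  exact (herm_count_zero hF 3).trans (by norm_num [Nat.even_iff])

theorem ncard_iso_two : {z : Fin 2 → F | Cfsg.hermForm 2 F 2 z z = 0}.ncard = 10 := by
  rw [← Nat.card_coe_set_eq]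
  exact (herm_count_zero hF 1).trans (by norm_num [Nat.even_iff])

theorem ncard_iso_six : {v : V | v ≠ 0 ∧ 𝕙 v v = 0}.ncard = 2079 := by
  have e : {v : V | v ≠ 0 ∧ 𝕙 v v = 0} = {v : V | 𝕙 v v = 0} \ {0} := Set.ext fun v => and_comm
  rw [e, Set.ncard_diff_singleton_of_mem (show (0 : V) ∈ {v : V | 𝕙 v v = 0} from hermForm_zero_left _)]
  rw [← Nat.card_coe_set_eq]
  have := (herm_count_zero hF 5).trans (show _ = 2080 by norm_num [Nat.even_iff])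
  exact congrArg (· - 1) this

theorem ncard_deg :
    {v : V | v ≠ 0 ∧ 𝕙 v v = 0 ∧ 𝕙 v v₀ = 0 ∧ ∀ c : F, v ≠ c • v₀}.ncard = 540 := by
  have e : {v : V | v ≠ 0 ∧ 𝕙 v v = 0 ∧ 𝕙 v v₀ = 0 ∧ ∀ c : F, v ≠ c • v₀} =
      (fun p : F × W => mk6 p.1 p.1 p.2) '' (Set.univ ×ˢ ({z : W | 𝕙₄ z z = 0} \ {0})) := by
    ext v
    constructor
    · rintro ⟨-, hv, hv0, hns⟩
      rw [herm_v₀ hF] at hv0
      have e1 : v 1 = v 0 := by linear_combination hv0 - v 0 * two_eq_zero hF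
      refine ⟨(v 0, tl v), ⟨trivial, ?_, fun h => hns (v 0) ?_⟩, ?_⟩
      · rw [herm_split, e1] at hv
        show 𝕙₄ (tl v) (tl v) = 0
        linear_combination hv - v 0 * v 0 ^ 2 * two_eq_zero hF
      · rw [v₀, smul_mk6, mul_one, smul_zero]
        have h' : tl v = 0 := h
        conv_lhs => rw [← mk6_tl v, e1, h']
      · show mk6 (v 0) (v 0) (tl v) = v
        conv_rhs => rw [← mk6_tl v, e1]
    · rintro ⟨⟨c, z⟩, ⟨-, hz, hz0⟩, rfl⟩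
      have hz0' : z ≠ 0 := hz0
      refine ⟨fun h => hz0' ((tl_mk6 c c z).symm.trans (congrArg tl h)), ?_, ?_,
        smul_ne_of_tl (tl_mk6 1 1 0) (by rw [tl_mk6]; exact hz0')⟩
      · rw [herm_mk6, show 𝕙₄ z z = 0 from hz]; linear_combination c * c ^ 2 * two_eq_zero hF
      · rw [herm_v₀ hF]; exact add_self' hF c
  rw [e, Set.ncard_image_of_injective _ fun p q h => Prod.ext (mk6_inj.1 h).1 (mk6_inj.1 h).2.2, Set.ncard_prod,
    Set.ncard_univ, Nat.card_eq_fintype_card, hF,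
    Set.ncard_diff_singleton_of_mem (show (0 : W) ∈ {z : W | 𝕙₄ z z = 0} from hermForm_zero_left _),
    ncard_iso_four hF]
  norm_num

theorem ncard_mu (w : F) (hw : 1 + w + w ^ 2 = 0) :
    {v : V | v ≠ 0 ∧ 𝕙 v v = 0 ∧ 𝕙 v v₀ = 0 ∧ 𝕙 v (u₀ w) = 0}.ncard = 135 := by
  have e : {v : V | v ≠ 0 ∧ 𝕙 v v = 0 ∧ 𝕙 v v₀ = 0 ∧ 𝕙 v (u₀ w) = 0} =
      (fun z : W => mk6 0 0 z) '' ({z : W | 𝕙₄ z z = 0} \ {0}) := by
    ext v
    constructor
    · rintro ⟨hne, hv, hv0, hv1⟩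
      have e := eq_tail hF hw hv0 hv1
      refine ⟨tl v, ⟨?_, fun h => hne ?_⟩, e.symm⟩
      · rw [e, herm_mk6] at hv
        show 𝕙₄ (tl v) (tl v) = 0
        linear_combination hv
      · rw [e, Set.mem_singleton_iff.1 h, mk6_zero_zero]
    · rintro ⟨z, ⟨hz, hz0⟩, rfl⟩
      have hz0' : z ≠ 0 := hz0
      exact ⟨fun h => hz0' ((tl_mk6 0 0 z).symm.trans (congrArg tl h)),
        by rw [herm_mk6, show 𝕙₄ z z = 0 from hz]; ring, tail_perp hF w z⟩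
  rw [e, Set.ncard_image_of_injective _ fun p q h => (mk6_inj.1 h).2.2,
    Set.ncard_diff_singleton_of_mem (show (0 : W) ∈ {z : W | 𝕙₄ z z = 0} from hermForm_zero_left _),
    ncard_iso_four hF]

/-- The standard vector orthogonal to `v₀`. -/
theorem b₀_spec : (mk6 0 0 ![1, 1, 0, 0] : V) ≠ 0 ∧ 𝕙 (mk6 0 0 ![1, 1, 0, 0]) (mk6 0 0 ![1, 1, 0, 0]) = 0 ∧
    𝕙 (mk6 0 0 ![1, 1, 0, 0]) v₀ = 0 ∧ ∀ c : F, (mk6 0 0 ![1, 1, 0, 0] : V) ≠ c • v₀ := by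
  have hne : (![1, 1, 0, 0] : W) ≠ 0 := fun h => one_ne_zero (α := F) (congrFun h 0)
  refine ⟨fun h => hne ((tl_mk6 0 0 _).symm.trans (congrArg tl h)), ?_, (tail_perp hF 0 _).1,
    smul_ne_of_tl (tl_mk6 1 1 0) (by rw [tl_mk6]; exact hne)⟩
  rw [herm_mk6, herm_four hF]; simp; linear_combination two_eq_zero hF

theorem ncard_lam :
    {v : V | v ≠ 0 ∧ 𝕙 v v = 0 ∧ 𝕙 v v₀ = 0 ∧ 𝕙 v (mk6 0 0 ![1, 1, 0, 0]) = 0 ∧ (∀ c : F, v ≠ c • v₀) ∧
      ∀ c : F, v ≠ c • mk6 0 0 ![1, 1, 0, 0]}.ncard = 153 := by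
  classical
  have h2 := two_eq_zero hF
  obtain ⟨hb0, hbb, hbv, hns⟩ := b₀_spec hF
  set b : V := mk6 0 0 ![1, 1, 0, 0] with hb
  set R : Set V := {v | 𝕙 v v = 0 ∧ 𝕙 v v₀ = 0 ∧ 𝕙 v b = 0} with hR
  set L₁ : Set V := Set.range fun c : F => c • v₀ with hL₁
  set L₂ : Set V := Set.range fun c : F => c • b with hL₂
  have hRe : R = (fun p : F × F × (Fin 2 → F) => (![p.1, p.1, p.2.1, p.2.1, p.2.2 0, p.2.2 1] : V)) ''
      (Set.univ ×ˢ (Set.univ ×ˢ {y : Fin 2 → F | Cfsg.hermForm 2 F 2 y y = 0})) := by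
    ext v
    constructor
    · rintro ⟨hv, hv0, hvb⟩
      rw [herm_v₀ hF] at hv0
      rw [hb, herm_split, mk6_zero, mk6_one, tl_mk6, herm_four hF] at hvb
      simp [tl] at hvb
      have e1 : v 1 = v 0 := by linear_combination hv0 - v 0 * h2
      have e3 : v 3 = v 2 := by linear_combination hvb - v 2 * h2
      refine ⟨(v 0, v 2, ![v 4, v 5]), ⟨trivial, trivial, ?_⟩, ?_⟩
      · show Cfsg.hermForm 2 F 2 ![v 4, v 5] ![v 4, v 5] = 0
        rw [herm_six] at hv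
        simp [Cfsg.hermForm, Fin.sum_univ_two]
        rw [e1, e3] at hv
        linear_combination hv - (v 0 * v 0 ^ 2 + v 2 * v 2 ^ 2) * h2
      · funext i; fin_cases i <;> simp [e1, e3]
    · rintro ⟨⟨c, d, y⟩, ⟨-, -, hy⟩, rfl⟩
      have hy' : Cfsg.hermForm 2 F 2 y y = 0 := hy
      simp [Cfsg.hermForm, Fin.sum_univ_two] at hy'
      refine ⟨?_, ?_, ?_⟩
      · simp [herm_six]; linear_combination hy' + (c * c ^ 2 + d * d ^ 2) * h2
      · simp [herm_v₀ hF]; exact add_self' hF c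
      · rw [hb, herm_split, mk6_zero, mk6_one, tl_mk6, herm_four hF]; simp [tl]; exact add_self' hF d
  have hRn : R.ncard = 160 := by
    rw [hRe, Set.ncard_image_of_injective _ (fun p q h => Prod.ext (congrFun h 0) (Prod.ext (congrFun h 2)
      (funext fun i => by fin_cases i; exacts [congrFun h 4, congrFun h 5]))), Set.ncard_prod, Set.ncard_prod,
      Set.ncard_univ, Nat.card_eq_fintype_card, hF, ncard_iso_two hF]
    norm_num
  have hL : ∀ v : V, v ≠ 0 → (Set.range fun c : F => c • v).ncard = 4 := fun v hv => by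
    rw [Set.ncard_range_of_injective (smul_left_injective F hv), Nat.card_eq_fintype_card, hF]; rfl
  have hI : L₁ ∩ L₂ = {0} := by
    ext v
    constructor
    · rintro ⟨⟨c, rfl⟩, ⟨d, hd⟩⟩
      have hd' : d • b = c • v₀ := hd
      show c • v₀ = (0 : V)
      by_cases h : d = 0
      · rw [← hd', h, zero_smul]
      · exact absurd (by rw [← smul_smul, ← hd', inv_smul_smul₀ h]) (hns (d⁻¹ * c))
    · rintro rfl
      exact ⟨⟨0, zero_smul _ _⟩, ⟨0, zero_smul _ _⟩⟩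
  have hU : (L₁ ∪ L₂).ncard = 7 := by
    have := Set.ncard_union_add_ncard_inter L₁ L₂
    rw [hI, Set.ncard_singleton, hL₁, hL₂, hL _ (v₀_ne hF), hL _ hb0] at this
    rw [hL₁, hL₂]
    omega
  have hsub : L₁ ∪ L₂ ⊆ R := by
    rintro v (⟨c, rfl⟩ | ⟨c, rfl⟩) <;>
      simp [hR, hermForm_smul_left, hermForm_smul_right, v₀_iso hF, hbb, hbv, herm_zero_symm hF hbv]
  have e : {v : V | v ≠ 0 ∧ 𝕙 v v = 0 ∧ 𝕙 v v₀ = 0 ∧ 𝕙 v b = 0 ∧ (∀ c : F, v ≠ c • v₀) ∧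
      ∀ c : F, v ≠ c • b} = R \ (L₁ ∪ L₂) := by
    ext v
    constructor
    · rintro ⟨-, h1, h2, h3, h4, h5⟩
      refine ⟨⟨h1, h2, h3⟩, ?_⟩
      rintro (⟨c, rfl⟩ | ⟨c, rfl⟩)
      exacts [h4 c rfl, h5 c rfl]
    · rintro ⟨⟨h1, h2, h3⟩, hn⟩
      exact ⟨fun h => hn (Or.inl ⟨0, by simp [h]⟩), h1, h2, h3, fun c h => hn (Or.inl ⟨c, h.symm⟩),
        fun c h => hn (Or.inr ⟨c, h.symm⟩)⟩
  rw [e, Set.ncard_diff hsub (Set.toFinite _), hRn, hU]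

namespace TClass

variable {E : Set (Cfsg.PSU 6 F 2)} (hE : TClass E)
include hE

theorem card_eq : E.ncard = 693 := by
  have e : E = ptsOf {v : V | v ≠ 0 ∧ 𝕙 v v = 0} := by
    ext a
    constructor
    · intro ha
      obtain ⟨v, A, hA, rfl⟩ := hE.rep hF ha
      exact ⟨v, A, hA, ⟨hA.1, hA.2.1⟩, rfl⟩
    · rintro ⟨v, A, hA, -, rfl⟩
      exact hE.hall hF hA
  have h := ncard_ptsOf hF (S := {v : V | v ≠ 0 ∧ 𝕙 v v = 0}) (fun v hv => hv) (fun v hv c hc =>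
    ⟨smul_ne_zero hc hv.1, by rw [hermForm_smul_left, hermForm_smul_right, hv.2, mul_zero, mul_zero]⟩)
  rw [ncard_iso_six hF, ← e] at h
  omega

theorem deg_eq {a : PSU₆} (ha : a ∈ E) : (Dd E a).ncard = 180 := by
  obtain ⟨v, A, hA, rfl⟩ := hE.rep hF ha
  obtain ⟨A₀, hA₀⟩ := exists_tvAt hF (v₀_ne hF) (v₀_iso hF)
  have h0 : (Dd E (QuotientGroup.mk A₀)).ncard = 180 := by
    have e : Dd E (QuotientGroup.mk A₀) =
        ptsOf {v : V | v ≠ 0 ∧ 𝕙 v v = 0 ∧ 𝕙 v v₀ = 0 ∧ ∀ c : F, v ≠ c • v₀} := by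
      ext b
      constructor
      · intro hb
        obtain ⟨x, B, hB, rfl⟩ := hE.rep hF hb.1
        exact ⟨x, B, hB, ⟨hB.1, hB.2.1, (hE.mem_Dd_iff hF hA₀ hB).1 hb⟩, rfl⟩
      · rintro ⟨x, B, hB, ⟨-, -, hx⟩, rfl⟩
        exact (hE.mem_Dd_iff hF hA₀ hB).2 hx
    have h := ncard_ptsOf hF (S := {v : V | v ≠ 0 ∧ 𝕙 v v = 0 ∧ 𝕙 v v₀ = 0 ∧ ∀ c : F, v ≠ c • v₀})
      (fun v hv => ⟨hv.1, hv.2.1⟩) (fun v hv c hc => ⟨smul_ne_zero hc hv.1,
        by rw [hermForm_smul_left, hermForm_smul_right, hv.2.1, mul_zero, mul_zero],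
        by rw [hermForm_smul_left, hv.2.2.1, mul_zero],
        fun d hd => hv.2.2.2 (c⁻¹ * d) (by rw [mul_smul, ← hd, inv_smul_smul₀ hc])⟩)
    rw [ncard_deg hF, ← e] at h
    omega
  obtain ⟨s, hs⟩ := tv_conjugate hF hA₀ hA
  have hs' : (QuotientGroup.mk s : PSU₆) * QuotientGroup.mk A₀ * (QuotientGroup.mk s)⁻¹ = QuotientGroup.mk A := by
    rw [← QuotientGroup.mk_inv, ← QuotientGroup.mk_mul, ← QuotientGroup.mk_mul, hs]
  rw [← hs', ← h0, ← Tower.ncard_Dd_conj (hE.closed hF)]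

theorem lam_eq {a b : PSU₆} (ha : a ∈ E) (hb : b ∈ Dd E a) : (Dd E a ∩ Dd E b).ncard = 51 := by
  obtain ⟨hb0, hbb, hbv, hns⟩ := b₀_spec hF
  obtain ⟨v, A, hA, rfl⟩ := hE.rep hF ha
  obtain ⟨y, B, hB, rfl⟩ := hE.rep hF hb.1
  obtain ⟨A₀, hA₀⟩ := exists_tvAt hF (v₀_ne hF) (v₀_iso hF)
  obtain ⟨B₀, hB₀⟩ := exists_tvAt hF hb0 hbb
  obtain ⟨h1, n1⟩ := (hE.mem_Dd_iff hF hA hB).1 hb
  obtain ⟨g, hga, hgb⟩ := hE.exists_near_map hF hA₀ hB₀ hA hB hbv hns h1 n1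
  rw [← hga, ← hgb, ← Tower.ncard_Dd_inter_conj (hE.closed hF)]
  set S : Set V := {v : V | v ≠ 0 ∧ 𝕙 v v = 0 ∧ 𝕙 v v₀ = 0 ∧ 𝕙 v (mk6 0 0 ![1, 1, 0, 0]) = 0 ∧
    (∀ c : F, v ≠ c • v₀) ∧ ∀ c : F, v ≠ c • mk6 0 0 ![1, 1, 0, 0]} with hS
  have e : Dd E (QuotientGroup.mk A₀) ∩ Dd E (QuotientGroup.mk B₀) = ptsOf S := by
    ext p
    constructor
    · intro hp
      obtain ⟨x, P, hP, rfl⟩ := hE.rep hF hp.1.1
      obtain ⟨q1, q2⟩ := (hE.mem_Dd_iff hF hA₀ hP).1 hp.1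
      obtain ⟨q3, q4⟩ := (hE.mem_Dd_iff hF hB₀ hP).1 hp.2
      exact ⟨x, P, hP, ⟨hP.1, hP.2.1, q1, q3, q2, q4⟩, rfl⟩
    · rintro ⟨x, P, hP, ⟨-, -, q1, q3, q2, q4⟩, rfl⟩
      exact ⟨(hE.mem_Dd_iff hF hA₀ hP).2 ⟨q1, q2⟩, (hE.mem_Dd_iff hF hB₀ hP).2 ⟨q3, q4⟩⟩
  have h := ncard_ptsOf hF (S := S) (fun v hv => ⟨hv.1, hv.2.1⟩) (by
    rintro v ⟨r0, r1, r2, r3, r4, r5⟩ c hc
    exact ⟨smul_ne_zero hc r0, by rw [hermForm_smul_left, hermForm_smul_right, r1, mul_zero, mul_zero],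
      by rw [hermForm_smul_left, r2, mul_zero], by rw [hermForm_smul_left, r3, mul_zero],
      fun d hd => r4 (c⁻¹ * d) (by rw [mul_smul, ← hd, inv_smul_smul₀ hc]),
      fun d hd => r5 (c⁻¹ * d) (by rw [mul_smul, ← hd, inv_smul_smul₀ hc])⟩)
  rw [← e, hS, ncard_lam hF] at h
  omega

theorem mu_eq {a c : PSU₆} (ha : a ∈ E) (hc : c ∈ E) (hac : ¬ Commute a c) : (Dd E a ∩ Dd E c).ncard = 45 := by
  obtain ⟨w, hw0, hw1, hw⟩ := exists_omega hF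
  obtain ⟨hu0, huu, hvu, -⟩ := u₀_spec hF hw0 hw
  obtain ⟨A₀, hA₀⟩ := exists_tvAt hF (v₀_ne hF) (v₀_iso hF)
  obtain ⟨U₀, hU₀⟩ := exists_tvAt hF hu0 huu
  obtain ⟨g, rfl, rfl⟩ := hE.normal hF hw0 hw hA₀ hU₀ ha hc hac
  rw [← Tower.ncard_Dd_inter_conj (hE.closed hF)]
  set S : Set V := {v : V | v ≠ 0 ∧ 𝕙 v v = 0 ∧ 𝕙 v v₀ = 0 ∧ 𝕙 v (u₀ w) = 0} with hS
  have hnz : ∀ (x : V), x ≠ 0 → 𝕙 x v₀ = 0 → 𝕙 x (u₀ w) = 0 → tl x ≠ 0 := fun x hx0 q1 q2 h => hx0 (by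
    rw [eq_tail hF hw q1 q2, h, mk6_zero_zero])
  have e : Dd E (QuotientGroup.mk A₀) ∩ Dd E (QuotientGroup.mk U₀) = ptsOf S := by
    ext p
    constructor
    · intro hp
      obtain ⟨x, P, hP, rfl⟩ := hE.rep hF hp.1.1
      exact ⟨x, P, hP, ⟨hP.1, hP.2.1, ((hE.mem_Dd_iff hF hA₀ hP).1 hp.1).1,
        ((hE.mem_Dd_iff hF hU₀ hP).1 hp.2).1⟩, rfl⟩
    · rintro ⟨x, P, hP, ⟨q0, -, q1, q2⟩, rfl⟩
      exact ⟨(hE.mem_Dd_iff hF hA₀ hP).2 ⟨q1, smul_ne_of_tl (tl_mk6 1 1 0) (hnz x q0 q1 q2)⟩,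
        (hE.mem_Dd_iff hF hU₀ hP).2 ⟨q2, smul_ne_of_tl (tl_mk6 w (w ^ 2) 0) (hnz x q0 q1 q2)⟩⟩
  have h := ncard_ptsOf hF (S := S) (fun v hv => ⟨hv.1, hv.2.1⟩) (by
    rintro v ⟨r0, r1, r2, r3⟩ c hc
    exact ⟨smul_ne_zero hc r0, by rw [hermForm_smul_left, hermForm_smul_right, r1, mul_zero, mul_zero],
      by rw [hermForm_smul_left, r2, mul_zero], by rw [hermForm_smul_left, r3, mul_zero]⟩)
  rw [← e, hS, ncard_mu hF w hw] at h
  omega

/-- The transvections of `PSU(6,2)` form the bottom of the tower. -/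
theorem toLocal : Tower.Local E 693 180 51 45 where
  group := hE.group hF
  center := psu_six_center hF
  rigid := (lineClass hF hE.set hE.conj hE.nonempty).rigid
  wTwins := fun a ha b hb => hE.wTwins hF ha hb
  stab := fun a ha g => hE.stab hF ha
  perp := fun a ha b hb b' hb' => hE.perp hF ha hb hb'
  farT := fun a ha c hc c' hc' => hE.farT hF ha hc hc'
  farTwins := fun a ha p hp q hq => hE.farTwins hF ha hp hq
  edge := fun a ha c hc => hE.edge hF ha hc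
  common := fun x hx b hb b' hb' => hE.common hF hx hb hb'
  indec := fun a ha c hc hac O => hE.indec hF ha hc hac (O := O)
  card := hE.card_eq hF
  deg := fun a ha => hE.deg_eq hF ha
  lam := fun a ha b hb => hE.lam_eq hF ha hb
  mu := fun a ha c hc => hE.mu_eq hF ha hc

end TClass

/-- The local data for any non-empty invariant set of 3-transpositions of `PSU(6,2)`. -/
theorem local_of_class {E : Set (Cfsg.PSU 6 F 2)} (hE : Cfsg.IsThreeTranspositionSet E)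
    (hconj : ∀ g, ∀ a ∈ E, g * a * g⁻¹ ∈ E) (hne : E.Nonempty) : Tower.Local E 693 180 51 45 :=
  (⟨hE, hconj, hne⟩ : TClass E).toLocal hF

end CfsgLib.ThreeTrans.USix
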