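import Mathlib
import Cfsg.Agent.Lib.ThreeTrans.Tower.Prim
import Cfsg.Agent.Lib.ThreeTrans.Tower.UnitaryCount
import Cfsg.Agent.Lib.ThreeTrans.Tower.Eleven
import Cfsg.Agent.Lib.ThreeTrans.Tower.Numbers

/-! Groups of type M(22), M(23), M(24) acting primitively: the commuting graphs have the parameters
(3510, 693, 180, 126), (31671, 3510, 693, 351), (306936, 31671, 3510, 3240), and the centralisers of
transpositions are generated by transpositions. -/

set_option autoImplicit false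

namespace CfsgLib.ThreeTrans.Tower

open CfsgLib.ThreeTrans

universe u

variable {G : Type u} [Group G] [Finite G] {D : Set G}

/-- The quotient at the base member of a group of type M(22). -/
theorem bottom22 (hD : Cfsg.IsThreeTranspositionGroup D) (h : Cfsg.IsOfTypeM22 G D) :
    ∃ (d c : G) (F : Type) (_ : Field F) (_ : Fintype F) (π : Hd D d →* Cfsg.PSU 6 F 2),
      IsBase D d π ∧ c ∈ D ∧ ¬ Commute d c ∧ Local (imgSet D d π) 693 180 51 45 ∧
      (¬ 11 ∣ Nat.card (↥(Subgroup.closure (Dd D d ∩ Dd D c)) ⧸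
        Subgroup.center ↥(Subgroup.closure (Dd D d ∩ Dd D c)))) ∧ Fintype.card F = 2 ^ 2 := by
  obtain ⟨-, d, hd, c, hc, hdc, ⟨F, iF, iF', hF, ⟨e⟩⟩, c₃, -, hL⟩ := h
  have hF' : Fintype.card F = 2 ^ 2 := hF
  have hB := isBase_of_equiv hD hd e
  exact ⟨d, c, F, iF, iF', _, hB, hc, hdc,
    USix.local_of_class hF' hB.img_isThreeTranspositionSet hB.img_conj (hB.exists_img_ne (psu_six_noncomm hF')),
    Eleven.not_dvd_projRefl (Or.inl rfl) hL, hF'⟩

theorem mu_pos {Y : Type*} [Group Y] {E : Set Y} {N k l m : ℕ} (S : Stage D E N k l m) {a c : G} (ha : a ∈ D)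
    (hc : c ∈ D) (hac : ¬ Commute a c) : 0 < (Dd D a ∩ Dd D c).ncard := by
  obtain ⟨x, hxa, hxc⟩ := S.exists_common' ha hc hac
  exact (Set.ncard_pos (Set.toFinite _)).2 ⟨x, hxa, hxc⟩

/-- Type M(22). -/
theorem local22 (hD : Cfsg.IsThreeTranspositionGroup D) (hprim : Cfsg.IsPrimitiveUnderConj D)
    (h : Cfsg.IsOfTypeM22 G D) : Local D 3510 693 180 126 := by
  obtain ⟨d, c, F, _, _, π, hB, hc, hdc, hloc, h11, -⟩ := bottom22 hD h
  have S := stage_of_base hD hprim h.1 hloc hB rfl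
  obtain ⟨hp, hlt, n, hn⟩ := S.param hB.mem hc hdc
  obtain ⟨hμ, hv⟩ := Numbers.mu22 (mu_pos S hB.mem hc hdc) hlt
    (fun hd => h11 (hd.trans (S.mu_dvd hB.mem hc hdc))) (by push_cast at hp ⊢; exact hp)
    (n := n) (by push_cast at hn ⊢; exact hn)
  exact S.toLocal (μ := 126) (fun a ha b hb hab => (S.mu_eq ha hb hab hB.mem hc hdc).trans hμ) (by norm_num)
    (by norm_num) hv

/-- The quotient at the base member of a group of type M(23). -/
theorem bottom23 (hD : Cfsg.IsThreeTranspositionGroup D) (h : Cfsg.IsOfTypeM23 G D) :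
    ∃ (d c : G), c ∈ D ∧ ¬ Commute d c ∧ IsBase D d (QuotientGroup.mk' (Subgroup.center (Hd D d))) ∧
      Cfsg.IsOfTypeM22 (Hd D d ⧸ Subgroup.center (Hd D d))
        (imgSet D d (QuotientGroup.mk' (Subgroup.center (Hd D d)))) ∧
      ¬ 11 ∣ Nat.card (↥(Subgroup.closure (Dd D d ∩ Dd D c)) ⧸
        Subgroup.center ↥(Subgroup.closure (Dd D d ∩ Dd D c))) := by
  obtain ⟨-, d, hd, c, hc, hdc, h22, c₃, -, hL⟩ := h
  exact ⟨d, c, hc, hdc, isBase_mk hD hd, img_mk_eq (D := D) d ▸ typeM22_ne_one h22,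
    Eleven.not_dvd_projRefl (Or.inr rfl) hL⟩

/-- Primitivity one level below type M(23). -/
theorem prim22 (hD : Cfsg.IsThreeTranspositionGroup D) (hprim : Cfsg.IsPrimitiveUnderConj D) {d : G}
    (hB : IsBase D d (QuotientGroup.mk' (Subgroup.center (Hd D d))))
    (h22 : Cfsg.IsOfTypeM22 (Hd D d ⧸ Subgroup.center (Hd D d))
      (imgSet D d (QuotientGroup.mk' (Subgroup.center (Hd D d))))) :
    Cfsg.IsPrimitiveUnderConj (imgSet D d (QuotientGroup.mk' (Subgroup.center (Hd D d)))) := by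
  obtain ⟨p₀, c₀, F, _, _, π₀, hB₀, -, -, hloc, -, -⟩ := bottom22 hB.img_group h22
  exact primitive_img hD hprim hB rfl (good22 hB.img_group h22).rigid hloc.rigid.nonabelian hloc.wTwins hB₀ rfl

/-- Type M(23). -/
theorem local23 (hD : Cfsg.IsThreeTranspositionGroup D) (hprim : Cfsg.IsPrimitiveUnderConj D)
    (h : Cfsg.IsOfTypeM23 G D) : Local D 31671 3510 693 351 := by
  obtain ⟨d, c, hc, hdc, hB, h22, h11⟩ := bottom23 hD h
  have S := stage_of_base hD hprim h.1 (local22 hB.img_group (prim22 hD hprim hB h22) h22) hB rfl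
  obtain ⟨hp, hlt, n, hn⟩ := S.param hB.mem hc hdc
  obtain ⟨hμ, hv⟩ := Numbers.mu23 (mu_pos S hB.mem hc hdc) hlt
    (fun hd => h11 (hd.trans (S.mu_dvd hB.mem hc hdc))) (by push_cast at hp ⊢; exact hp)
    (n := n) (by push_cast at hn ⊢; exact hn)
  exact S.toLocal (μ := 351) (fun a ha b hb hab => (S.mu_eq ha hb hab hB.mem hc hdc).trans hμ) (by norm_num)
    (by norm_num) hv

/-- The quotient at the base member of a primitive group of type M(24). -/
theorem bottom24 (hD : Cfsg.IsThreeTranspositionGroup D) (hprim : Cfsg.IsPrimitiveUnderConj D)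
    (h : Cfsg.IsOfTypeM24 G D) :
    ∃ (d c : G), c ∈ D ∧ ¬ Commute d c ∧ IsBase D d (QuotientGroup.mk' (Subgroup.center (Hd D d))) ∧
      Cfsg.IsOfTypeM23 (Hd D d ⧸ Subgroup.center (Hd D d))
        (imgSet D d (QuotientGroup.mk' (Subgroup.center (Hd D d)))) := by
  obtain ⟨-, d, hd, c, hc, hdc, h23, -⟩ := h
  have hB := isBase_mk hD hd
  obtain ⟨-, e, ⟨x, hx, -⟩, -⟩ := id h23
  have hNT := noTwins_of_primitive hD hprim ⟨d, hd, x, hx.1, Ne.symm hx.2.1, hx.2.2⟩
  have himg : imgSet D d (QuotientGroup.mk' (Subgroup.center (Hd D d))) =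
      (QuotientGroup.mk : Hd D d → Hd D d ⧸ Subgroup.center (Hd D d)) ''
        {x : Hd D d | (x : G) ∈ {y : G | y ∈ D ∧ y ≠ d ∧ Commute d y}} :=
    Set.ext fun _ => ⟨fun ⟨_, x, hx, e⟩ => ⟨x, hx, e⟩, fun ⟨x, hx, e⟩ => e ▸ hB.img_mem hprim.1 hNT hx⟩
  exact ⟨d, c, hc, hdc, hB, himg ▸ h23⟩

/-- Primitivity one level below type M(24). -/
theorem prim23 (hD : Cfsg.IsThreeTranspositionGroup D) (hprim : Cfsg.IsPrimitiveUnderConj D) {d : G}
    (hB : IsBase D d (QuotientGroup.mk' (Subgroup.center (Hd D d))))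
    (h23 : Cfsg.IsOfTypeM23 (Hd D d ⧸ Subgroup.center (Hd D d))
      (imgSet D d (QuotientGroup.mk' (Subgroup.center (Hd D d))))) :
    Cfsg.IsPrimitiveUnderConj (imgSet D d (QuotientGroup.mk' (Subgroup.center (Hd D d)))) := by
  obtain ⟨p, c, -, -, hB', h22, -⟩ := bottom23 hB.img_group h23
  obtain ⟨q, c', F, _, _, π₀, hB₀, -, -, hloc, -, -⟩ := bottom22 hB'.img_group h22
  have hr := (good22 hB'.img_group h22).rigid
  obtain ⟨e, he, -⟩ := hloc.rigid.nonabelian
  exact primitive_img hD hprim hB rfl (good23 hB.img_group h23).rigid hr.nonabelian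
    (wTwins_up hB'.img_group hr ⟨e, he⟩ hloc.wTwins hB₀ rfl) hB' rfl

/-- Type M(24). -/
theorem local24 (hD : Cfsg.IsThreeTranspositionGroup D) (hprim : Cfsg.IsPrimitiveUnderConj D)
    (h : Cfsg.IsOfTypeM24 G D) : Local D 306936 31671 3510 3240 := by
  obtain ⟨d, c, hc, hdc, hB, h23⟩ := bottom24 hD hprim h
  have S := stage_of_base hD hprim h.1 (local23 hB.img_group (prim23 hD hprim hB h23) h23) hB rfl
  obtain ⟨hp, hlt, n, hn⟩ := S.param hB.mem hc hdc
  obtain ⟨hμ, hv⟩ := Numbers.mu24 (mu_pos S hB.mem hc hdc) hlt (by push_cast at hp ⊢; exact hp)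
    (n := n) (by push_cast at hn ⊢; exact hn)
  exact S.toLocal (μ := 3240) (fun a ha b hb hab => (S.mu_eq ha hb hab hB.mem hc hdc).trans hμ) (by norm_num)
    (by norm_num) hv

end CfsgLib.ThreeTrans.Tower
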