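import Mathlib
import Cfsg.Agent.Lib.ThreeTrans.Tower.Types

/-! Orders: the centraliser of a member, the group, and the commuting triples. -/

set_option autoImplicit false

namespace CfsgLib.ThreeTrans.Tower

theorem ncard_fibred {α β : Type*} [Finite α] [Finite β] (s : Set α) (t : α → Set β) {n : ℕ}
    (h : ∀ a ∈ s, (t a).ncard = n) : {p : α × β | p.1 ∈ s ∧ p.2 ∈ t p.1}.ncard = s.ncard * n := by
  classical
  haveI := Fintype.ofFinite α
  haveI := Fintype.ofFinite β
  have e : {p : α × β | p.1 ∈ s ∧ p.2 ∈ t p.1}.ncard = (s.toFinset.sigma fun a => (t a).toFinset).card := by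
    rw [Set.ncard_eq_toFinset_card']
    refine Finset.card_bij (fun p _ => ⟨p.1, p.2⟩) ?_ ?_ ?_
    · intro p hp; simpa using hp
    · intro p _ q _ h; simp only [Sigma.mk.injEq, heq_eq_eq] at h; exact Prod.ext h.1 h.2
    · rintro ⟨a, b⟩ hb; exact ⟨(a, b), by simpa using hb, rfl⟩
  rw [e, Finset.card_sigma, Finset.sum_congr rfl fun a ha => (Set.ncard_eq_toFinset_card' (t a)).symm.trans
    (h a (by simpa using ha)), Finset.sum_const, smul_eq_mul, Set.ncard_eq_toFinset_card']

variable {G : Type*} [Group G] [Finite G] {D : Set G}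

/-- The order of a group acting transitively on a class. -/
theorem card_group (hD : Cfsg.IsThreeTranspositionGroup D) (hcls : ∀ a ∈ D, ∀ b ∈ D, ∃ g : G, g * a * g⁻¹ = b)
    {a : G} (ha : a ∈ D) : Nat.card G = D.ncard * Nat.card (Subgroup.centralizer ({a} : Set G)) := by
  classical
  have key : MulAction.orbit (ConjAct G) a = D := by
    ext b
    constructor
    · rintro ⟨g, rfl⟩
      show g • a ∈ D
      rw [ConjAct.smul_def]
      exact hD.2.1 _ a ha
    · intro hb
      obtain ⟨g, hg⟩ := hcls a ha b hb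
      exact ⟨ConjAct.toConjAct g, hg⟩
  have h := MulAction.index_stabilizer (ConjAct G) a
  rw [key] at h
  rw [← h, mul_comm]
  have e : Nat.card (Subgroup.centralizer ({a} : Set G)) = Nat.card (MulAction.stabilizer (ConjAct G) a) := by
    refine Nat.card_congr ((ConjAct.toConjAct (G := G)).toEquiv.subtypeEquiv fun g => ?_)
    rw [Subgroup.mem_centralizer_singleton_iff]
    show _ ↔ ConjAct.toConjAct g • a = a
    rw [ConjAct.smul_def, ConjAct.ofConjAct_toConjAct, mul_inv_eq_iff_eq_mul]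
  rw [e, Subgroup.card_mul_index]
  exact Nat.card_congr (ConjAct.toConjAct (G := G)).toEquiv

variable {Y : Type*} [Group Y] {E : Set Y} {N k l m v n' k' μ : ℕ}

/-- The centraliser of a member is twice as large as the quotient at it. -/
theorem card_centralizer (S : Stage D E N k l m) (L : Local D v n' k' μ) {a : G} (ha : a ∈ D) :
    Nat.card (Subgroup.centralizer ({a} : Set G)) = 2 * Nat.card Y := by
  classical
  obtain ⟨π, M⟩ := S.base a ha
  choose σ hσ using M.base.surj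
  have ha1 : a ≠ 1 := ne_one S.threeSet ha
  have haa := mul_self S.threeSet ha
  let C := Subgroup.centralizer ({a} : Set G)
  have hC : ∀ p : Bool × Y, (if p.1 then a else 1) * (σ p.2 : G) ∈ C := fun p => by
    refine Subgroup.mem_centralizer_singleton_iff.2 (Commute.mul_left ?_ (commute_of_mem_Hd (σ p.2).2)).eq
    split_ifs
    exacts [Commute.refl a, Commute.one_left a]
  let f : Bool × Y → C := fun p => ⟨_, hC p⟩
  have hf : Function.Bijective f := by
    constructor
    · rintro ⟨b, y⟩ ⟨b', y'⟩ h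
      have h' : (if b then a else 1) * (σ y : G) = (if b' then a else 1) * (σ y' : G) := congrArg Subtype.val h
      have hy : y = y' := by
        suffices π ((σ y)⁻¹ * σ y') = 1 by
          rw [map_mul, map_inv, hσ, hσ, inv_mul_eq_one] at this
          exact this
        refine (M.base.map_eq_one_iff' _).2 fun z hz => ?_
        have : (((σ y)⁻¹ * σ y' : Hd D a) : G) = 1 ∨ (((σ y)⁻¹ * σ y' : Hd D a) : G) = a := by
          have hcm : Commute (σ y : G) a := commute_of_mem_Hd (σ y).2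
          rw [Subgroup.coe_mul, Subgroup.coe_inv]
          cases b <;> cases b' <;> simp at h'
          · left; rw [h', inv_mul_cancel]
          · right
            rw [h', mul_inv_rev, inv_eq S.threeSet ha, mul_assoc, ← (commute_of_mem_Hd (σ y').2).eq,
              inv_mul_cancel_left]
          · right
            rw [← h', ← hcm.eq, inv_mul_cancel_left]
          · left; rw [h', inv_mul_cancel]
        rcases this with e | e <;> rw [e]
        exacts [Commute.one_left z, hz.2.2]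
      subst hy
      cases b <;> cases b' <;> simp at h'
      · rfl
      · first | exact absurd h' ha1 | exact absurd h'.symm ha1
      · first | exact absurd h' ha1 | exact absurd h'.symm ha1
      · rfl
    · rintro ⟨g, hg⟩
      obtain ⟨h₀, hh₀⟩ := Model.Kc_decomp S.threeSet ha (L.stab a ha g (Subgroup.mem_centralizer_singleton_iff.1 hg))
      have hz := (M.base.map_eq_one_iff' ((σ (π h₀))⁻¹ * h₀)).1 (by rw [map_mul, map_inv, hσ, inv_mul_cancel])
      have hh : (h₀ : G) = (σ (π h₀) : G) ∨ (h₀ : G) = a * (σ (π h₀) : G) := by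
        rcases S.kernel ha (commute_of_mem_Hd ((σ (π h₀))⁻¹ * h₀).2) hz with e | e <;>
          rw [Subgroup.coe_mul, Subgroup.coe_inv, inv_mul_eq_iff_eq_mul] at e
        · exact Or.inl (by rw [e, mul_one])
        · exact Or.inr (by rw [e, (commute_of_mem_Hd (σ (π h₀)).2).eq])
      rcases hh₀ with rfl | rfl <;> rcases hh with e | e
      · exact ⟨(false, π h₀), Subtype.ext (by simp [f, e])⟩
      · exact ⟨(true, π h₀), Subtype.ext (by simp [f, e])⟩
      · exact ⟨(true, π h₀), Subtype.ext (by simp [f, e])⟩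
      · exact ⟨(false, π h₀), Subtype.ext (by simp [f, e, ← mul_assoc, haa])⟩
  rw [← Nat.card_eq_of_bijective f hf, Nat.card_prod, Nat.card_eq_fintype_card, Fintype.card_bool]

/-- The order of `PSU(6,2)`. -/
theorem card_psu_six {F : Type*} [Field F] [Fintype F] (hF : Fintype.card F = 2 ^ 2) :
    Nat.card (Cfsg.PSU 6 F 2) = 9196830720 := by
  have h := Cfsg.Agent.S0280.result (q := 2) hF 6 (by norm_num)
  simp [Finset.prod_range_succ, Nat.even_iff] at h
  omega

/-- Orders for type M(22). -/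
theorem orders22 (hD : Cfsg.IsThreeTranspositionGroup D) (hprim : Cfsg.IsPrimitiveUnderConj D)
    (h : Cfsg.IsOfTypeM22 G D) : (∀ a ∈ D, Nat.card (Subgroup.centralizer ({a} : Set G)) = 18393661440) ∧
      Nat.card G = 64561751654400 := by
  obtain ⟨d, c, F, _, _, π, hB, hc, hdc, hloc, -, hF⟩ := bottom22 hD h
  have S := stage_of_base hD hprim h.1 hloc hB rfl
  have L := local22 hD hprim h
  have hC : ∀ a ∈ D, Nat.card (Subgroup.centralizer ({a} : Set G)) = 18393661440 := fun a ha => by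
    rw [card_centralizer S L ha, card_psu_six hF]
  refine ⟨hC, ?_⟩
  rw [card_group hD hprim.1 hB.mem, L.card, hC d hB.mem]

/-- The commuting triples. -/
theorem ncard_triples (L : Local D v n' k' μ) :
    {p : G × G × G | p.1 ∈ D ∧ p.2.1 ∈ Dd D p.1 ∧ p.2.2 ∈ Dd D p.1 ∩ Dd D p.2.1}.ncard = v * n' * k' := by
  have h1 : ∀ a ∈ D, {q : G × G | q.1 ∈ Dd D a ∧ q.2 ∈ Dd D a ∩ Dd D q.1}.ncard = n' * k' := fun a ha => by
    rw [ncard_fibred (Dd D a) (fun b => Dd D a ∩ Dd D b) (fun b hb => L.lam a ha b hb), L.deg a ha]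
  have h := ncard_fibred D (fun a => {q : G × G | q.1 ∈ Dd D a ∧ q.2 ∈ Dd D a ∩ Dd D q.1}) h1
  rw [L.card, ← mul_assoc] at h
  exact h

/-- Ordered commuting triples are conjugate. -/
theorem triple_transitive (S : Stage D E N k l m) (L : Local D v n' k' μ) {a b c a' b' c' : G} (ha : a ∈ D)
    (hb : b ∈ Dd D a) (hc : c ∈ Dd D a ∩ Dd D b) (ha' : a' ∈ D) (hb' : b' ∈ Dd D a')
    (hc' : c' ∈ Dd D a' ∩ Dd D b') :
    ∃ g : G, g * a * g⁻¹ = a' ∧ g * b * g⁻¹ = b' ∧ g * c * g⁻¹ = c' := by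
  obtain ⟨g₁, rfl⟩ := S.prim.1 a ha a' ha'
  obtain ⟨g₂, hg₂, rfl⟩ := L.perp _ ha' (g₁ * b * g₁⁻¹) (conj_mem_Dd_conj S.closed g₁ hb) b' hb'
  obtain ⟨π, M⟩ := S.base _ ha'
  have e1 : g₂ * (g₁ * a * g₁⁻¹) * g₂⁻¹ = g₁ * a * g₁⁻¹ := by rw [hg₂.eq, mul_inv_cancel_right]
  have hca : g₂ * (g₁ * c * g₁⁻¹) * g₂⁻¹ ∈ Dd D (g₁ * a * g₁⁻¹) := by
    have := conj_mem_Dd_conj S.closed g₂ (conj_mem_Dd_conj S.closed g₁ hc.1)
    rwa [e1] at this
  have hcb := conj_mem_Dd_conj S.closed g₂ (conj_mem_Dd_conj S.closed g₁ hc.2)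
  obtain ⟨k, hk, hkc⟩ := S.loc.perp _ (M.mem hb') _ ((M.mem_Dd hb' hca).2 hcb) _ ((M.mem_Dd hb' hc'.1).2 hc'.2)
  obtain ⟨h, rfl⟩ := M.base.surj k
  refine ⟨(h : G) * g₂ * g₁, ?_, ?_, ?_⟩
  · calc (h : G) * g₂ * g₁ * a * ((h : G) * g₂ * g₁)⁻¹ = h * (g₂ * (g₁ * a * g₁⁻¹) * g₂⁻¹) * (h : G)⁻¹ := by group
      _ = g₁ * a * g₁⁻¹ := by rw [e1, (commute_of_mem_Hd h.2).eq, mul_inv_cancel_right]
  · rw [show (h : G) * g₂ * g₁ * b * ((h : G) * g₂ * g₁)⁻¹ = h * (g₂ * (g₁ * b * g₁⁻¹) * g₂⁻¹) * (h : G)⁻¹ by group]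
    refine M.inj (M.conj_mem h hb') hb' ?_
    rw [M.phi_conj h hb', hk.eq, mul_inv_cancel_right]
  · rw [show (h : G) * g₂ * g₁ * c * ((h : G) * g₂ * g₁)⁻¹ = h * (g₂ * (g₁ * c * g₁⁻¹) * g₂⁻¹) * (h : G)⁻¹ by group]
    refine M.inj (M.conj_mem h hca) hc'.1 ?_
    rw [M.phi_conj h hca, hkc]

end CfsgLib.ThreeTrans.Tower
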