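import Mathlib
import Cfsg.Agent.Lib.ThreeTrans.Tower.Orders
import Cfsg.Agent.Lib.ThreeTrans.Tower.UnitaryLocal
import Cfsg.Agent.Lib.ClassicalGroups.UnitarySimple

/-! The centraliser of a transvection in `PSU(6,2)`: its action on the four dimensional quotient, and the kernel. -/

set_option autoImplicit false
set_option linter.unusedSectionVars false

namespace CfsgLib.ThreeTrans.USix

open Matrix CfsgLib.ClassicalGroups
open CfsgLib.ThreeTrans.Tower (Dd_symm card_group card_psu_six)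

variable {F : Type*} [Field F] [Fintype F]

local notation "V" => Fin 6 → F
local notation "W" => Fin 4 → F
local notation "𝕙" => Cfsg.hermForm 6 F 2
local notation "𝕙₄" => Cfsg.hermForm 4 F 2
local notation "SU₆" => Cfsg.SU 6 F 2
local notation "SU₄" => Cfsg.SU 4 F 2
local notation "PSU₆" => Cfsg.PSU 6 F 2
local notation "PSU₄" => Cfsg.PSU 4 F 2

variable (hF : Fintype.card F = 2 ^ 2)
include hF

theorem card_psu_four : Nat.card PSU₄ = 25920 := by
  have h := Cfsg.Agent.S0280.result (q := 2) hF 4 (by norm_num)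
  simp [Finset.prod_range_succ, Nat.even_iff] at h
  omega

theorem center_four (z : SU₄) (hz : z ∈ Subgroup.center SU₄) : z = 1 := by
  have h := center_SU_scalar hF ⟨z, hz⟩
  set a := z.1.1 0 0 with ha
  have hm : z.1.1 = a • (1 : Matrix (Fin 4) (Fin 4) F) := by
    ext i j
    by_cases e : i = j
    · subst e; rw [Matrix.smul_apply, Matrix.one_apply_eq, smul_eq_mul, mul_one]; exact (h i 0).2
    · rw [Matrix.smul_apply, Matrix.one_apply_ne e, smul_zero]; exact (h i j).1 e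
  have hd : a ^ 4 = 1 := by
    have := z.1.2
    rwa [hm, Matrix.det_smul, Matrix.det_one, mul_one, Fintype.card_fin] at this
  rw [pow_four hF] at hd
  exact SU_ext fun x => by rw [hm, hd, one_smul, Matrix.one_mulVec, SU_one_mulVec]

/-- An element fixing the standard vector maps tails to multiples of it plus tails. -/
theorem perp_tail {k : SU₆} (hk : k.1.1 *ᵥ v₀ = v₀) (z : W) :
    k.1.1 *ᵥ mk6 0 0 z = (k.1.1 *ᵥ mk6 0 0 z) 0 • v₀ + mk6 0 0 (tl (k.1.1 *ᵥ mk6 0 0 z)) := by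
  have h := herm_map k (mk6 0 0 z) v₀
  rw [hk, herm_v₀ hF, herm_v₀ hF, mk6_zero, mk6_one, add_zero] at h
  have h01 : (k.1.1 *ᵥ mk6 0 0 z) 1 = (k.1.1 *ᵥ mk6 0 0 z) 0 := by
    linear_combination h - (k.1.1 *ᵥ mk6 0 0 z) 0 * two_eq_zero hF
  conv_lhs => rw [← mk6_tl (k.1.1 *ᵥ mk6 0 0 z), h01]
  rw [v₀, smul_mk6, add_mk6]
  simp

/-- Action on the four dimensional quotient. -/
theorem exists_quot_hom :
    ∃ θ : perpTv F →* SU₄, Function.Surjective θ ∧
      ∀ (k : perpTv F) (t : W), tl ((k : SU₆).1.1 *ᵥ mk6 0 0 t) = (θ k).1.1 *ᵥ t := by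
  have hex : ∀ k ∈ perpTv F, ∃ M : SU₄, ∀ t, tl (k.1.1 *ᵥ mk6 0 0 t) = M.1.1 *ᵥ t := by
    have hmul : ∀ p q : SU₆, q ∈ perpTv F → p.1.1 *ᵥ v₀ = v₀ → ∀ t,
        tl ((p * q).1.1 *ᵥ mk6 0 0 t) = tl (p.1.1 *ᵥ mk6 0 0 (tl (q.1.1 *ᵥ mk6 0 0 t))) := by
      intro p q hq hp t
      rw [SU_mul_mulVec]
      conv_lhs => rw [perp_tail hF (perpTv_fix hF hq) t, Matrix.mulVec_add, Matrix.mulVec_smul, hp]
      funext i
      simp [tl, v₀, mk6]
    intro k hk
    induction hk using Subgroup.closure_induction with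
    | mem A hA =>
      obtain ⟨v, hA, hv⟩ := hA
      have h01 : v 1 = v 0 := by
        have := hv
        rw [herm_v₀ hF] at this
        linear_combination this - v 0 * two_eq_zero hF
      have htt : 𝕙₄ (tl v) (tl v) = 0 := by
        have := hA.2.1
        rw [herm_split, h01] at this
        linear_combination this - v 0 * v 0 ^ 2 * two_eq_zero hF
      obtain ⟨M, hM⟩ := exists_SU_tv (n := 4) hF htt (c := (1 : F)) (by rw [one_pow, neg_eq' hF])
      refine ⟨M, fun t => ?_⟩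
      rw [hA.apply, hM, unitaryTransvection_mulVec, one_mul, herm_split, mk6_zero, mk6_one, tl_mk6]
      funext i
      simp [tl, mk6]
    | one => exact ⟨1, fun t => by rw [SU_one_mulVec, SU_one_mulVec, tl_mk6]⟩
    | mul p q hp' hq' hp hq =>
      obtain ⟨M, hM⟩ := hp
      obtain ⟨N, hN⟩ := hq
      exact ⟨M * N, fun t => by rw [hmul p q hq' (perpTv_fix hF hp'), hN, hM, SU_mul_mulVec]⟩
    | inv p hp' hp =>
      obtain ⟨M, hM⟩ := hp
      refine ⟨M⁻¹, fun t => ?_⟩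
      have h := hmul p p⁻¹ (inv_mem hp') (perpTv_fix hF hp') t
      rw [mul_inv_cancel, SU_one_mulVec, tl_mk6, hM] at h
      conv_rhs => rw [h, SU_inv_mulVec_mulVec]
  choose M hM using hex
  let θ : perpTv F →* SU₄ := MonoidHom.mk' (fun k => M k.1 k.2) (fun p q => SU_ext fun t => by
    rw [SU_mul_mulVec, ← hM, ← hM, ← hM]
    show tl (((p : SU₆) * q).1.1 *ᵥ mk6 0 0 t) = _
    rw [SU_mul_mulVec]
    conv_lhs => rw [perp_tail hF (perpTv_fix hF q.2) t, Matrix.mulVec_add, Matrix.mulVec_smul, perpTv_fix hF p.2]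
    funext i
    simp [tl, v₀, mk6])
  refine ⟨θ, fun N => ?_, fun k t => hM k.1 k.2 t⟩
  obtain ⟨k, hk, hkx⟩ := isExt_all hF N
  refine ⟨⟨k, tailTv_le hk⟩, SU_ext fun t => ?_⟩
  show (M k _).1.1 *ᵥ t = _
  rw [← hM, hkx, mk6_zero, mk6_one, tl_mk6, tl_mk6]

/-- A shear along the standard vector is the identity or the transvection. -/
theorem shear_cases {A₀ : SU₆} (hA₀ : IsTvAt v₀ A₀) {k : SU₆} {c : F} (h0 : k.1.1 *ᵥ v₀ = v₀)
    (ht : ∀ t : W, k.1.1 *ᵥ mk6 0 0 t = mk6 0 0 t) (hu : k.1.1 *ᵥ mk6 1 0 0 = mk6 1 0 0 + c • v₀) :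
    k = 1 ∨ k = A₀ := by
  have h2 := two_eq_zero hF
  have hc : c = 0 ∨ c = 1 := by
    have h := herm_map k (mk6 1 0 0) (mk6 1 0 0)
    rw [hu, v₀, smul_mk6, add_mk6, herm_mk6, herm_mk6] at h
    simp [hermForm_zero_left] at h
    rcases norm_cases hF c with h3 | h3
    · exact Or.inl (pow_eq_zero_iff (by norm_num) |>.1 h3)
    · refine Or.inr ?_
      have h' : (1 + c) ^ 3 = 0 := by linear_combination h - h3
      have := pow_eq_zero_iff (n := 3) (by norm_num) |>.1 h'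
      linear_combination this - h2
  have hx : ∀ x : V, k.1.1 *ᵥ x = x + (c * (x 0 + x 1)) • v₀ := by
    intro x
    have e : x = (x 0 + x 1) • mk6 1 0 0 + x 1 • v₀ + mk6 0 0 (tl x) := by
      rw [v₀, smul_mk6, smul_mk6, add_mk6, add_mk6]
      conv_lhs => rw [← mk6_tl x]
      rw [mk6_inj]
      exact ⟨by linear_combination -(x 1) * h2, by ring, by simp⟩
    conv_lhs => rw [e, Matrix.mulVec_add, Matrix.mulVec_add, Matrix.mulVec_smul, Matrix.mulVec_smul, hu, h0, ht]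
    conv_rhs => arg 1; rw [e]
    module
  rcases hc with rfl | rfl
  · exact Or.inl (SU_ext fun x => by rw [hx, SU_one_mulVec]; simp)
  · exact Or.inr (SU_ext fun x => by rw [hx, hA₀.apply, herm_v₀ hF, one_mul])

theorem iso_span (α : W → F) (hadd : ∀ s t, α (s + t) = α s + α t) (hsmul : ∀ (a : F) t, α (a • t) = a * α t)
    (h : ∀ v : W, 𝕙₄ v v = 0 → α v = 0) : ∀ t, α t = 0 := by
  have h2 := two_eq_zero hF
  obtain ⟨w, hw0, hw1, hw⟩ := exists_omega hF
  have hw3 := cube_eq_one hF hw0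
  have hw' : 1 + w ≠ 0 := fun e => hw1 (by linear_combination e - h2)
  intro t
  have e : t = ((t 0 * w + t 1) / (1 + w)) • ![1, 1, 0, 0] + ((t 0 + t 1) / (1 + w)) • ![1, w, 0, 0] +
      (((t 2 * w + t 3) / (1 + w)) • ![0, 0, 1, 1] + ((t 2 + t 3) / (1 + w)) • ![0, 0, 1, w]) := by
    funext i
    fin_cases i <;> simp <;> field_simp
    · linear_combination -(t 1) * h2
    · linear_combination -(t 0 * w) * h2
    · linear_combination -(t 3) * h2
    · linear_combination -(t 2 * w) * h2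
  rw [e, hadd, hadd, hadd, hsmul, hsmul, hsmul, hsmul, h, h, h, h]
  · ring
  all_goals simp [herm_four hF]; linear_combination (norm := ring_nf) h2
  all_goals linear_combination hw3

/-- The kernel is abelian and elementary modulo the transvection. -/
theorem kernel_perp {A₀ : SU₆} (hA₀ : IsTvAt v₀ A₀) (θ : perpTv F →* SU₄)
    (hθ : ∀ (k : perpTv F) (t : W), tl ((k : SU₆).1.1 *ᵥ mk6 0 0 t) = (θ k).1.1 *ᵥ t) {k k' : perpTv F}
    (hk : θ k = 1) (hk' : θ k' = 1) :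
    ((k : SU₆) * k = 1 ∨ (k : SU₆) * k = A₀) ∧
      ((k : SU₆) * k' * (k : SU₆)⁻¹ * (k' : SU₆)⁻¹ = 1 ∨ (k : SU₆) * k' * (k : SU₆)⁻¹ * (k' : SU₆)⁻¹ = A₀) := by
  have h2 := two_eq_zero hF
  have data : ∀ k : perpTv F, θ k = 1 → ∃ (α : W → F) (c : F) (t : W),
      (∀ z, (k : SU₆).1.1 *ᵥ mk6 0 0 z = α z • v₀ + mk6 0 0 z) ∧
      (k : SU₆).1.1 *ᵥ mk6 1 0 0 = mk6 1 0 0 + c • v₀ + mk6 0 0 t := by
    intro k hk
    set x := (k : SU₆).1.1 *ᵥ mk6 1 0 0 with hx
    refine ⟨fun z => ((k : SU₆).1.1 *ᵥ mk6 0 0 z) 0, x 1, tl x, fun z => ?_, ?_⟩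
    · conv_lhs => rw [perp_tail hF (perpTv_fix hF k.2) z, hθ, hk, SU_one_mulVec]
    · have h := herm_map (k : SU₆) (mk6 1 0 0) v₀
      rw [perpTv_fix hF k.2, ← hx, herm_v₀ hF, herm_v₀ hF, mk6_zero, mk6_one, add_zero] at h
      conv_lhs => rw [← mk6_tl x]
      rw [v₀, smul_mk6, add_mk6, add_mk6, mk6_inj]
      exact ⟨by linear_combination h - x 1 * h2, by ring, by simp⟩
  obtain ⟨α, c, t, hz, hu⟩ := data k hk
  obtain ⟨α', c', t', hz', hu'⟩ := data k' hk'
  have f := perpTv_fix hF k.2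
  have f' := perpTv_fix hF k'.2
  constructor
  · refine shear_cases hF hA₀ (k := (k : SU₆) * k) (c := α t) (by rw [SU_mul_mulVec, f, f]) (fun z => ?_) ?_
    · rw [SU_mul_mulVec, hz, Matrix.mulVec_add, Matrix.mulVec_smul, f, hz, ← add_assoc, ← add_smul,
        add_self' hF, zero_smul, zero_add]
    · rw [SU_mul_mulVec, hu, Matrix.mulVec_add, Matrix.mulVec_add, Matrix.mulVec_smul, f, hu, hz]
      linear_combination (norm := module) (vadd_self hF (c • (v₀ : V) + mk6 0 0 t))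
  · set z₀ := (k : SU₆) * k' * (k : SU₆)⁻¹ * (k' : SU₆)⁻¹
    have hz₀ : z₀ * ((k' : SU₆) * k) = (k : SU₆) * k' := by simp [z₀, mul_assoc]
    have hfix : z₀.1.1 *ᵥ v₀ = v₀ := by
      have := congrArg (fun g : SU₆ => g.1.1 *ᵥ (v₀ : V)) hz₀
      simpa only [SU_mul_mulVec, f, f'] using this
    refine shear_cases hF hA₀ (k := z₀) (c := α t' + α' t) hfix (fun z => ?_) ?_
    · have := congrArg (fun g : SU₆ => g.1.1 *ᵥ mk6 0 0 z) hz₀
      simp only [SU_mul_mulVec, hz, hz', Matrix.mulVec_add, Matrix.mulVec_smul, f, f', hfix] at this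
      linear_combination (norm := module) this
    · have := congrArg (fun g : SU₆ => g.1.1 *ᵥ mk6 1 0 0) hz₀
      simp only [SU_mul_mulVec, hu, hu', hz, hz', Matrix.mulVec_add, Matrix.mulVec_smul, f, f', hfix] at this
      have ht : ∀ s : W, z₀.1.1 *ᵥ mk6 0 0 s = mk6 0 0 s := fun s => by
        have := congrArg (fun g : SU₆ => g.1.1 *ᵥ mk6 0 0 s) hz₀
        simp only [SU_mul_mulVec, hz, hz', Matrix.mulVec_add, Matrix.mulVec_smul, f, f', hfix] at this
        linear_combination (norm := module) this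
      rw [ht, ht] at this
      have key := vadd_self hF (α' t • (v₀ : V))
      linear_combination (norm := module) this - key

namespace TClass

variable {E : Set (Cfsg.PSU 6 F 2)} (hE : TClass E)
include hE

theorem card_centralizer_tv {e : PSU₆} (he : e ∈ E) : Nat.card (Subgroup.centralizer ({e} : Set PSU₆)) = 13271040 := by
  have hL := local_of_class hF hE.set hE.conj hE.nonempty
  have hcls : ∀ a ∈ E, ∀ b ∈ E, ∃ g : PSU₆, g * a * g⁻¹ = b := hL.rigid.class_eq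
  have h := card_group hL.group hcls he
  rw [card_psu_six hF, hL.card] at h
  omega

/-- The centraliser of a transvection maps onto `PSU(4,2)`. -/
theorem exists_perp_quot {e : PSU₆} (he : e ∈ E) :
    ∃ θ : Subgroup.centralizer ({e} : Set PSU₆) →* PSU₄, Function.Surjective θ ∧
      Nat.card θ.ker = 2 ^ 9 ∧ θ ⟨e, Subgroup.mem_centralizer_singleton_iff.2 rfl⟩ = 1 ∧
      (∀ x y : Subgroup.centralizer ({e} : Set PSU₆), θ x = 1 → θ y = 1 → ((x : PSU₆) * x = 1 ∨ (x : PSU₆) * x = e) ∧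
        ((x : PSU₆) * y * (x : PSU₆)⁻¹ * (y : PSU₆)⁻¹ = 1 ∨ (x : PSU₆) * y * (x : PSU₆)⁻¹ * (y : PSU₆)⁻¹ = e)) ∧
      (∀ x y : Subgroup.centralizer ({e} : Set PSU₆), (x : PSU₆) ∈ Dd E e → (y : PSU₆) ∈ Dd E e → θ x = θ y →
        ∀ w ∈ E, Commute w e → Commute w (x : PSU₆) → Commute w (y : PSU₆)) ∧
      ∀ x : Subgroup.centralizer ({e} : Set PSU₆), (∀ y, Commute x y) → (x : PSU₆) = 1 ∨ (x : PSU₆) = e := by
  classical
  have h2 := two_eq_zero hF
  obtain ⟨A₀, hA₀⟩ := exists_tvAt hF (v₀_ne hF) (v₀_iso hF)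
  have hL := local_of_class hF hE.set hE.conj hE.nonempty
  obtain ⟨t, ht⟩ : ∃ t : PSU₆, t * e * t⁻¹ = QuotientGroup.mk A₀ := hL.rigid.class_eq e he _ (hE.hall hF hA₀)
  let ι : perpTv F →* Subgroup.centralizer ({e} : Set PSU₆) :=
    MonoidHom.codRestrict (((MulAut.conj t⁻¹).toMonoidHom).comp ((QuotientGroup.mk' _).comp (perpTv F).subtype)) _
      fun k => by
        rw [Subgroup.mem_centralizer_singleton_iff]
        have hk : Commute (QuotientGroup.mk (k : SU₆) : PSU₆) (QuotientGroup.mk A₀) := by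
          refine mul_inv_eq_iff_eq_mul.1 ?_
          rw [← QuotientGroup.mk_inv, ← QuotientGroup.mk_mul, ← QuotientGroup.mk_mul]
          congr 1
          have h := hA₀.conj hF (k : SU₆)
          rw [perpTv_fix hF k.2] at h
          exact h.unique hF hA₀
        have h' := hk.map (MulAut.conj t⁻¹).toMonoidHom
        rw [show (MulAut.conj t⁻¹).toMonoidHom (QuotientGroup.mk A₀ : PSU₆) = e by
          rw [← ht]; simp [mul_assoc]] at h'
        exact h'.eq
  have hval : ∀ k, (ι k : PSU₆) = t⁻¹ * QuotientGroup.mk (k : SU₆) * t := fun k => by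
    show t⁻¹ * QuotientGroup.mk (k : SU₆) * t⁻¹⁻¹ = _
    rw [inv_inv]
  have hsurj : Function.Surjective ι := fun g => by
    have hg : Commute (t * (g : PSU₆) * t⁻¹) (QuotientGroup.mk A₀) := by
      rw [← ht, commute_conj_iff]
      exact Subgroup.mem_centralizer_singleton_iff.1 g.2
    obtain ⟨k, hk, hkg⟩ := centralizer_perpTv hF hA₀ hg
    exact ⟨⟨k, hk⟩, Subtype.ext (by rw [hval, hkg]; group)⟩
  have hmk : ∀ k ∈ perpTv F, (QuotientGroup.mk k : PSU₆) = 1 → k = 1 := fun k hk h =>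
    center_eq_one_of_fix hF ((QuotientGroup.eq_one_iff k).1 h) (v₀_ne hF) (perpTv_fix hF hk)
  have hinj : Function.Injective ι := (injective_iff_map_eq_one ι).2 fun k hk => by
    have h := congrArg Subtype.val hk
    rw [hval, Subgroup.coe_one] at h
    refine Subtype.ext (hmk _ k.2 ?_)
    calc (QuotientGroup.mk (k : SU₆) : PSU₆) = t * (t⁻¹ * QuotientGroup.mk (k : SU₆) * t) * t⁻¹ := by group
      _ = 1 := by rw [h, mul_one, mul_inv_cancel]
  let ε := MulEquiv.ofBijective ι ⟨hinj, hsurj⟩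
  obtain ⟨θ₀, hθ₀, hθ⟩ := exists_quot_hom (F := F) hF
  let θ : Subgroup.centralizer ({e} : Set PSU₆) →* PSU₄ :=
    (QuotientGroup.mk' _).comp (θ₀.comp ε.symm.toMonoidHom)
  have hθε : ∀ k, θ (ι k) = QuotientGroup.mk (θ₀ k) := fun k => by
    show QuotientGroup.mk (θ₀ (ε.symm (ε k))) = _
    rw [ε.symm_apply_apply]
  have hθs : Function.Surjective θ := fun p => by
    obtain ⟨M, rfl⟩ := QuotientGroup.mk_surjective p
    obtain ⟨k, rfl⟩ := hθ₀ M
    exact ⟨ι k, hθε k⟩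
  have hθ1 : ∀ k, θ (ι k) = 1 ↔ θ₀ k = 1 := fun k => by
    rw [hθε, QuotientGroup.eq_one_iff]
    exact ⟨center_four hF _, fun h => h ▸ one_mem _⟩
  have hA₀P : A₀ ∈ perpTv F := Subgroup.subset_closure ⟨_, hA₀, v₀_iso hF⟩
  have hιA : (ι ⟨A₀, hA₀P⟩ : PSU₆) = e := by
    rw [hval, ← ht]; group
  have hback : ∀ (k : SU₆) (hk : k ∈ perpTv F), (k = 1 ∨ k = A₀) →
      (ι ⟨k, hk⟩ : PSU₆) = 1 ∨ (ι ⟨k, hk⟩ : PSU₆) = e := by
    rintro k hk (rfl | rfl)
    · left; rw [hval]; simp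
    · exact Or.inr hιA
  refine ⟨θ, hθs, ?_, ?_, ?_, ?_, ?_⟩
  · have h := Subgroup.card_mul_index θ.ker
    rw [Subgroup.index_ker, MonoidHom.range_eq_top.2 hθs, Subgroup.card_top, card_psu_four hF,
      hE.card_centralizer_tv hF he] at h
    omega
  · have : (⟨e, Subgroup.mem_centralizer_singleton_iff.2 rfl⟩ : Subgroup.centralizer ({e} : Set PSU₆)) =
        ι ⟨A₀, hA₀P⟩ := Subtype.ext hιA.symm
    rw [this, hθ1]
    refine SU_ext fun s => ?_
    rw [← hθ, SU_one_mulVec]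
    show tl (A₀.1.1 *ᵥ mk6 0 0 s) = s
    rw [hA₀.apply, herm_v₀ hF, mk6_zero, mk6_one, add_zero, zero_smul, add_zero, tl_mk6]
  · intro x y hx hy
    obtain ⟨k, rfl⟩ := hsurj x
    obtain ⟨k', rfl⟩ := hsurj y
    obtain ⟨h1, h3⟩ := kernel_perp hF hA₀ θ₀ hθ ((hθ1 k).1 hx) ((hθ1 k').1 hy)
    constructor
    · have := hback _ (mul_mem k.2 k.2) h1
      rw [show (⟨(k : SU₆) * k, mul_mem k.2 k.2⟩ : perpTv F) = k * k from rfl, map_mul] at this
      exact this
    · have := hback _ (mul_mem (mul_mem (mul_mem k.2 k'.2) (inv_mem k.2)) (inv_mem k'.2)) h3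
      rw [show (⟨(k : SU₆) * k' * (k : SU₆)⁻¹ * (k' : SU₆)⁻¹, mul_mem (mul_mem (mul_mem k.2 k'.2) (inv_mem k.2))
        (inv_mem k'.2)⟩ : perpTv F) = k * k' * k⁻¹ * k'⁻¹ from rfl, map_mul, map_mul, map_mul, map_inv, map_inv] at this
      exact this
  · intro x y hx hy hxy w hw hwe hwx
    obtain ⟨kx, rfl⟩ := hsurj x
    obtain ⟨ky, rfl⟩ := hsurj y
    have mem' : ∀ k : perpTv F, (ι k : PSU₆) ∈ Dd E e → ∃ v, IsTvAt v (k : SU₆) ∧ 𝕙 v v₀ = 0 ∧ tl v ≠ 0 := by
      intro k hk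
      have hk' := conj_mem_Dd_conj (hE.closed hF) t hk
      rw [ht, hval, show t * (t⁻¹ * QuotientGroup.mk (k : SU₆) * t) * t⁻¹ = QuotientGroup.mk (k : SU₆) by group] at hk'
      obtain ⟨v, B, hB, hBk⟩ := hE.rep hF hk'.1
      have hd : (QuotientGroup.mk B : PSU₆) ∈ Dd E (QuotientGroup.mk A₀) := hBk ▸ hk'
      obtain ⟨hperp, hns⟩ := (hE.mem_Dd_iff hF hA₀ hB).1 hd
      have hBP : B ∈ perpTv F := Subgroup.subset_closure ⟨v, hB, hperp⟩
      have hkB : (k : SU₆) = B := by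
        have := hmk _ (mul_mem (inv_mem hBP) k.2) (by rw [QuotientGroup.mk_mul, QuotientGroup.mk_inv, hBk, inv_mul_cancel])
        exact (inv_mul_eq_one.1 this).symm
      refine ⟨v, hkB ▸ hB, hperp, fun h0 => hns (v 0) ?_⟩
      have h01 : v 1 = v 0 := by
        have := hperp
        rw [herm_v₀ hF] at this
        linear_combination this - v 0 * h2
      conv_lhs => rw [← mk6_tl v, h01, h0]
      rw [v₀, smul_mk6]
      simp
    obtain ⟨a, hA, hav, hat⟩ := mem' kx hx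
    obtain ⟨b, hB, hbv, hbt⟩ := mem' ky hy
    have hθeq : θ₀ kx = θ₀ ky := by
      have := hθε kx ▸ hθε ky ▸ hxy
      have h := center_four hF ((θ₀ kx)⁻¹ * θ₀ ky) (QuotientGroup.eq.1 this)
      exact inv_mul_eq_one.1 h
    have htr : ∀ s : W, 𝕙₄ s (tl a) • tl a = 𝕙₄ s (tl b) • tl b := by
      intro s
      have h1 := hθ kx s
      have h3 := hθ ky s
      rw [hθeq, ← h3, hA.apply, hB.apply, herm_split, herm_split, mk6_zero, mk6_one, tl_mk6] at h1
      simp only [zero_mul, zero_add] at h1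
      have e : ∀ (r : F) (v : V), tl (mk6 0 0 s + r • v) = s + r • tl v := fun r v => by
        funext i; simp [tl, mk6]
      rw [e, e] at h1
      exact add_left_cancel h1
    obtain ⟨s, hs⟩ := exists_pairing_ne (q := 2) hF hbt
    have hsb : 𝕙₄ s (tl b) = 1 := by rw [hermForm_symm hF 4 (tl b) s, hs, one_pow]
    have hb : tl b = 𝕙₄ s (tl a) • tl a := by rw [htr s, hsb, one_smul]
    obtain ⟨wv, Wm, hW, rfl⟩ : ∃ wv Wm, IsTvAt wv Wm ∧ t⁻¹ * (QuotientGroup.mk Wm : PSU₆) * t = w := by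
      obtain ⟨v, B, hB, hBw⟩ := hE.rep hF (hE.conj t w hw)
      exact ⟨v, B, hB, by rw [hBw]; group⟩
    have hcj : ∀ p q : PSU₆, Commute (t⁻¹ * p * t) (t⁻¹ * q * t) ↔ Commute p q := fun p q => by
      simpa using commute_conj_iff t⁻¹ p q
    rw [hval, hcj, commute_mk_iff hF hW hA] at hwx
    rw [← hιA, hval, hcj, commute_mk_iff hF hW hA₀] at hwe
    rw [hval, hcj, commute_mk_iff hF hW hB]
    have dec : ∀ v : V, 𝕙 v v₀ = 0 → v = v 0 • v₀ + mk6 0 0 (tl v) := fun v hv => by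
      rw [herm_v₀ hF] at hv
      have h01 : v 1 = v 0 := by linear_combination hv - v 0 * h2
      conv_lhs => rw [← mk6_tl v, h01]
      rw [v₀, smul_mk6, add_mk6]; simp
    have hca : 𝕙 wv (mk6 0 0 (tl a)) = 0 := by
      rw [dec a hav, hermForm_add_right hF, hermForm_smul_right, hwe, mul_zero, zero_add] at hwx
      exact hwx
    rw [dec b hbv, hermForm_add_right hF, hermForm_smul_right, hwe, mul_zero, zero_add, hb,
      show mk6 0 0 (𝕙₄ s (tl a) • tl a) = 𝕙₄ s (tl a) • mk6 (0 : F) 0 (tl a) by rw [smul_mk6, mul_zero],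
      hermForm_smul_right, hca, mul_zero]
  · intro x hx
    obtain ⟨k, rfl⟩ := hsurj x
    have hcen : ∀ k' : perpTv F, Commute (k : SU₆) k' := fun k' =>
      (show Commute k k' from hinj (by rw [map_mul, map_mul]; exact hx (ι k'))).map (perpTv F).subtype
    have hk1 : θ₀ k = 1 := center_four hF _ (Subgroup.mem_center_iff.2 fun M => by
      obtain ⟨k', rfl⟩ := hθ₀ M
      rw [← map_mul, ← map_mul]
      congr 1
      exact Subtype.ext (hcen k').eq.symm)
    let α : W → F := fun z => ((k : SU₆).1.1 *ᵥ mk6 0 0 z) 0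
    have hz : ∀ z, (k : SU₆).1.1 *ᵥ mk6 0 0 z = α z • v₀ + mk6 0 0 z := fun z => by
      conv_lhs => rw [perp_tail hF (perpTv_fix hF k.2) z, hθ, hk1, SU_one_mulVec]
    have hadd : ∀ s r, α (s + r) = α s + α r := fun s r => by
      show ((k : SU₆).1.1 *ᵥ mk6 0 0 (s + r)) 0 = _
      rw [show mk6 0 0 (s + r) = mk6 0 0 s + mk6 (0 : F) 0 r by rw [add_mk6, add_zero], Matrix.mulVec_add]
      rfl
    have hsm : ∀ (c : F) r, α (c • r) = c * α r := fun c r => by
      show ((k : SU₆).1.1 *ᵥ mk6 0 0 (c • r)) 0 = _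
      rw [show mk6 0 0 (c • r) = c • mk6 (0 : F) 0 r by rw [smul_mk6, mul_zero], Matrix.mulVec_smul]
      rfl
    have hα : ∀ z, α z = 0 := iso_span hF α hadd hsm fun v hv => by
      by_cases hv0 : v = 0
      · rw [hv0, show (0 : W) = (0 : F) • 0 by simp, hsm, zero_mul]
      obtain ⟨y, hy⟩ := exists_pairing_ne (q := 2) hF hv0
      obtain ⟨B, hB⟩ := exists_tvAt hF (v := mk6 0 0 v) (fun h => hv0 ((tl_mk6 0 0 v).symm.trans ((congrArg tl h).trans tl_zero))) (by rw [herm_mk6, hv]; ring)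
      have hBP : B ∈ perpTv F := Subgroup.subset_closure ⟨_, hB, by rw [herm_v₀ hF, mk6_zero, mk6_one, add_zero]⟩
      have h := congrArg (fun g : SU₆ => g.1.1 *ᵥ mk6 0 0 y) (hcen ⟨B, hBP⟩).eq
      simp only [SU_mul_mulVec, hB.apply, hz, Matrix.mulVec_add, Matrix.mulVec_smul, perpTv_fix hF hBP] at h
      have e1 : 𝕙 (v₀ : V) (mk6 0 0 v) = 0 := by rw [v₀, herm_mk6, hermForm_zero_left]; ring
      have e2 : 𝕙 (mk6 0 0 y) (mk6 0 0 v) = 1 := by
        rw [herm_mk6, hermForm_symm hF 4 v y, hy]; ring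
      rw [hermForm_add_left, hermForm_smul_left, e1, e2] at h
      have h' := congrFun h 0
      simp [v₀, mk6] at h'
      first | exact h' | linear_combination h' | linear_combination -h'
    have ht' : ∀ z, (k : SU₆).1.1 *ᵥ mk6 0 0 z = mk6 0 0 z := fun z => by rw [hz, hα, zero_smul, zero_add]
    set xu := (k : SU₆).1.1 *ᵥ mk6 1 0 0 with hxu
    have hu1 : xu 0 + xu 1 = 1 := by
      have h := herm_map (k : SU₆) (mk6 1 0 0) v₀
      rw [perpTv_fix hF k.2, ← hxu, herm_v₀ hF, herm_v₀ hF, mk6_zero, mk6_one, add_zero] at h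
      exact h
    have htail : tl xu = 0 := by
      by_contra hne
      obtain ⟨y, hy⟩ := exists_pairing_ne (q := 2) hF hne
      have h := herm_map (k : SU₆) (mk6 1 0 0) (mk6 0 0 y)
      rw [← hxu, ht', herm_split, herm_mk6, mk6_zero, mk6_one, tl_mk6, hy, hermForm_zero_left] at h
      simp at h
    have hu : (k : SU₆).1.1 *ᵥ mk6 1 0 0 = mk6 1 0 0 + xu 1 • v₀ := by
      rw [← hxu]
      conv_lhs => rw [← mk6_tl xu, htail]
      rw [v₀, smul_mk6, add_mk6, mk6_inj]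
      exact ⟨by linear_combination hu1 - xu 1 * h2, by ring, by simp⟩
    exact hback _ k.2 (shear_cases hF hA₀ (perpTv_fix hF k.2) ht' hu)

end TClass

end CfsgLib.ThreeTrans.USix
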