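import Mathlib
import Cfsg.Agent.Lib.ThreeTrans.Tower.UnitaryCount

/-! The joint centraliser of two transvections of `PSU(6,2)` that do not commute. -/

set_option autoImplicit false
set_option linter.unusedSectionVars false

namespace CfsgLib.ThreeTrans.USix

open Matrix CfsgLib.ClassicalGroups
open CfsgLib.ThreeTrans.Tower (Dd_symm)

variable {F : Type*} [Field F] [Fintype F]

local notation "V" => Fin 6 → F
local notation "W" => Fin 4 → F
local notation "𝕙" => Cfsg.hermForm 6 F 2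
local notation "𝕙₄" => Cfsg.hermForm 4 F 2
local notation "SU₆" => Cfsg.SU 6 F 2
local notation "SU₄" => Cfsg.SU 4 F 2
local notation "PSU₆" => Cfsg.PSU 6 F 2

theorem mk6_zero_tail_ne {z : W} (hz : z ≠ 0) : mk6 0 0 z ≠ (0 : V) := fun h =>
  hz ((tl_mk6 0 0 z).symm.trans (congrArg tl h))

variable (hF : Fintype.card F = 2 ^ 2)
include hF

/-- A vector orthogonal to the standard isotropic plane lies in it. -/
theorem plane_coords {y : W} (h : 𝕙₄ y ![1, 1, 0, 0] = 0) (h' : 𝕙₄ y ![0, 0, 1, 1] = 0) :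
    y = y 0 • ![1, 1, 0, 0] + y 2 • ![0, 0, 1, 1] := by
  have h2 := two_eq_zero hF
  simp [herm_four hF] at h h'
  funext i
  fin_cases i <;> simp
  · linear_combination h - y 0 * h2
  · linear_combination h' - y 2 * h2

/-- Two orthogonal isotropic vectors moved to the standard pair. -/
theorem exists_plane_map {z z' : W} (hz : 𝕙₄ z z = 0) (hz' : 𝕙₄ z' z' = 0) (hzz : 𝕙₄ z z' = 0)
    (hli : LinearIndependent F ![z, z']) :
    ∃ g : Cfsg.GU 4 F 2, g.1.val *ᵥ ![1, 1, 0, 0] = z ∧ g.1.val *ᵥ ![0, 0, 1, 1] = z' := by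
  have h2 := two_eq_zero hF
  set e : W := ![1, 1, 0, 0] with he
  set e' : W := ![0, 0, 1, 1] with he'
  have hli' : LinearIndependent F ![e, e'] := by
    rw [LinearIndependent.pair_iff]
    intro s t h
    have e0 := congrFun h 0
    have e2 := congrFun h 2
    simp [he, he'] at e0 e2
    exact ⟨e0, e2⟩
  have hzz' : 𝕙₄ z' z = 0 := by rw [hermForm_symm hF 4 z z', hzz, zero_pow two_ne_zero]
  obtain ⟨g, hg⟩ := exists_GU_family hF ![e, e'] ![z, z'] hli' hli (fun i j => by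
    fin_cases i <;> fin_cases j <;> simp [herm_four hF, he, he'] <;> simp [← herm_four hF, hz, hz', hzz, hzz'] <;>
      linear_combination h2)
  exact ⟨g, hg 0, hg 1⟩

namespace TClass

variable {E : Set (Cfsg.PSU 6 F 2)} (hE : TClass E)
include hE

/-- A transvection at a tail vector commutes with the standard pair. -/
theorem tail_mem_pair {w : F} {A₀ U₀ : SU₆} (hA₀ : IsTvAt v₀ A₀) (hU₀ : IsTvAt (u₀ w) U₀) {z : W} {Z : SU₆}
    (hZ : IsTvAt (mk6 0 0 z) Z) :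
    (QuotientGroup.mk Z : PSU₆) ∈ Dd E (QuotientGroup.mk A₀) ∩ Dd E (QuotientGroup.mk U₀) := by
  have hz : z ≠ 0 := fun e => hZ.1 (by rw [e, mk6_zero_zero])
  exact ⟨(hE.mem_Dd_iff hF hA₀ hZ).2 ⟨(tail_perp hF w z).1, smul_ne_of_tl (tl_mk6 1 1 0) (by rw [tl_mk6]; exact hz)⟩,
    (hE.mem_Dd_iff hF hU₀ hZ).2 ⟨(tail_perp hF w z).2, smul_ne_of_tl (tl_mk6 w (w ^ 2) 0) (by rw [tl_mk6]; exact hz)⟩⟩

/-- A member commuting with the standard pair has a tail vector. -/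
theorem pair_tail {w : F} (hw : 1 + w + w ^ 2 = 0) {A₀ U₀ : SU₆} (hA₀ : IsTvAt v₀ A₀) (hU₀ : IsTvAt (u₀ w) U₀)
    {p : PSU₆} (hp : p ∈ Dd E (QuotientGroup.mk A₀) ∩ Dd E (QuotientGroup.mk U₀)) :
    ∃ (z : W) (Z : SU₆), IsTvAt (mk6 0 0 z) Z ∧ 𝕙₄ z z = 0 ∧ z ≠ 0 ∧ QuotientGroup.mk Z = p := by
  obtain ⟨v, X, hX, rfl⟩ := hE.rep hF hp.1.1
  have hv := eq_tail hF hw (herm_zero_symm hF ((commute_mk_iff hF hA₀ hX).1 hp.1.2.2))
    (herm_zero_symm hF ((commute_mk_iff hF hU₀ hX).1 hp.2.2.2))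
  refine ⟨tl v, X, hv ▸ hX, ?_, fun e => hX.1 (by rw [hv, e, mk6_zero_zero]), rfl⟩
  have := hX.2.1
  rw [hv, herm_mk6] at this
  linear_combination this

/-- An element fixing both standard members is in the image of the four dimensional group. -/
theorem pair_lift {w : F} (hw0 : w ≠ 0) (hw : 1 + w + w ^ 2 = 0) {A₀ U₀ : SU₆} (hA₀ : IsTvAt v₀ A₀)
    (hU₀ : IsTvAt (u₀ w) U₀) {g : PSU₆} (ha : Commute g (QuotientGroup.mk A₀))
    (hc : Commute g (QuotientGroup.mk U₀)) :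
    ∃ k : SU₆, k ∈ tailTv F ∧ QuotientGroup.mk k = g ∧ k.1.1 *ᵥ mk6 1 0 0 = mk6 1 0 0 ∧
      k.1.1 *ᵥ mk6 0 1 0 = mk6 0 1 0 := by
  have h2 := two_eq_zero hF
  obtain ⟨-, -, hvu, -⟩ := u₀_spec hF hw0 hw
  obtain ⟨k, hk, rfl⟩ := centralizer_perpTv hF hA₀ ha
  have hkv := perpTv_fix hF hk
  obtain ⟨c, hc'⟩ := map_line_of_mk_commute hF hU₀ hc
  have hcc : c ^ 2 = 1 ^ 2 := by
    have h := herm_map k v₀ (u₀ w)
    rw [hkv, hc', hermForm_smul_right, hvu, mul_one] at h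
    rw [h, one_pow]
  rw [sq_inj hF hcc, one_smul] at hc'
  have e0 : mk6 (1 : F) 0 (0 : W) = w ^ 2 • v₀ + u₀ w := by
    rw [u₀, v₀, smul_mk6, add_mk6, mk6_inj]
    exact ⟨by linear_combination -hw + h2, by linear_combination -(w ^ 2) * h2, by simp⟩
  have e1 : mk6 (0 : F) 1 (0 : W) = w • v₀ + u₀ w := by
    rw [u₀, v₀, smul_mk6, add_mk6, mk6_inj]
    exact ⟨by linear_combination -w * h2, by linear_combination -hw + h2, by simp⟩
  have h0 : k.1.1 *ᵥ mk6 1 0 0 = mk6 1 0 0 := by rw [e0, Matrix.mulVec_add, Matrix.mulVec_smul, hkv, hc']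
  have h1 : k.1.1 *ᵥ mk6 0 1 0 = mk6 0 1 0 := by rw [e1, Matrix.mulVec_add, Matrix.mulVec_smul, hkv, hc']
  exact ⟨k, fix_plane_mem hF h0 h1, rfl, h0, h1⟩

/-- What fixes a pair is generated by the members commuting with both. -/
theorem pair_stab {a c g : PSU₆} (ha : a ∈ E) (hc : c ∈ E) (hac : ¬ Commute a c) (hga : Commute g a)
    (hgc : Commute g c) : g ∈ Subgroup.closure (Dd E a ∩ Dd E c) := by
  obtain ⟨w, hw0, hw1, hw⟩ := exists_omega hF
  obtain ⟨hu0, huu, -, -⟩ := u₀_spec hF hw0 hw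
  obtain ⟨A₀, hA₀⟩ := exists_tvAt hF (v₀_ne hF) (v₀_iso hF)
  obtain ⟨U₀, hU₀⟩ := exists_tvAt hF hu0 huu
  obtain ⟨t, rfl, rfl⟩ := hE.normal hF hw0 hw hA₀ hU₀ ha hc hac
  obtain ⟨k, hk, hkg, -, -⟩ := hE.pair_lift hF hw0 hw hA₀ hU₀ (g := t⁻¹ * g * t)
    (by rw [← commute_conj_iff t, show t * (t⁻¹ * g * t) * t⁻¹ = g by group]; exact hga)
    (by rw [← commute_conj_iff t, show t * (t⁻¹ * g * t) * t⁻¹ = g by group]; exact hgc)
  rw [show g = t * QuotientGroup.mk k * t⁻¹ by rw [hkg]; group]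
  clear hkg hga hgc
  induction hk using Subgroup.closure_induction with
  | mem B hB =>
    obtain ⟨z, hB⟩ := hB
    have h := hE.tail_mem_pair hF hA₀ hU₀ hB
    exact Subgroup.subset_closure ⟨conj_mem_Dd_conj (hE.closed hF) t h.1, conj_mem_Dd_conj (hE.closed hF) t h.2⟩
  | one => rw [QuotientGroup.mk_one, mul_one, mul_inv_cancel]; exact one_mem _
  | mul p q _ _ hp hq => simpa [QuotientGroup.mk_mul, mul_assoc] using mul_mem hp hq
  | inv p _ hp => simpa [QuotientGroup.mk_inv, mul_assoc] using inv_mem hp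

/-- Only the identity fixes a pair and every member commuting with both. -/
theorem pair_rigid {a c g : PSU₆} (ha : a ∈ E) (hc : c ∈ E) (hac : ¬ Commute a c) (hga : Commute g a)
    (hgc : Commute g c) (hg : ∀ p ∈ Dd E a ∩ Dd E c, Commute g p) : g = 1 := by
  have h2 := two_eq_zero hF
  obtain ⟨w, hw0, hw1, hw⟩ := exists_omega hF
  have hw3 := cube_eq_one hF hw0
  obtain ⟨hu0, huu, -, -⟩ := u₀_spec hF hw0 hw
  obtain ⟨A₀, hA₀⟩ := exists_tvAt hF (v₀_ne hF) (v₀_iso hF)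
  obtain ⟨U₀, hU₀⟩ := exists_tvAt hF hu0 huu
  obtain ⟨t, rfl, rfl⟩ := hE.normal hF hw0 hw hA₀ hU₀ ha hc hac
  have hconj : ∀ p, Commute g (t * p * t⁻¹) → Commute (t⁻¹ * g * t) p := fun p h => by
    rw [← commute_conj_iff t, show t * (t⁻¹ * g * t) * t⁻¹ = g by group]; exact h
  obtain ⟨k, -, hkg, h0, h1⟩ := hE.pair_lift hF hw0 hw hA₀ hU₀ (g := t⁻¹ * g * t) (hconj _ hga) (hconj _ hgc)
  suffices hk1 : k = 1 by
    rw [show g = t * QuotientGroup.mk k * t⁻¹ by rw [hkg]; group, hk1, QuotientGroup.mk_one, mul_one, mul_inv_cancel]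
  have heig : ∀ z : W, z ≠ 0 → 𝕙₄ z z = 0 → ∃ lam : F, k.1.1 *ᵥ mk6 0 0 z = lam • mk6 0 0 z := by
    intro z hz hzz
    obtain ⟨Z, hZ⟩ := exists_tvAt hF (mk6_zero_tail_ne hz) (by rw [herm_mk6, hzz]; ring)
    have h := hE.tail_mem_pair hF hA₀ hU₀ hZ
    refine map_line_of_mk_commute hF hZ ?_
    rw [hkg]
    exact hconj _ (hg _ ⟨conj_mem_Dd_conj (hE.closed hF) t h.1, conj_mem_Dd_conj (hE.closed hF) t h.2⟩)
  have hpair : ∀ (z z' : W) (lam : F), z' ≠ 0 → LinearIndependent F ![z, z'] → 𝕙₄ z z = 0 → 𝕙₄ z' z' = 0 →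
      𝕙₄ z z' = 0 → k.1.1 *ᵥ mk6 0 0 z = lam • mk6 0 0 z → k.1.1 *ᵥ mk6 0 0 z' = lam • mk6 0 0 z' := by
    intro z z' lam hz'0 hli hz hz' hzz hlam
    obtain ⟨lam', hlam'⟩ := heig z' hz'0 hz'
    have hsum : z + z' ≠ 0 := fun e =>
      one_ne_zero (LinearIndependent.pair_iff.1 hli 1 1 (by rw [one_smul, one_smul, e])).1
    obtain ⟨μ, hμ⟩ := heig (z + z') hsum (by
      rw [hermForm_add_left, hermForm_add_right hF, hermForm_add_right hF, hz, hz', hzz,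
        hermForm_symm hF 4 z z', hzz]; ring)
    have e : mk6 0 0 (z + z') = mk6 0 0 z + mk6 0 0 z' := by rw [add_mk6, add_zero]
    rw [e, Matrix.mulVec_add, hlam, hlam', smul_add, smul_mk6, smul_mk6, smul_mk6, smul_mk6, add_mk6, add_mk6,
      mk6_inj] at hμ
    obtain ⟨ha, hb⟩ := LinearIndependent.pair_iff.1 hli (lam - μ) (lam' - μ) (by
      rw [sub_smul, sub_smul]; linear_combination (norm := module) hμ.2.2)
    rw [hlam', show lam' = lam by linear_combination hb - ha]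
  -- all basis vectors have the same eigenvalue
  set e : W := ![1, 1, 0, 0] with he
  set e' : W := ![0, 0, 1, 1] with he'
  set f : W := ![1, w, 0, 0] with hf
  set f' : W := ![0, 0, 1, w] with hf'
  have li : ∀ {x y : W} (i j : Fin 4), x i = 1 → y i = 0 → y j = 1 → LinearIndependent F ![x, y] := by
    intro x y i j hx hy hy'
    rw [LinearIndependent.pair_iff]
    intro s t h
    have hs : s = 0 := by simpa [hx, hy] using congrFun h i
    exact ⟨hs, by simpa [hs, hy'] using congrFun h j⟩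
  have iso : ∀ x : W, x 0 ^ 3 + x 1 ^ 3 + x 2 ^ 3 + x 3 ^ 3 = 0 → 𝕙₄ x x = 0 := fun x h => by
    rw [herm_four hF]; linear_combination h
  have ie : 𝕙₄ e e = 0 := iso e (by simp [he]; linear_combination h2)
  have ie' : 𝕙₄ e' e' = 0 := iso e' (by simp [he']; linear_combination h2)
  have jf : 𝕙₄ f f = 0 := iso f (by simp [hf]; linear_combination hw3 + h2)
  have jf' : 𝕙₄ f' f' = 0 := iso f' (by simp [hf']; linear_combination hw3 + h2)
  obtain ⟨lam, hle⟩ := heig e (fun h => one_ne_zero (α := F) (congrFun h 0)) ie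
  have hle' := hpair e e' lam (fun h => one_ne_zero (α := F) (congrFun h 2)) (li 0 2 rfl rfl rfl) ie ie'
    (by simp [herm_four hF, he, he']) hle
  have hlf := hpair e' f lam (fun h => one_ne_zero (α := F) (congrFun h 0)) (li 2 0 rfl rfl rfl) ie' jf
    (by simp [herm_four hF, hf, he']) hle'
  have hlf' := hpair e f' lam (fun h => one_ne_zero (α := F) (congrFun h 2)) (li 0 2 rfl rfl rfl) ie jf'
    (by simp [herm_four hF, he, hf']) hle
  have hw' : 1 + w ≠ 0 := fun e => hw1 (by linear_combination e - h2)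
  have htail : ∀ z : W, k.1.1 *ᵥ mk6 0 0 z = lam • mk6 0 0 z := by
    intro z
    have hcomb : mk6 0 0 z = ((z 0 * w + z 1) / (1 + w)) • mk6 0 0 e + ((z 0 + z 1) / (1 + w)) • mk6 0 0 f +
        (((z 2 * w + z 3) / (1 + w)) • mk6 0 0 e' + ((z 2 + z 3) / (1 + w)) • mk6 0 0 f') := by
      rw [smul_mk6, smul_mk6, smul_mk6, smul_mk6, add_mk6, add_mk6, add_mk6, mk6_inj]
      refine ⟨by ring, by ring, funext fun i => ?_⟩
      fin_cases i <;> simp [he, he', hf, hf'] <;> field_simp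
      · linear_combination -(z 1) * h2
      · linear_combination -(z 0 * w) * h2
      · linear_combination -(z 3) * h2
      · linear_combination -(z 2 * w) * h2
    rw [hcomb, Matrix.mulVec_add, Matrix.mulVec_add, Matrix.mulVec_add, Matrix.mulVec_smul, Matrix.mulVec_smul,
      Matrix.mulVec_smul, Matrix.mulVec_smul, hle, hle', hlf, hlf']
    module
  have hk : ∀ x : V, k.1.1 *ᵥ x = mk6 (x 0) (x 1) (lam • tl x) := by
    intro x
    conv_lhs => rw [show x = x 0 • mk6 1 0 0 + x 1 • mk6 0 1 0 + mk6 0 0 (tl x) by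
      rw [smul_mk6, smul_mk6, add_mk6, add_mk6]; simp [mk6_tl]]
    rw [Matrix.mulVec_add, Matrix.mulVec_add, Matrix.mulVec_smul, Matrix.mulVec_smul, h0, h1, htail, smul_mk6,
      smul_mk6, smul_mk6, add_mk6, add_mk6]
    simp
  have hlam : lam = 1 := by
    have hM : k.1.1 = extMat (lam • (1 : Matrix (Fin 4) (Fin 4) F)) := Matrix.ext_of_mulVec_single fun i => by
      rw [hk, extMat_mulVec, Matrix.smul_mulVec, Matrix.one_mulVec]
    have hd : lam ^ 4 = 1 := by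
      have h : k.1.1.det = 1 := k.1.2
      rwa [hM, extMat_det, Matrix.det_smul, Matrix.det_one, mul_one, Fintype.card_fin] at h
    rw [pow_four hF] at hd
    exact hd
  exact SU_ext fun x => by rw [hk, hlam, one_smul, mk6_tl, SU_one_mulVec]

/-- Inside the common neighbours of a pair, the stabiliser of a member is transitive on the far ones. -/
theorem pair_move {a c x y y' : PSU₆} (ha : a ∈ E) (hc : c ∈ E) (hac : ¬ Commute a c) (hx : x ∈ Dd E a ∩ Dd E c)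
    (hy : y ∈ Dd E a ∩ Dd E c) (hy' : y' ∈ Dd E a ∩ Dd E c) (hxy : ¬ Commute x y) (hxy' : ¬ Commute x y') :
    ∃ g : PSU₆, Commute g a ∧ Commute g c ∧ Commute g x ∧ g * y * g⁻¹ = y' := by
  obtain ⟨w, hw0, hw1, hw⟩ := exists_omega hF
  obtain ⟨hu0, huu, -, -⟩ := u₀_spec hF hw0 hw
  obtain ⟨A₀, hA₀⟩ := exists_tvAt hF (v₀_ne hF) (v₀_iso hF)
  obtain ⟨U₀, hU₀⟩ := exists_tvAt hF hu0 huu
  obtain ⟨t, rfl, rfl⟩ := hE.normal hF hw0 hw hA₀ hU₀ ha hc hac
  have back : ∀ p ∈ Dd E (t * QuotientGroup.mk A₀ * t⁻¹) ∩ Dd E (t * QuotientGroup.mk U₀ * t⁻¹),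
      ∃ (z : W) (Z : SU₆), IsTvAt (mk6 0 0 z) Z ∧ 𝕙₄ z z = 0 ∧ t * QuotientGroup.mk Z * t⁻¹ = p := by
    intro p hp
    have h1 := conj_mem_Dd_conj (hE.closed hF) t⁻¹ hp.1
    have h2 := conj_mem_Dd_conj (hE.closed hF) t⁻¹ hp.2
    rw [show t⁻¹ * (t * QuotientGroup.mk A₀ * t⁻¹) * t⁻¹⁻¹ = QuotientGroup.mk A₀ by group] at h1
    rw [show t⁻¹ * (t * QuotientGroup.mk U₀ * t⁻¹) * t⁻¹⁻¹ = QuotientGroup.mk U₀ by group] at h2
    obtain ⟨z, Z, hZ, hzz, -, e⟩ := hE.pair_tail hF hw hA₀ hU₀ ⟨h1, h2⟩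
    exact ⟨z, Z, hZ, hzz, by rw [e]; group⟩
  obtain ⟨p, P, hP, hpp, rfl⟩ := back x hx
  obtain ⟨q, Q, hQ, hqq, rfl⟩ := back y hy
  obtain ⟨r, R, hR, hrr, rfl⟩ := back y' hy'
  have hpq : 𝕙₄ p q ≠ 0 := fun h => hxy ((commute_conj_iff t _ _).2 ((commute_mk_iff hF hP hQ).2
    (by rw [herm_mk6, h]; ring)))
  have hpr : 𝕙₄ p r ≠ 0 := fun h => hxy' ((commute_conj_iff t _ _).2 ((commute_mk_iff hF hP hR).2
    (by rw [herm_mk6, h]; ring)))
  obtain ⟨M, α, β, hα, hβ, hMp, hMq⟩ := exists_SU_map_nonorth (n := 4) hF hpp hqq hpq hpp hrr hpr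
  obtain ⟨k, hk, hkx⟩ := isExt_all hF M
  have key : ∀ {u v : V} {A B : SU₆} (c : F), c ≠ 0 → IsTvAt u A → IsTvAt v B → k.1.1 *ᵥ u = c • v →
      t * QuotientGroup.mk k * t⁻¹ * (t * QuotientGroup.mk A * t⁻¹) * (t * QuotientGroup.mk k * t⁻¹)⁻¹ =
        t * QuotientGroup.mk B * t⁻¹ := fun c hc hA hB h => by
    rw [← hE.conj_mk hF hA hB hc h]; group
  refine ⟨t * QuotientGroup.mk k * t⁻¹, mul_inv_eq_iff_eq_mul.1 (key 1 one_ne_zero hA₀ hA₀ ?_),
    mul_inv_eq_iff_eq_mul.1 (key 1 one_ne_zero hU₀ hU₀ ?_), mul_inv_eq_iff_eq_mul.1 (key α hα hP hP ?_),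
    key β hβ hQ hR ?_⟩
  · rw [one_smul, hkx, v₀, mk6_zero, mk6_one, tl_mk6, Matrix.mulVec_zero]
  · rw [one_smul, hkx, u₀, mk6_zero, mk6_one, tl_mk6, Matrix.mulVec_zero]
  · rw [hkx, mk6_zero, mk6_one, tl_mk6, hMp, smul_mk6, mul_zero]
  · rw [hkx, mk6_zero, mk6_one, tl_mk6, hMq, smul_mk6, mul_zero]

/-- Pairwise commuting members commuting with a pair: at most five, and five occur. -/
theorem pair_clique {a c : PSU₆} (ha : a ∈ E) (hc : c ∈ E) (hac : ¬ Commute a c) :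
    (∀ S : Set PSU₆, S ⊆ Dd E a ∩ Dd E c → (∀ p ∈ S, ∀ q ∈ S, Commute p q) → S.ncard ≤ 5) ∧
      ∃ S : Set PSU₆, S ⊆ Dd E a ∩ Dd E c ∧ (∀ p ∈ S, ∀ q ∈ S, Commute p q) ∧ S.ncard = 5 := by
  classical
  have h2 := two_eq_zero hF
  obtain ⟨w, hw0, hw1, hw⟩ := exists_omega hF
  obtain ⟨hu0, huu, -, -⟩ := u₀_spec hF hw0 hw
  obtain ⟨A₀, hA₀⟩ := exists_tvAt hF (v₀_ne hF) (v₀_iso hF)
  obtain ⟨U₀, hU₀⟩ := exists_tvAt hF hu0 huu
  obtain ⟨t, rfl, rfl⟩ := hE.normal hF hw0 hw hA₀ hU₀ ha hc hac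
  -- the members on the plane of two tail vectors
  have hplane : ∀ z z' : W, LinearIndependent F ![z, z'] → 𝕙₄ z z = 0 → 𝕙₄ z' z' = 0 → 𝕙₄ z z' = 0 →
      ∃ S : Set PSU₆, S.ncard = 5 ∧ S ⊆ Dd E (QuotientGroup.mk A₀) ∩ Dd E (QuotientGroup.mk U₀) ∧
        (∀ p ∈ S, ∀ q ∈ S, Commute p q) ∧
        ∀ {x : W} {X : SU₆}, IsTvAt (mk6 0 0 x) X → (∃ i j : F, x = i • z + j • z') → QuotientGroup.mk X ∈ S := by
    intro z z' hli hz hz' hzz
    have hzz' : 𝕙₄ z' z = 0 := by rw [hermForm_symm hF 4 z z', hzz, zero_pow two_ne_zero]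
    let T : Set V := (fun p : F × F => mk6 0 0 (p.1 • z + p.2 • z')) '' ({0} : Set (F × F))ᶜ
    have hT : ∀ v ∈ T, v ≠ 0 ∧ 𝕙 v v = 0 := by
      rintro _ ⟨⟨i, j⟩, hij, rfl⟩
      refine ⟨mk6_zero_tail_ne fun h => hij ?_, ?_⟩
      · obtain ⟨hi, hj⟩ := LinearIndependent.pair_iff.1 hli i j h
        simp [hi, hj]
      · simp [herm_mk6, hermForm_add_left, hermForm_add_right hF, hermForm_smul_left, hermForm_smul_right, hz,
          hz', hzz, hzz']
    have hTc : T.ncard = 15 := by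
      rw [Set.ncard_image_of_injective _ (fun p q h => by
        have h' := (mk6_inj.1 h).2.2
        obtain ⟨e1, e2⟩ := LinearIndependent.pair_iff.1 hli (p.1 - q.1) (p.2 - q.2) (by
          rw [sub_smul, sub_smul]; linear_combination (norm := module) h')
        exact Prod.ext (sub_eq_zero.1 e1) (sub_eq_zero.1 e2)),
        Set.ncard_compl, Set.ncard_singleton, Nat.card_prod, Nat.card_eq_fintype_card, hF]
      norm_num
    refine ⟨ptsOf T, ?_, ?_, ?_, ?_⟩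
    · have h := ncard_ptsOf hF (S := T) hT (by
        rintro _ ⟨⟨i, j⟩, hij, rfl⟩ s hs
        refine ⟨(s * i, s * j), fun h => hij ?_, ?_⟩
        · simp [hs] at h ⊢
          exact h
        · simp [smul_mk6, smul_add, smul_smul])
      rw [hTc] at h
      omega
    · rintro _ ⟨v, X, hX, ⟨⟨i, j⟩, -, rfl⟩, rfl⟩
      exact hE.tail_mem_pair hF hA₀ hU₀ hX
    · rintro _ ⟨v, X, hX, ⟨⟨i, j⟩, -, rfl⟩, rfl⟩ _ ⟨v', Y, hY, ⟨⟨i', j'⟩, -, rfl⟩, rfl⟩
      refine (commute_mk_iff hF hX hY).2 ?_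
      simp [herm_mk6, hermForm_add_left, hermForm_add_right hF, hermForm_smul_left, hermForm_smul_right, hz,
        hz', hzz, hzz']
    · rintro x X hX ⟨i, j, rfl⟩
      exact ⟨_, X, hX, ⟨(i, j), fun h => hX.1 (by
        simp only [Set.mem_singleton_iff, Prod.mk_eq_zero] at h
        rw [h.1, h.2, zero_smul, zero_smul, add_zero, mk6_zero_zero]), rfl⟩, rfl⟩
  constructor
  · intro S hS hcomm
    rw [← Set.ncard_image_of_injective S (f := fun p => t⁻¹ * p * t⁻¹⁻¹) fun p q h =>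
      mul_left_cancel (mul_right_cancel h)]
    set S₀ := (fun p => t⁻¹ * p * t⁻¹⁻¹) '' S with hS₀
    have hsub : ∀ p ∈ S₀, p ∈ Dd E (QuotientGroup.mk A₀) ∩ Dd E (QuotientGroup.mk U₀) := by
      rintro _ ⟨p, hp, rfl⟩
      have h1 := conj_mem_Dd_conj (hE.closed hF) t⁻¹ (hS hp).1
      have h2 := conj_mem_Dd_conj (hE.closed hF) t⁻¹ (hS hp).2
      rw [show t⁻¹ * (t * QuotientGroup.mk A₀ * t⁻¹) * t⁻¹⁻¹ = QuotientGroup.mk A₀ by group] at h1
      rw [show t⁻¹ * (t * QuotientGroup.mk U₀ * t⁻¹) * t⁻¹⁻¹ = QuotientGroup.mk U₀ by group] at h2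
      exact ⟨h1, h2⟩
    have hcomm₀ : ∀ p ∈ S₀, ∀ q ∈ S₀, Commute p q := by
      rintro _ ⟨p, hp, rfl⟩ _ ⟨q, hq, rfl⟩
      exact (commute_conj_iff _ _ _).2 (hcomm p hp q hq)
    by_cases h1 : ∃ p ∈ S₀, ∃ q ∈ S₀, p ≠ q
    · obtain ⟨p, hp, q, hq, hpq⟩ := h1
      obtain ⟨z, Z, hZ, hz, hz0, rfl⟩ := hE.pair_tail hF hw hA₀ hU₀ (hsub p hp)
      obtain ⟨z', Z', hZ', hz', hz0', rfl⟩ := hE.pair_tail hF hw hA₀ hU₀ (hsub q hq)
      have hzz : 𝕙₄ z z' = 0 := by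
        have := (commute_mk_iff hF hZ hZ').1 (hcomm₀ _ hp _ hq)
        rw [herm_mk6] at this
        linear_combination this
      have hli : LinearIndependent F ![z, z'] := by
        rw [LinearIndependent.pair_iff' hz0]
        intro s hs
        exact hpq ((hE.mk_eq_iff hF hZ hZ').2
          ⟨s, fun e => hz0' (by rw [← hs, e, zero_smul]), by rw [smul_mk6, mul_zero, hs]⟩)
      obtain ⟨P, hP5, -, -, hmem⟩ := hplane z z' hli hz hz' hzz
      refine (Set.ncard_le_ncard (fun r hr => ?_) (Set.toFinite _)).trans hP5.le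
      obtain ⟨x, X, hX, -, -, rfl⟩ := hE.pair_tail hF hw hA₀ hU₀ (hsub r hr)
      refine hmem hX ?_
      obtain ⟨g, hg, hg'⟩ := exists_plane_map hF hz hz' hzz hli
      have hG : ∀ u v, 𝕙₄ (g.1.val *ᵥ u) (g.1.val *ᵥ v) = 𝕙₄ u v := mem_GU_iff.1 g.2
      set y := g⁻¹.1.val *ᵥ x
      have hgy : g.1.val *ᵥ y = x := by rw [← GU_mul_mulVec, mul_inv_cancel, GU_one_mulVec]
      have hyc := plane_coords hF (y := y)
        (by
          have := (commute_mk_iff hF hX hZ).1 (hcomm₀ _ hr _ hp)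
          rw [herm_mk6] at this
          rw [← hG, hgy, hg]; linear_combination this)
        (by
          have := (commute_mk_iff hF hX hZ').1 (hcomm₀ _ hr _ hq)
          rw [herm_mk6] at this
          rw [← hG, hgy, hg']; linear_combination this)
      exact ⟨y 0, y 2, by rw [← hgy]; conv_lhs => rw [hyc, Matrix.mulVec_add, Matrix.mulVec_smul, Matrix.mulVec_smul, hg, hg']⟩
    · push Not at h1
      exact ((Set.ncard_le_one (Set.toFinite _)).2 h1).trans (by norm_num)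
  · have hli : LinearIndependent F ![(![1, 1, 0, 0] : W), ![0, 0, 1, 1]] := by
      rw [LinearIndependent.pair_iff]
      intro i j h
      have e0 := congrFun h 0
      have e2 := congrFun h 2
      simp at e0 e2
      exact ⟨e0, e2⟩
    obtain ⟨S, hS5, hsub, hcomm, -⟩ := hplane _ _ hli (by simp [herm_four hF]; linear_combination h2)
      (by simp [herm_four hF]; linear_combination h2) (by simp [herm_four hF])
    refine ⟨(fun p => t * p * t⁻¹) '' S, ?_, ?_, ?_⟩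
    · rintro _ ⟨p, hp, rfl⟩
      exact ⟨conj_mem_Dd_conj (hE.closed hF) t (hsub hp).1, conj_mem_Dd_conj (hE.closed hF) t (hsub hp).2⟩
    · rintro _ ⟨p, hp, rfl⟩ _ ⟨q, hq, rfl⟩
      exact (commute_conj_iff _ _ _).2 (hcomm p hp q hq)
    · rw [Set.ncard_image_of_injective _ fun p q h => mul_left_cancel (mul_right_cancel h), hS5]

end TClass

end CfsgLib.ThreeTrans.USix
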