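import Mathlib
import Cfsg.Agent.Lib.ThreeTrans.Tower.Types
import Cfsg.Agent.Lib.ThreeTrans.Tower.PairUnitary

/-! The joint centraliser of two members that do not commute, and the subgroup of order three they generate. -/

set_option autoImplicit false

namespace CfsgLib.ThreeTrans.Tower

/-- The centraliser of a pair of members not commuting is generated by the members it contains and has
trivial centre. -/
structure PairLocal {Y : Type*} [Group Y] (E : Set Y) : Prop where
  stab : ∀ a ∈ E, ∀ c ∈ E, ¬ Commute a c → ∀ g : Y, Commute g a → Commute g c →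
    g ∈ Subgroup.closure (Dd E a ∩ Dd E c)
  rigid : ∀ a ∈ E, ∀ c ∈ E, ¬ Commute a c → ∀ g : Y, Commute g a → Commute g c →
    (∀ p ∈ Dd E a ∩ Dd E c, Commute g p) → g = 1

theorem pair_commute {G : Type*} [Group G] {D : Set G} {a c g : G} (hg : g ∈ Subgroup.closure (Dd D a ∩ Dd D c)) :
    Commute g a ∧ Commute g c := by
  induction hg using Subgroup.closure_induction with
  | mem y hy => exact ⟨hy.1.2.2.symm, hy.2.2.2.symm⟩
  | one => exact ⟨Commute.one_left _, Commute.one_left _⟩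
  | mul p q _ _ hp hq => exact ⟨hp.1.mul_left hq.1, hp.2.mul_left hq.2⟩
  | inv p _ hp => exact ⟨hp.1.inv_left, hp.2.inv_left⟩

namespace Local

variable {G : Type*} [Group G] {D : Set G} {v N k μ : ℕ} (L : Local D v N k μ)
include L

theorem closed : ConjClosed D := conjClosed_of_group L.group

theorem conj_pair {a c g y : G} (ha : Commute g a) (hc : Commute g c) (hy : y ∈ Dd D a ∩ Dd D c) :
    g * y * g⁻¹ ∈ Dd D a ∩ Dd D c := by
  have h1 := conj_mem_Dd_conj L.closed g hy.1
  have h2 := conj_mem_Dd_conj L.closed g hy.2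
  rw [ha.eq, mul_inv_cancel_right] at h1
  rw [hc.eq, mul_inv_cancel_right] at h2
  exact ⟨h1, h2⟩

/-- The members commuting with a pair are conjugate under the group they generate. -/
theorem pair_orbit {a c : G} (ha : a ∈ D) (hc : c ∈ D) (hac : ¬ Commute a c) {x y : G}
    (hx : x ∈ Dd D a ∩ Dd D c) (hy : y ∈ Dd D a ∩ Dd D c) :
    ∃ g ∈ Subgroup.closure (Dd D a ∩ Dd D c), g * x * g⁻¹ = y := by
  set K := Subgroup.closure (Dd D a ∩ Dd D c)
  set O : Set G := {z | ∃ g ∈ K, g * x * g⁻¹ = z} with hO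
  by_contra hn
  have hsub : O ⊆ Dd D a ∩ Dd D c := by
    rintro _ ⟨g, hg, rfl⟩
    exact L.conj_pair (pair_commute hg).1 (pair_commute hg).2 hx
  obtain ⟨u, ⟨g, hg, rfl⟩, w, hw, hn'⟩ := L.indec a ha c hc hac O hsub ⟨x, 1, one_mem _, by simp⟩
    ⟨y, hy, hn⟩
  refine hw.2 ⟨g * x * g⁻¹ * w * g, mul_mem (mul_mem (Subgroup.subset_closure (hsub ⟨g, hg, rfl⟩))
    (Subgroup.subset_closure hw.1)) hg, ?_⟩
  have e := CfsgLib.Sporadic.RankThree.conj_braid L.group.1 (hsub ⟨g, hg, rfl⟩).1.1 hw.1.1.1 hn'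
  calc g * x * g⁻¹ * w * g * x * (g * x * g⁻¹ * w * g)⁻¹
      = g * x * g⁻¹ * w * (g * x * g⁻¹) * (g * x * g⁻¹ * w)⁻¹ := by group
    _ = w := e

theorem exists_pair_common {a c : G} (ha : a ∈ D) (hc : c ∈ D) (hac : ¬ Commute a c) :
    ∃ x, x ∈ Dd D a ∩ Dd D c := by
  obtain ⟨x, -, h1, h2, -⟩ := L.edge a ha c hc hac
  exact ⟨x, h1, h2⟩

theorem product_ne {a d : G} (ha : a ∈ D) (hd : d ∈ D) (hac : ¬ Commute a d) : d * a ≠ a * d := fun e => hac e.symm

/-- A member centralising the product of a pair commutes with a member inverting it. -/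
theorem commute_of_centralize {a d y e : G} (ha : a ∈ D) (hd : d ∈ D) (hac : ¬ Commute a d) (hy : y ∈ D)
    (hyc : Commute y (a * d)) (he : e ∈ D) (hinv : e * (a * d) * e = d * a) : Commute y e := by
  have hs := L.group.1
  by_contra hn
  have h3 := pow_three_of_not_commute hs hy he hn
  set g := a * d
  have hda : d * a = g⁻¹ := by simp [g, mul_inv_rev, inv_eq hs ha, inv_eq hs hd]
  have hstep : ∀ z, y * e * z * (y * e)⁻¹ = y * (e * z * e) * y := fun z => by
    simp [mul_inv_rev, inv_eq hs hy, inv_eq hs he, mul_assoc]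
  have h1 : y * e * g * (y * e)⁻¹ = g⁻¹ := by
    rw [hstep, hinv, hda, hyc.inv_right.eq, mul_assoc, mul_self hs hy, mul_one]
  have h2 : y * e * g⁻¹ * (y * e)⁻¹ = g := by
    calc y * e * g⁻¹ * (y * e)⁻¹ = (y * e * g * (y * e)⁻¹)⁻¹ := by group
      _ = g := by rw [h1, inv_inv]
  have e3 : (y * e) ^ 3 * g * ((y * e) ^ 3)⁻¹ = g⁻¹ := by
    calc (y * e) ^ 3 * g * ((y * e) ^ 3)⁻¹
        = y * e * (y * e * (y * e * g * (y * e)⁻¹) * (y * e)⁻¹) * (y * e)⁻¹ := by
          simp only [pow_three, mul_inv_rev, mul_assoc]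
      _ = g⁻¹ := by rw [h1, h2, h1]
  rw [h3, one_mul, inv_one, mul_one, ← hda] at e3
  exact hac (e3 : a * d = d * a)

/-- The members centralising the product of a pair are those commuting with both. -/
theorem centralize_iff {a d y : G} (ha : a ∈ D) (hd : d ∈ D) (hac : ¬ Commute a d) :
    (y ∈ D ∧ Commute y (a * d)) ↔ y ∈ Dd D a ∩ Dd D d := by
  have hs := L.group.1
  constructor
  · rintro ⟨hy, hyc⟩
    have h1 := L.commute_of_centralize ha hd hac hy hyc ha (by simp [mul_assoc, mul_self_mul hs ha])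
    have h2 := L.commute_of_centralize ha hd hac hy hyc hd (by simp [mul_assoc, mul_self hs hd])
    exact ⟨⟨hy, fun e => hac (e ▸ h2), h1.symm⟩, hy, fun e => hac (e ▸ h1).symm, h2.symm⟩
  · rintro ⟨h1, h2⟩
    exact ⟨h1.1, h1.2.2.symm.mul_right h2.2.2.symm⟩

/-- Only the three members of the pair's group invert the product. -/
theorem invert_cases [Finite G] {a d e : G} (ha : a ∈ D) (hd : d ∈ D) (hac : ¬ Commute a d) (he : e ∈ D)
    (hinv : e * (a * d) * e = d * a) : e = a ∨ e = d ∨ e = a * d * a := by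
  have hs := L.group.1
  have aa := mul_self hs ha
  have ee := mul_self hs he
  have split : e * a * e * (e * d * e) = d * a := by
    rw [← hinv]; simp [mul_assoc, mul_self_mul hs he]
  by_cases hea : Commute e a
  · have h1 : a * (e * d * e) = d * a := by
      rw [← split, hea.eq, mul_assoc a e e, ee, mul_one]
    have h2 : e * d * e = a * d * a := by
      rw [mul_assoc a d a, ← h1, mul_self_mul hs ha]
    by_cases hed : Commute e d
    · refine absurd ?_ hac
      rw [hed.eq, mul_assoc, ee, mul_one] at h2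
      show a * d = d * a
      conv_rhs => rw [h2]
      rw [mul_assoc, aa, mul_one]
    · left
      rw [braid hs ha hd hac, braid hs he hd hed] at h2
      exact mul_left_cancel (mul_right_cancel h2)
  · by_cases hed : Commute e d
    · right; left
      have h1 : e * a * e * d = d * a := by
        rw [← split, hed.eq, mul_assoc d e e, ee, mul_one]
      have h2 : e * a * e = a * d * a := by
        rw [braid hs ha hd hac, ← h1, mul_assoc (e * a * e), mul_self hs hd, mul_one]
      rw [braid hs he ha hea] at h2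
      exact mul_left_cancel (mul_right_cancel h2)
    · have hsub : Dd D a ∩ Dd D d ⊆ Dd D a ∩ Dd D e := fun u hu => by
        have h := L.commute_of_centralize ha hd hac hu.1.1 ((L.centralize_iff ha hd hac).2 hu).2 he hinv
        exact ⟨hu.1, hu.1.1, fun k => hea (k ▸ hu.1.2.2).symm, h.symm⟩
      have heq := Set.eq_of_subset_of_ncard_le hsub
        (by rw [L.mu a ha d hd hac, L.mu a ha e he fun k => hea k.symm]) (Set.toFinite _)
      right
      refine L.farTwins a ha d hd e he hac (fun k => hea k.symm) fun u hu => ?_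
      constructor <;> intro hk
      · exact ((Set.ext_iff.1 heq u).1 ⟨hu, hu.1, fun k => hac (k ▸ hu.2.2), hk⟩).2.2.2
      · exact ((Set.ext_iff.1 heq u).2 ⟨hu, hu.1, fun k => hea (k ▸ hu.2.2).symm, hk⟩).2.2.2

end Local

namespace Stage

variable {G Y : Type*} [Group G] [Finite G] [Group Y] {D : Set G} {E : Set Y} {N k l m v n' k' μ : ℕ}
  (S : Stage D E N k l m) (L : Local D v n' k' μ) (P : PairLocal E)
include S L P

omit L P in
/-- Lifting an element of the quotient at a common member. -/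
theorem lift_pair {a c x : G} (ha : a ∈ D) (hc : c ∈ D) (hx : x ∈ Dd D a ∩ Dd D c) {π : Hd D x →* Y}
    (M : Model D x E π) {t : Y} (ht : t ∈ Subgroup.closure (Dd E (phi π a) ∩ Dd E (phi π c))) :
    ∃ h : Hd D x, (h : G) ∈ Subgroup.closure (Dd D a ∩ Dd D c) ∧ π h = t := by
  have ma := Dd_symm ha hx.1
  have mc := Dd_symm hc hx.2
  induction ht using Subgroup.closure_induction with
  | mem e he =>
    obtain ⟨y, hy, rfl⟩ := M.onto he.1.1
    exact ⟨⟨y, Subgroup.subset_closure hy⟩, Subgroup.subset_closure ⟨(M.mem_Dd ma hy).1 he.1, (M.mem_Dd mc hy).1 he.2⟩,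
      (phi_of_mem π hy).symm⟩
  | one => exact ⟨1, one_mem _, map_one π⟩
  | mul p q _ _ hp hq =>
    obtain ⟨u, hu, rfl⟩ := hp
    obtain ⟨w, hw, rfl⟩ := hq
    exact ⟨u * w, mul_mem hu hw, map_mul π u w⟩
  | inv p _ hp =>
    obtain ⟨u, hu, rfl⟩ := hp
    exact ⟨u⁻¹, inv_mem hu, map_inv π u⟩

omit L P in
theorem img_commute {x p : G} {π : Hd D x →* Y} (M : Model D x E π) (hp : p ∈ Dd D x) {h : Hd D x}
    (hh : Commute (h : G) p) : Commute (π h) (phi π p) := by
  rw [phi_of_mem π (x := ⟨p, Subgroup.subset_closure hp⟩) hp]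
  exact Commute.map (show Commute h ⟨p, Subgroup.subset_closure hp⟩ from Subtype.ext hh) π

theorem pair_stab {a c g : G} (ha : a ∈ D) (hc : c ∈ D) (hac : ¬ Commute a c) (hga : Commute g a)
    (hgc : Commute g c) : g ∈ Subgroup.closure (Dd D a ∩ Dd D c) := by
  set K := Subgroup.closure (Dd D a ∩ Dd D c)
  obtain ⟨x, hx⟩ := L.exists_pair_common ha hc hac
  obtain ⟨t, ht, htx⟩ := L.pair_orbit ha hc hac hx (L.conj_pair hga hgc hx)
  suffices key : t⁻¹ * g ∈ K by
    have := mul_mem ht key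
    rwa [mul_inv_cancel_left] at this
  have hx' : Commute (t⁻¹ * g) x := by
    refine mul_inv_eq_iff_eq_mul.1 ?_
    calc t⁻¹ * g * x * (t⁻¹ * g)⁻¹ = t⁻¹ * (g * x * g⁻¹) * t := by group
      _ = x := by rw [← htx]; group
  have hxK : x ∈ K := Subgroup.subset_closure hx
  obtain ⟨h₀, hh₀⟩ := Model.Kc_decomp S.threeSet hx.1.1 (L.stab x hx.1.1 _ hx')
  have h0K : (h₀ : G) ∈ K := by
    obtain ⟨π, M⟩ := S.base x hx.1.1
    have hcom : ∀ {p : G}, Commute (t⁻¹ * g) p → Commute x p → Commute (h₀ : G) p := fun {p} h1 h2 => by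
      rcases hh₀ with e | e
      · rwa [← e]
      · have := h2.inv_left.mul_left h1
        rwa [e, inv_mul_cancel_left] at this
    have ht' := pair_commute ht
    have c1 := hcom ((ht'.1.inv_left).mul_left hga) hx.1.2.2.symm
    have c2 := hcom ((ht'.2.inv_left).mul_left hgc) hx.2.2.2.symm
    have ma := Dd_symm ha hx.1
    have mc := Dd_symm hc hx.2
    obtain ⟨h₁, hh₁, e⟩ := S.lift_pair ha hc hx M (P.stab _ (M.mem ma) _ (M.mem mc)
      (fun e => hac ((M.comm ma mc).1 e)) (π h₀) (S.img_commute M ma c1) (S.img_commute M mc c2))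
    have hz := (M.base.map_eq_one_iff' (h₁⁻¹ * h₀)).1 (by rw [map_mul, map_inv, e, inv_mul_cancel])
    have e2 : (h₀ : G) = h₁ * ((h₁⁻¹ * h₀ : Hd D x) : G) := by simp
    rw [e2]
    refine mul_mem hh₁ ?_
    rcases S.kernel hx.1.1 (commute_of_mem_Hd (h₁⁻¹ * h₀).2) hz with h' | h' <;> rw [h']
    exacts [one_mem _, hxK]
  rcases hh₀ with e | e <;> rw [e]
  exacts [h0K, mul_mem hxK h0K]

theorem pair_rigid {a c g : G} (ha : a ∈ D) (hc : c ∈ D) (hac : ¬ Commute a c) (hga : Commute g a)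
    (hgc : Commute g c) (hg : ∀ p ∈ Dd D a ∩ Dd D c, Commute g p) : g = 1 := by
  have key : ∀ x ∈ Dd D a ∩ Dd D c, g = 1 ∨ g = x := by
    intro x hx
    obtain ⟨h₀, hh₀⟩ := Model.Kc_decomp S.threeSet hx.1.1 (L.stab x hx.1.1 _ (hg x hx))
    have hcom : ∀ {p : G}, Commute g p → Commute x p → Commute (h₀ : G) p := fun {p} h1 h2 => by
      rcases hh₀ with e | e
      · rwa [← e]
      · have := h2.inv_left.mul_left h1
        rwa [e, inv_mul_cancel_left] at this
    obtain ⟨π, M⟩ := S.base x hx.1.1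
    have ma := Dd_symm ha hx.1
    have mc := Dd_symm hc hx.2
    have h1 : π h₀ = 1 := by
      refine P.rigid _ (M.mem ma) _ (M.mem mc) (fun e => hac ((M.comm ma mc).1 e)) _
        (S.img_commute M ma (hcom hga hx.1.2.2.symm)) (S.img_commute M mc (hcom hgc hx.2.2.2.symm)) fun p hp => ?_
      obtain ⟨y, hy, rfl⟩ := M.onto hp.1.1
      exact S.img_commute M hy (hcom (hg y ⟨(M.mem_Dd ma hy).1 hp.1, (M.mem_Dd mc hy).1 hp.2⟩) hy.2.2)
    rcases S.kernel hx.1.1 (commute_of_mem_Hd h₀.2) ((M.base.map_eq_one_iff' h₀).1 h1) with e | e <;>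
      rcases hh₀ with e' | e'
    · exact Or.inl (e'.trans e)
    · exact Or.inr (by rw [e', e, mul_one])
    · exact Or.inr (e'.trans e)
    · exact Or.inl (by rw [e', e, mul_self S.threeSet hx.1.1])
  obtain ⟨x, y, hxa, hxc, hya, hyc, hyx⟩ := L.edge a ha c hc hac
  rcases key x ⟨hxa, hxc⟩ with h | h
  · exact h
  rcases key y ⟨hya, hyc⟩ with h' | h'
  · exact h'
  exact absurd (h.symm.trans h') (Ne.symm hyx.2.1)

theorem toPairLocal : PairLocal D :=
  ⟨fun _ ha _ hc hac _ => S.pair_stab L P ha hc hac, fun _ ha _ hc hac _ => S.pair_rigid L P ha hc hac⟩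

end Stage

/-- The pair data for type M(22), and its step data. -/
theorem pair22 {G : Type*} [Group G] [Finite G] {D : Set G} (hD : Cfsg.IsThreeTranspositionGroup D)
    (hprim : Cfsg.IsPrimitiveUnderConj D) (h : Cfsg.IsOfTypeM22 G D) : PairLocal D := by
  obtain ⟨d, c, F, _, _, π, hB, hc, hdc, hloc, -, hF⟩ := bottom22 hD h
  have S := stage_of_base hD hprim h.1 hloc hB rfl
  have T : USix.TClass (imgSet D d π) := ⟨hloc.group.1, hloc.group.2.1, hloc.rigid.nonabelian.imp fun _ h => h.1⟩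
  exact S.toPairLocal (local22 hD hprim h)
    ⟨fun _ ha _ hc hac _ => T.pair_stab hF ha hc hac, fun _ ha _ hc hac _ => T.pair_rigid hF ha hc hac⟩

end CfsgLib.ThreeTrans.Tower
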