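import Mathlib
import Cfsg.Agent.Lib.ThreeTrans.Tower.PairStep

/-! The members commuting with a pair: pairs among them not commuting, and cliques. -/

set_option autoImplicit false

namespace CfsgLib.ThreeTrans.Tower

namespace Stage

variable {G Y : Type*} [Group G] [Finite G] [Group Y] {D : Set G} {E : Set Y} {N k l m v n' k' μ : ℕ}
  (S : Stage D E N k l m) (L : Local D v n' k' μ) (PD : PairLocal D)
include S L PD

omit L PD in
theorem img_pair {a d z y : G} (ha : a ∈ D) (hd : d ∈ D) (hz : z ∈ Dd D a ∩ Dd D d) {π : Hd D z →* Y}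
    (M : Model D z E π) (hy : y ∈ (Dd D a ∩ Dd D d) ∩ Dd D z) :
    phi π y ∈ Dd E (phi π a) ∩ Dd E (phi π d) :=
  ⟨(M.mem_Dd (Dd_symm ha hz.1) hy.2).2 hy.1.1, (M.mem_Dd (Dd_symm hd hz.2) hy.2).2 hy.1.2⟩

omit L PD in
theorem img_noncommute {a d z : G} (ha : a ∈ D) (hd : d ∈ D) (hz : z ∈ Dd D a ∩ Dd D d) (hac : ¬ Commute a d)
    {π : Hd D z →* Y} (M : Model D z E π) : ¬ Commute (phi π a) (phi π d) :=
  fun h => hac ((M.comm (Dd_symm ha hz.1) (Dd_symm hd hz.2)).1 h)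

omit L PD in
/-- An element of the group at `z` fixing the image of a member fixes the member. -/
theorem fix_of_img {z p : G} {π : Hd D z →* Y} (M : Model D z E π) (hp : p ∈ Dd D z) {h : Hd D z}
    (hh : Commute (π h) (phi π p)) : Commute (h : G) p := by
  refine mul_inv_eq_iff_eq_mul.1 (M.inj (M.conj_mem h hp) hp ?_)
  rw [M.phi_conj h hp, hh.eq, mul_inv_cancel_right]

omit L PD in
/-- Within the members commuting with a pair, the stabiliser of one is transitive on those commuting with it. -/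
theorem pair_near {a d x z z' : G} (ha : a ∈ D) (hd : d ∈ D) (hac : ¬ Commute a d) (hx : x ∈ Dd D a ∩ Dd D d)
    (hz : z ∈ (Dd D a ∩ Dd D d) ∩ Dd D x) (hz' : z' ∈ (Dd D a ∩ Dd D d) ∩ Dd D x) :
    ∃ g ∈ Subgroup.closure (Dd D a ∩ Dd D d), Commute g x ∧ g * z * g⁻¹ = z' := by
  obtain ⟨π, M⟩ := S.base x hx.1.1
  obtain ⟨t, ht, e⟩ := S.loc.pair_orbit (M.mem (Dd_symm ha hx.1)) (M.mem (Dd_symm hd hx.2))
    (S.img_noncommute ha hd hx hac M) (S.img_pair ha hd hx M hz) (S.img_pair ha hd hx M hz')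
  obtain ⟨h, hh, rfl⟩ := S.lift_pair ha hd hx M ht
  refine ⟨h, hh, commute_of_mem_Hd h.2, M.inj (M.conj_mem h hz.2) hz'.2 ?_⟩
  rw [M.phi_conj h hz.2, e]

/-- The hypothesis that the stabiliser of three members moves the ones not commuting with the third. -/
def Moves {Y : Type*} [Group Y] (E : Set Y) : Prop :=
  ∀ {a c x y y' : Y}, a ∈ E → c ∈ E → ¬ Commute a c → x ∈ Dd E a ∩ Dd E c → y ∈ Dd E a ∩ Dd E c →
    y' ∈ Dd E a ∩ Dd E c → ¬ Commute x y → ¬ Commute x y' →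
    ∃ g : Y, Commute g a ∧ Commute g c ∧ Commute g x ∧ g * y * g⁻¹ = y'

omit L in
theorem pair_far_step (hmove : Moves E) {a d x y y' z : G} (ha : a ∈ D) (hd : d ∈ D) (hac : ¬ Commute a d)
    (hx : x ∈ Dd D a ∩ Dd D d) (hy : y ∈ Dd D a ∩ Dd D d) (hy' : y' ∈ Dd D a ∩ Dd D d)
    (hxy : ¬ Commute x y) (hxy' : ¬ Commute x y') (hz : z ∈ Dd D a ∩ Dd D d) (hzx : x ∈ Dd D z)
    (hzy : y ∈ Dd D z) (hzy' : y' ∈ Dd D z) :
    ∃ g ∈ Subgroup.closure (Dd D a ∩ Dd D d), Commute g x ∧ g * y * g⁻¹ = y' := by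
  obtain ⟨π, M⟩ := S.base z hz.1.1
  have ma := Dd_symm ha hz.1
  have md := Dd_symm hd hz.2
  obtain ⟨t, hta, htd, htx, hty⟩ := hmove (M.mem ma) (M.mem md) (S.img_noncommute ha hd hz hac M)
    (S.img_pair ha hd hz M ⟨hx, hzx⟩) (S.img_pair ha hd hz M ⟨hy, hzy⟩) (S.img_pair ha hd hz M ⟨hy', hzy'⟩)
    (fun h => hxy ((M.comm hzx hzy).1 h)) (fun h => hxy' ((M.comm hzx hzy').1 h))
  obtain ⟨h, rfl⟩ := M.base.surj t
  refine ⟨h, PD.stab a ha d hd hac _ (S.fix_of_img M ma hta) (S.fix_of_img M md htd), S.fix_of_img M hzx htx, ?_⟩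
  exact M.inj (M.conj_mem h hzy) hzy' (by rw [M.phi_conj h hzy, hty])

omit PD in
/-- Two members commuting with a pair have a common neighbour among those members. -/
theorem pair_common (hbound : μ < 3 * (m + 1)) {a d x y : G} (ha : a ∈ D) (hd : d ∈ D) (hac : ¬ Commute a d)
    (hx : x ∈ Dd D a ∩ Dd D d) (hy : y ∈ Dd D a ∩ Dd D d) (hxy : ¬ Commute x y) :
    ∃ z ∈ Dd D a ∩ Dd D d, x ∈ Dd D z ∧ y ∈ Dd D z := by
  have hs := L.group.1
  set P := Dd D a ∩ Dd D d with hP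
  by_contra hno
  push Not at hno
  have conjP : ∀ w ∈ P, ∀ u ∈ P, w * u * w⁻¹ ∈ P := fun w hw u hu =>
    L.conj_pair hw.1.2.2.symm hw.2.2.2.symm hu
  set w := x * y * x with hwdef
  have hw : w ∈ P := by have := conjP x hx y hy; rwa [inv_eq hs hx.1.1] at this
  let Q : G → G → Prop := fun p q => ¬ Commute p q ∧ ∀ z ∈ P, p ∈ Dd D z → q ∉ Dd D z
  have hQ : ∀ g ∈ P, ∀ p q, Q p q → Q (g * p * g⁻¹) (g * q * g⁻¹) := by
    intro g hg p q h
    refine ⟨(commute_conj_iff g p q).not.2 h.1, fun z hz hp hq => h.2 (g⁻¹ * z * g⁻¹⁻¹) ?_ ?_ ?_⟩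
    · rw [show g⁻¹ = g from inv_eq hs hg.1.1]; exact conjP g hg z hz
    · have h' := conj_mem_Dd_conj L.closed g⁻¹ hp
      rwa [show g⁻¹ * (g * p * g⁻¹) * g⁻¹⁻¹ = p by group] at h'
    · have h' := conj_mem_Dd_conj L.closed g⁻¹ hq
      rwa [show g⁻¹ * (g * q * g⁻¹) * g⁻¹⁻¹ = q by group] at h'
  have qxy : Q x y := ⟨hxy, fun z hz h1 h2 => hno z hz h1 h2⟩
  have qxw : Q x w := by
    have h := hQ x hx x y qxy
    rwa [mul_inv_cancel_right, inv_eq hs hx.1.1] at h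
  have qwy : Q w y := by
    have h := hQ y hy x y qxy
    rwa [mul_inv_cancel_right, inv_eq hs hy.1.1, ← braid hs hx.1.1 hy.1.1 hxy] at h
  let A : G → Set G := fun p => insert p (Dd D p ∩ P)
  have hA : ∀ p ∈ P, (A p).ncard = m + 1 := fun p hp => by
    rw [Set.ncard_insert_of_notMem (fun h => h.1.2.1 rfl) (Set.toFinite _), S.inner ha hd hac hp.1 hp.2]
  have hsub : ∀ p ∈ P, A p ⊆ P := fun p hp => Set.insert_subset hp Set.inter_subset_right
  have hdisj : ∀ p ∈ P, ∀ q ∈ P, Q p q → Disjoint (A p) (A q) := by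
    intro p hp q hq h
    rw [Set.disjoint_left]
    rintro u (rfl | ⟨hu, huP⟩) hu'
    · rcases hu' with rfl | ⟨hu', -⟩
      · exact h.1 (Commute.refl _)
      · exact h.1 hu'.2.2.symm
    · rcases hu' with rfl | ⟨hu', -⟩
      · exact h.1 hu.2.2
      · exact h.2 u huP (Dd_symm hp.1.1 hu) (Dd_symm hq.1.1 hu')
  have h1 := Set.ncard_union_eq (hdisj x hx y hy qxy) (Set.toFinite _) (Set.toFinite _)
  have h2 := Set.ncard_union_eq (Set.disjoint_union_left.2 ⟨hdisj x hx w hw qxw, (hdisj w hw y hy qwy).symm⟩)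
    (Set.toFinite _) (Set.toFinite _)
  have h3 := Set.ncard_le_ncard (Set.union_subset (Set.union_subset (hsub x hx) (hsub y hy)) (hsub w hw))
    (Set.toFinite _)
  rw [h2, h1, hA x hx, hA y hy, hA w hw, L.mu a ha d hd hac] at h3
  omega

/-- The pairs not commuting among the members commuting with a pair are conjugate. -/
theorem pair_pairs (hmove : Moves E) (hbound : μ < 3 * (m + 1)) {a d p q p' q' : G} (ha : a ∈ D) (hd : d ∈ D)
    (hac : ¬ Commute a d) (hp : p ∈ Dd D a ∩ Dd D d) (hq : q ∈ Dd D a ∩ Dd D d) (hpq : ¬ Commute p q)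
    (hp' : p' ∈ Dd D a ∩ Dd D d) (hq' : q' ∈ Dd D a ∩ Dd D d) (hpq' : ¬ Commute p' q') :
    ∃ g ∈ Subgroup.closure (Dd D a ∩ Dd D d), g * p * g⁻¹ = p' ∧ g * q * g⁻¹ = q' := by
  obtain ⟨g, hg, rfl⟩ := L.pair_orbit ha hd hac hp hp'
  set x := g * p * g⁻¹ with hx
  set y := g * q * g⁻¹ with hy
  have hyP : y ∈ Dd D a ∩ Dd D d := L.conj_pair (pair_commute hg).1 (pair_commute hg).2 hq
  have hxy : ¬ Commute x y := by rwa [hx, hy, commute_conj_iff]
  obtain ⟨z, hz, hzx, hzy⟩ := S.pair_common L hbound ha hd hac hp' hyP hxy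
  obtain ⟨z', hz', hzx', hzq⟩ := S.pair_common L hbound ha hd hac hp' hq' hpq'
  obtain ⟨h, hh, hhx, hhz⟩ := S.pair_near ha hd hac hp' ⟨hz, Dd_symm hz.1.1 hzx⟩ ⟨hz', Dd_symm hz'.1.1 hzx'⟩
  have hy1 : h * y * h⁻¹ ∈ Dd D a ∩ Dd D d := L.conj_pair (pair_commute hh).1 (pair_commute hh).2 hyP
  have hx1 : h * x * h⁻¹ = x := by rw [hhx.eq, mul_inv_cancel_right]
  have hy2 : ¬ Commute x (h * y * h⁻¹) := by
    rw [← hx1, commute_conj_iff]; exact hxy
  obtain ⟨f, hf, hfx, hfy⟩ := S.pair_far_step PD hmove ha hd hac hp' hy1 hq' hy2 hpq' hz' hzx'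
    (hhz ▸ conj_mem_Dd_conj L.closed h hzy) hzq
  refine ⟨f * h * g, mul_mem (mul_mem hf hh) hg, ?_, ?_⟩
  · calc f * h * g * p * (f * h * g)⁻¹ = f * (h * x * h⁻¹) * f⁻¹ := by rw [hx]; group
      _ = x := by rw [hx1, hfx.eq, mul_inv_cancel_right]
  · rw [← hfy, hy]; group

omit PD in
/-- A member commuting with a pair does not commute with all of the others. -/
theorem pair_noncommute (hbound : m + 1 < μ) {a d x : G} (ha : a ∈ D) (hd : d ∈ D) (hac : ¬ Commute a d)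
    (hx : x ∈ Dd D a ∩ Dd D d) : ∃ y ∈ Dd D a ∩ Dd D d, ¬ Commute x y := by
  by_contra! h
  have hsub : Dd D a ∩ Dd D d ⊆ insert x (Dd D x ∩ (Dd D a ∩ Dd D d)) := fun y hy => by
    by_cases e : y = x
    · exact Or.inl e
    · exact Or.inr ⟨⟨hy.1.1, e, h y hy⟩, hy⟩
  have h' := (Set.ncard_le_ncard hsub (Set.toFinite _)).trans (Set.ncard_insert_le _ _)
  rw [S.inner ha hd hac hx.1 hx.2, L.mu a ha d hd hac] at h'
  omega

omit PD in
/-- The largest number of pairwise commuting members commuting with a pair. -/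
theorem pair_width {n : ℕ}
    (hcl : ∀ {a c : Y}, a ∈ E → c ∈ E → ¬ Commute a c →
      (∀ T : Set Y, T ⊆ Dd E a ∩ Dd E c → (∀ p ∈ T, ∀ q ∈ T, Commute p q) → T.ncard ≤ n) ∧
        ∃ T : Set Y, T ⊆ Dd E a ∩ Dd E c ∧ (∀ p ∈ T, ∀ q ∈ T, Commute p q) ∧ T.ncard = n)
    {a d : G} (ha : a ∈ D) (hd : d ∈ D) (hac : ¬ Commute a d) :
    Cfsg.commutingWidth (Dd D a ∩ Dd D d) = n + 1 := by
  have up : ∀ T : Set G, T ⊆ Dd D a ∩ Dd D d → (∀ p ∈ T, ∀ q ∈ T, Commute p q) → T.ncard ≤ n + 1 := by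
    intro T hT hc
    rcases T.eq_empty_or_nonempty with rfl | ⟨x, hx⟩
    · simp
    obtain ⟨π, M⟩ := S.base x (hT hx).1.1
    have hmem : ∀ p ∈ T \ {x}, p ∈ (Dd D a ∩ Dd D d) ∩ Dd D x := fun p hp =>
      ⟨hT hp.1, (hT hp.1).1.1, hp.2, hc x hx p hp.1⟩
    have h := (hcl (M.mem (Dd_symm ha (hT hx).1)) (M.mem (Dd_symm hd (hT hx).2))
      (S.img_noncommute ha hd (hT hx) hac M)).1 (phi π '' (T \ {x})) ?_ ?_
    · rw [Set.InjOn.ncard_image fun p hp q hq e => M.inj (hmem p hp).2 (hmem q hq).2 e,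
        Set.ncard_sdiff_singleton_of_mem hx] at h
      omega
    · rintro _ ⟨p, hp, rfl⟩; exact S.img_pair ha hd (hT hx) M (hmem p hp)
    · rintro _ ⟨p, hp, rfl⟩ _ ⟨q, hq, rfl⟩
      exact (M.comm (hmem p hp).2 (hmem q hq).2).2 (hc p hp.1 q hq.1)
  obtain ⟨x, hx⟩ := L.exists_pair_common ha hd hac
  obtain ⟨π, M⟩ := S.base x hx.1.1
  have ma := Dd_symm ha hx.1
  have md := Dd_symm hd hx.2
  obtain ⟨T, hT, hTc, hTn⟩ := (hcl (M.mem ma) (M.mem md) (S.img_noncommute ha hd hx hac M)).2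
  set T' := {p | p ∈ Dd D x ∧ phi π p ∈ T} with hT'
  have himg : phi π '' T' = T := by
    ext e
    refine ⟨?_, fun he => ?_⟩
    · rintro ⟨p, hp, rfl⟩; exact hp.2
    · obtain ⟨p, hp, rfl⟩ := M.onto (hT he).1.1
      exact ⟨p, ⟨hp, he⟩, rfl⟩
  have hn : T'.ncard = n := by
    rw [← hTn, ← himg, Set.InjOn.ncard_image fun p hp q hq e => M.inj hp.1 hq.1 e]
  refine le_antisymm (csSup_le ⟨0, ∅, Set.empty_subset _, Set.finite_empty, by simp, by simp⟩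
    fun r ⟨U, hU, _, hUc, e⟩ => e ▸ up U hU hUc) (le_csSup ⟨n + 1, fun r ⟨U, hU, _, hUc, e⟩ => e ▸ up U hU hUc⟩ ?_)
  refine ⟨insert x T', ?_, Set.toFinite _, ?_, ?_⟩
  · refine Set.insert_subset hx fun p hp => ⟨(M.mem_Dd ma hp.1).1 (hT hp.2).1, (M.mem_Dd md hp.1).1 (hT hp.2).2⟩
  · rintro p (rfl | hp) q (rfl | hq)
    exacts [Commute.refl _, hq.1.2.2, hp.1.2.2.symm, (M.comm hp.1 hq.1).1 (hTc _ hp.2 _ hq.2)]
  · rw [Set.ncard_insert_of_notMem (fun h => h.1.2.1 rfl) (Set.toFinite _), hn]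

end Stage

end CfsgLib.ThreeTrans.Tower
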