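import Mathlib
import Cfsg.Agent.Lib.ThreeTrans.Tower.PairTwo

/-! The normaliser of the subgroup of order three generated by two members not commuting. -/

set_option autoImplicit false

namespace CfsgLib.ThreeTrans.Tower

theorem perm_three_ext : ∀ ρ τ : Equiv.Perm (Fin 3), ρ 0 = τ 0 → ρ 1 = τ 1 → ρ = τ := by decide

theorem mem_normalizer_of_zpowers {G : Type*} [Group G] [Finite G] {g u : G}
    (h : g * u * g⁻¹ ∈ Subgroup.zpowers u) :
    g ∈ Subgroup.normalizer ((Subgroup.zpowers u : Subgroup G) : Set G) := by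
  refine Subgroup.mem_normalizer_fintype fun n hn => ?_
  obtain ⟨i, rfl⟩ := Subgroup.mem_zpowers_iff.1 hn
  rw [← conj_zpow]
  exact zpow_mem h i

/-- The normaliser is the product of the symmetric group of the pair and the joint centraliser. -/
theorem pair_normalizer {G : Type*} [Group G] [Finite G] {D : Set G} {N k l m : ℕ}
    (hD : Cfsg.IsThreeTranspositionGroup D) (L : Local D N k l m) (PD : PairLocal D) (a d : G) (ha : a ∈ D)
    (hd : d ∈ D) (hnc : ¬ Commute a d) (X S K : Subgroup G) (hX : X = Subgroup.zpowers (a * d))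
    (hS : S = Subgroup.closure ({a, d} : Set G))
    (hK : K = Subgroup.closure {y : G | y ∈ D ∧ Commute a y ∧ Commute d y ∧ y ≠ a ∧ y ≠ d}) :
    S ⊓ K = ⊥ ∧ (∀ x ∈ S, ∀ y ∈ K, x * y = y * x) ∧ S ⊔ K = Subgroup.normalizer ((X : Subgroup G) : Set G) ∧
      Nonempty (↥S ≃* Equiv.Perm (Fin 3)) ∧ K = Subgroup.centralizer ({a, d} : Set G) ∧
      K = Subgroup.closure (Dd D a ∩ Dd D d) ∧
      D ∩ (Subgroup.centralizer ((X : Subgroup G) : Set G) : Set G) = Dd D a ∩ Dd D d := by
  have hs : Cfsg.IsThreeTranspositionSet D := hD.1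
  set P := Dd D a ∩ Dd D d with hP
  have hKP : K = Subgroup.closure P := by
    rw [hK, hP]; congr 1; ext y
    simp only [Set.mem_inter_iff, Set.mem_setOf_eq, Dd]
    tauto
  have aa := mul_self hs ha
  have dd := mul_self hs hd
  have ai := inv_eq hs ha
  have di := inv_eq hs hd
  have hbr := braid hs ha hd hnc
  have hda : d * a = (a * d)⁻¹ := by rw [mul_inv_rev, ai, di]
  have hC : ∀ g : G, g ∈ K ↔ Commute g a ∧ Commute g d := fun g => by
    rw [hKP]; exact ⟨pair_commute, fun h => PD.stab a ha d hd hnc g h.1 h.2⟩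
  have hSg : ∀ s ∈ S, ∀ y ∈ K, s * y = y * s := by
    intro s hs' y hy
    rw [hS] at hs'
    have h := (hC y).1 hy
    induction hs' using Subgroup.closure_induction with
    | mem z hz => rcases hz with rfl | rfl; exacts [h.1.eq.symm, h.2.eq.symm]
    | one => rw [one_mul, mul_one]
    | mul p q _ _ hp hq => exact Commute.mul_left hp hq
    | inv p _ hp => exact Commute.inv_left hp
  have haS : a ∈ S := hS ▸ Subgroup.subset_closure (by simp)
  have hdS : d ∈ S := hS ▸ Subgroup.subset_closure (by simp)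
  -- the six elements carrying (a, d) to an ordered pair of the three members
  have hsix : ∀ p q : G, (p = a ∨ p = d ∨ p = a * d * a) → (q = a ∨ q = d ∨ q = a * d * a) → p ≠ q →
      ∃ s ∈ S, s * a * s⁻¹ = p ∧ s * d * s⁻¹ = q := by
    have ma := fun x : G => mul_self_mul hs ha (x := x)
    have md := fun x : G => mul_self_mul hs hd (x := x)
    have e1 : d * (a * d) = a * (d * a) := by rw [← mul_assoc, ← hbr, mul_assoc]
    have e2 : ∀ z : G, a * (d * (a * z)) = d * (a * (d * z)) := fun z => by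
      simpa [mul_assoc] using congrArg (· * z) hbr
    have w1 : a * a * a⁻¹ = a ∧ a * d * a⁻¹ = a * d * a := by simp [ai, aa]
    have w2 : d * a * d⁻¹ = a * d * a ∧ d * d * d⁻¹ = d := by simp [di, dd, hbr]
    have w3 : a * d * a * a * (a * d * a)⁻¹ = d ∧ a * d * a * d * (a * d * a)⁻¹ = a := by
      constructor
      · calc a * d * a * a * (a * d * a)⁻¹ = a * d * (a * d * a) := by simp [mul_assoc, ai, di, ma]
          _ = d := by rw [hbr]; simp [mul_assoc, ma, md]
      · calc a * d * a * d * (a * d * a)⁻¹ = a * d * a * (d * a * d) * a := by simp [mul_assoc, ai, di]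
          _ = a := by rw [← hbr]; simp [mul_assoc, ma, md]
    have w4 : a * d * a * (a * d)⁻¹ = d ∧ a * d * d * (a * d)⁻¹ = a * d * a := by
      constructor
      · calc a * d * a * (a * d)⁻¹ = d * a * d * (d * a) := by rw [← hbr, mul_inv_rev, ai, di]
          _ = d := by simp [mul_assoc, md, aa]
      · simp [mul_assoc, ai, di, md]
    have w5 : d * a * a * (d * a)⁻¹ = a * d * a ∧ d * a * d * (d * a)⁻¹ = a := by
      constructor
      · rw [hbr]; simp [mul_assoc, ai, di, ma]
      · calc d * a * d * (d * a)⁻¹ = a * d * a * (a * d) := by rw [hbr, mul_inv_rev, ai, di]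
          _ = a := by simp [mul_assoc, ma, dd]
    intro p q hp hq hne
    rcases hp with hp | hp | hp <;> rcases hq with hq | hq | hq <;>
      first | exact absurd (hp.trans hq.symm) hne | rw [hp, hq]
    exacts [⟨1, one_mem _, by simp, by simp⟩, ⟨a, haS, w1⟩, ⟨_, mul_mem (mul_mem haS hdS) haS, w3⟩,
      ⟨_, mul_mem haS hdS, w4⟩, ⟨_, mul_mem hdS haS, w5⟩, ⟨d, hdS, w2⟩]
  have hnorm : ∀ g, g ∈ Subgroup.normalizer ((X : Subgroup G) : Set G) → g ∈ S ⊔ K := by
    intro g hg
    have hmem := (Subgroup.mem_normalizer_iff.1 hg (a * d)).1 (hX ▸ Subgroup.mem_zpowers _)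
    rw [hX] at hmem
    obtain ⟨i, hi⟩ := Subgroup.mem_zpowers_iff.1 hmem
    have h3u := pow_three_of_not_commute hs ha hd hnc
    have hi' : g * (a * d) * g⁻¹ = a * d ∨ g * (a * d) * g⁻¹ = d * a := by
      rw [← hi, ← Int.emod_add_mul_ediv i 3, zpow_add, zpow_mul, show (a * d) ^ (3 : ℤ) = 1 from mod_cast h3u,
        one_zpow, mul_one]
      have : i % 3 = 0 ∨ i % 3 = 1 ∨ i % 3 = 2 := by omega
      rcases this with e | e | e <;> rw [e]
      · exfalso
        rw [← Int.emod_add_mul_ediv i 3, zpow_add, zpow_mul, show (a * d) ^ (3 : ℤ) = 1 from mod_cast h3u,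
          one_zpow, mul_one, e, zpow_zero] at hi
        have h1 : a * d = 1 := by
          calc a * d = g⁻¹ * (g * (a * d) * g⁻¹) * g := by group
            _ = 1 := by rw [← hi]; group
        refine hnc ?_
        show a * d = d * a
        rw [hda, h1, inv_one]
      · left; exact zpow_one _
      · right
        rw [hda, zpow_two]
        exact eq_inv_of_mul_eq_one_left (by rw [← pow_three', h3u])
    have hpD := hD.2.1 g a ha
    have hqD := hD.2.1 g d hd
    have hpq : g * a * g⁻¹ * (g * d * g⁻¹) = g * (a * d) * g⁻¹ := by group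
    have hqp : g * d * g⁻¹ * (g * a * g⁻¹) = g * (d * a) * g⁻¹ := by group
    have hinv : ∀ r, r = g * a * g⁻¹ ∨ r = g * d * g⁻¹ → r * (a * d) * r = d * a := by
      have h1 : g * a * g⁻¹ * (g * (a * d) * g⁻¹) * (g * a * g⁻¹) = g * (d * a) * g⁻¹ := by
        rw [← hpq, ← hqp, ← mul_assoc (g * a * g⁻¹) (g * a * g⁻¹), mul_self hs hpD, one_mul]
      have h2 : g * d * g⁻¹ * (g * (a * d) * g⁻¹) * (g * d * g⁻¹) = g * (d * a) * g⁻¹ := by
        rw [← hpq, ← hqp, mul_assoc (g * d * g⁻¹), mul_assoc (g * a * g⁻¹), mul_self hs hqD, mul_one]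
      have h3' : g * (d * a) * g⁻¹ = (g * (a * d) * g⁻¹)⁻¹ := by rw [hda, conj_inv]
      have flip : ∀ {r x y : G}, r ∈ D → r * x * r = y → r * y * r = x := fun hr h => by
        rw [← h]; simp [mul_assoc, mul_self hs hr, mul_self_mul hs hr]
      rcases hi' with e | e <;> rw [e] at h1 h2 h3' <;> rw [h3'] at h1 h2
      · rintro r (rfl | rfl) <;> rw [hda] <;> assumption
      · rw [hda, inv_inv] at h1 h2
        rw [hda]
        rintro r (rfl | rfl)
        exacts [flip hpD h1, flip hqD h2]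
    obtain ⟨s, hsS, hsa, hsd⟩ := hsix _ _ (L.invert_cases ha hd hnc hpD (hinv _ (Or.inl rfl)))
      (L.invert_cases ha hd hnc hqD (hinv _ (Or.inr rfl))) fun e =>
        hnc (mul_left_cancel (mul_right_cancel e) ▸ Commute.refl a)
    have hk : s⁻¹ * g ∈ K := (hC _).2 ⟨mul_inv_eq_iff_eq_mul.1 (show s⁻¹ * g * a * (s⁻¹ * g)⁻¹ = a by
        calc s⁻¹ * g * a * (s⁻¹ * g)⁻¹ = s⁻¹ * (g * a * g⁻¹) * s := by group
          _ = a := by rw [← hsa]; group),
      mul_inv_eq_iff_eq_mul.1 (show s⁻¹ * g * d * (s⁻¹ * g)⁻¹ = d by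
        calc s⁻¹ * g * d * (s⁻¹ * g)⁻¹ = s⁻¹ * (g * d * g⁻¹) * s := by group
          _ = d := by rw [← hsd]; group)⟩
    have := Subgroup.mul_mem (S ⊔ K) (Subgroup.mem_sup_left hsS) (Subgroup.mem_sup_right hk)
    rwa [mul_inv_cancel_left] at this
  have hinj : ∀ s ∈ S, s ∈ K → s = 1 := fun s h1 h2 =>
    PD.rigid a ha d hd hnc s ((hC s).1 h2).1 ((hC s).1 h2).2 fun p hp => hSg s h1 p (hKP ▸ Subgroup.subset_closure hp)
  refine ⟨?_, fun x hx y hy => hSg x hx y hy, ?_, ?_, ?_, hKP, ?_⟩
  · rw [eq_bot_iff]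
    exact fun s hs' => hinj s hs'.1 hs'.2
  · refine le_antisymm (sup_le ?_ ?_) hnorm
    · rw [hS, Subgroup.closure_le]
      rintro z (rfl | rfl) <;> rw [hX] <;> refine mem_normalizer_of_zpowers ?_
      · rw [show z * (z * d) * z⁻¹ = (z * d)⁻¹ by simp [mul_inv_rev, ai, di, mul_assoc, mul_self_mul hs ha]]
        exact inv_mem (Subgroup.mem_zpowers _)
      · rw [show z * (a * z) * z⁻¹ = (a * z)⁻¹ by simp [mul_inv_rev, ai, di, mul_assoc, dd]]
        exact inv_mem (Subgroup.mem_zpowers _)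
    · intro k hk
      rw [hX]
      refine mem_normalizer_of_zpowers ?_
      rw [(((hC k).1 hk).1.mul_right ((hC k).1 hk).2).eq, mul_inv_cancel_right]
      exact Subgroup.mem_zpowers _
  · let f : Fin 3 → G := ![a, d, a * d * a]
    have hfne : ∀ i j : Fin 3, f i = f j → i = j := by
      have n1 : a ≠ d := fun e => hnc (e ▸ Commute.refl a)
      have n2 : a ≠ a * d * a := fun e => n1 (by
        have := congrArg (fun z => a * z * a) e
        simpa [mul_assoc, aa, mul_self_mul hs ha] using this)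
      have n3 : d ≠ a * d * a := fun e => hnc (show a * d = d * a by
        conv_rhs => rw [e]
        rw [mul_assoc (a * d) a a, aa, mul_one])
      intro i j
      fin_cases i <;> fin_cases j <;> simp [f, n1, n2, n3, Ne.symm n1, Ne.symm n2, Ne.symm n3]
    have hrange : ∀ x, (x = a ∨ x = d ∨ x = a * d * a) → ∃ i, f i = x := by
      rintro x (rfl | rfl | rfl)
      exacts [⟨0, rfl⟩, ⟨1, rfl⟩, ⟨2, rfl⟩]
    have hperm : ∀ s : S, ∀ i, ∃ j, f j = (s : G) * f i * (s : G)⁻¹ := by
      rintro ⟨s, hs'⟩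
      subst hS
      induction hs' using Subgroup.closure_induction with
      | mem z hz =>
        intro i; apply hrange
        rcases hz with rfl | rfl <;> fin_cases i <;>
          simp [f, ai, di, hbr, mul_assoc, aa, dd, mul_self_mul hs ha, mul_self_mul hs hd]
      | one => intro i; exact ⟨i, by simp⟩
      | mul p q _ _ hp hq =>
        intro i
        obtain ⟨j, hj⟩ := hq i
        obtain ⟨k, hk⟩ := hp j
        exact ⟨k, hk.trans (by rw [hj]; group)⟩
      | inv p _ hp =>
        intro i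
        choose σ hσ using hp
        obtain ⟨j, hj⟩ := Finite.surjective_of_injective (f := σ) (fun x y h => hfne x y (by
          have := (hσ x).symm.trans ((congrArg f h).trans (hσ y))
          exact mul_left_cancel (mul_right_cancel this))) i
        refine ⟨j, ?_⟩
        rw [← hj, hσ]; group
    choose σ hσ using hperm
    have hmul : ∀ s t : S, ∀ i, σ (s * t) i = σ s (σ t i) := fun s t i => hfne _ _ (by
      rw [hσ, hσ, hσ, Subgroup.coe_mul]; group)
    have hone : ∀ i, σ 1 i = i := fun i => hfne _ _ (by rw [hσ]; simp)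
    let e : S →* Equiv.Perm (Fin 3) :=
      { toFun := fun s => ⟨σ s, σ s⁻¹, fun i => by rw [← hmul, inv_mul_cancel, hone],
          fun i => by rw [← hmul, mul_inv_cancel, hone]⟩
        map_one' := Equiv.ext hone
        map_mul' := fun s t => Equiv.ext (hmul s t) }
    refine ⟨MulEquiv.ofBijective e ⟨?_, ?_⟩⟩
    · refine (injective_iff_map_eq_one e).2 fun s h => Subtype.ext (hinj _ s.2 ((hC _).2 ⟨?_, ?_⟩))
      · have := hσ s 0
        rw [show σ s 0 = 0 from Equiv.congr_fun h 0] at this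
        exact mul_inv_eq_iff_eq_mul.1 this.symm
      · have := hσ s 1
        rw [show σ s 1 = 1 from Equiv.congr_fun h 1] at this
        exact mul_inv_eq_iff_eq_mul.1 this.symm
    · intro τ
      have hcases : ∀ i, f i = a ∨ f i = d ∨ f i = a * d * a := fun i => by fin_cases i <;> simp [f]
      obtain ⟨s, hs', h0, h1⟩ := hsix _ _ (hcases (τ 0)) (hcases (τ 1)) fun e =>
        absurd (τ.injective (hfne _ _ e)) (by decide)
      refine ⟨⟨s, hs'⟩, Equiv.ext fun i => ?_⟩
      have e0 : e ⟨s, hs'⟩ 0 = τ 0 := hfne _ _ ((hσ _ 0).trans h0)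
      have e1 : e ⟨s, hs'⟩ 1 = τ 1 := hfne _ _ ((hσ _ 1).trans h1)
      exact Equiv.congr_fun (perm_three_ext _ _ e0 e1) i
  · ext g
    rw [hC, Subgroup.mem_centralizer_iff]
    constructor
    · rintro ⟨h1, h2⟩ x (rfl | rfl)
      exacts [h1.eq.symm, h2.eq.symm]
    · intro h
      exact ⟨(h a (by simp)).symm, (h d (by simp)).symm⟩
  · ext y
    rw [hP, ← L.centralize_iff ha hd hnc, Set.mem_inter_iff, SetLike.mem_coe, hX, Subgroup.zpowers_eq_closure,
      Subgroup.centralizer_closure, Subgroup.mem_centralizer_singleton_iff]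
    rfl

end CfsgLib.ThreeTrans.Tower
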