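import Mathlib
import Cfsg.Agent.Lib.ThreeTrans.Tower.PairNormalizer
import Cfsg.Agent.Lib.ThreeTrans.TypeTop.Width

/-! The joint centraliser of two members not commuting in the types M(23) and M(24). -/

set_option autoImplicit false

namespace CfsgLib.ThreeTrans.Tower

variable {G : Type*} [Group G] {D : Set G}

/-- At most `n` pairwise commuting members commute with a non-commuting pair, and `n` occur. -/
def HasPairWidth (D : Set G) (n : ℕ) : Prop :=
  ∀ {a c : G}, a ∈ D → c ∈ D → ¬ Commute a c →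
    (∀ T : Set G, T ⊆ Dd D a ∩ Dd D c → (∀ p ∈ T, ∀ q ∈ T, Commute p q) → T.ncard ≤ n) ∧
      ∃ T : Set G, T ⊆ Dd D a ∩ Dd D c ∧ (∀ p ∈ T, ∀ q ∈ T, Commute p q) ∧ T.ncard = n

variable [Finite G]

/-- One step up. -/
theorem pairWidth_step {Y : Type*} [Group Y] [Finite Y] {E : Set Y} {N k l m v n' k' μ : ℕ} (S : Stage D E N k l m)
    (L : Local D v n' k' μ) {n : ℕ} (hcl : HasPairWidth E n) : HasPairWidth D (n + 1) := by
  intro a d ha hd hac
  have up : ∀ T : Set G, T ⊆ Dd D a ∩ Dd D d → (∀ p ∈ T, ∀ q ∈ T, Commute p q) → T.ncard ≤ n + 1 := by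
    intro T hT hc
    rcases T.eq_empty_or_nonempty with rfl | ⟨x, hx⟩
    · simp
    obtain ⟨π, M⟩ := S.base x (hT hx).1.1
    have hmem : ∀ p ∈ T \ {x}, p ∈ (Dd D a ∩ Dd D d) ∩ Dd D x := fun p hp =>
      ⟨hT hp.1, (hT hp.1).1.1, hp.2, hc x hx p hp.1⟩
    have h := (hcl (M.mem (Dd_symm ha (hT hx).1)) (M.mem (Dd_symm hd (hT hx).2))
      (S.img_noncommute ha hd (hT hx) hac M)).1 (phi π '' (T \ {x})) ?_ ?_
    · rw [Set.InjOn.ncard_image fun p hp q hq e => M.inj (hmem p hp).2 (hmem q hq).2 e,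
        Set.ncard_sdiff_singleton_of_mem hx] at h
      omega
    · rintro _ ⟨p, hp, rfl⟩; exact S.img_pair ha hd (hT hx) M (hmem p hp)
    · rintro _ ⟨p, hp, rfl⟩ _ ⟨q, hq, rfl⟩
      exact (M.comm (hmem p hp).2 (hmem q hq).2).2 (hc p hp.1 q hq.1)
  obtain ⟨x, hx⟩ := L.exists_pair_common ha hd hac
  obtain ⟨π, M⟩ := S.base x hx.1.1
  have ma := Dd_symm ha hx.1
  have md := Dd_symm hd hx.2
  obtain ⟨T, hT, hTc, hTn⟩ := (hcl (M.mem ma) (M.mem md) (S.img_noncommute ha hd hx hac M)).2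
  set T' := {p | p ∈ Dd D x ∧ phi π p ∈ T} with hT'
  have himg : phi π '' T' = T := by
    ext e
    refine ⟨?_, fun he => ?_⟩
    · rintro ⟨p, hp, rfl⟩; exact hp.2
    · obtain ⟨p, hp, rfl⟩ := M.onto (hT he).1.1
      exact ⟨p, ⟨hp, he⟩, rfl⟩
  have hn : T'.ncard = n := by
    rw [← hTn, ← himg, Set.InjOn.ncard_image fun p hp q hq e => M.inj hp.1 hq.1 e]
  refine ⟨up, ?_⟩
  refine ⟨insert x T', ?_, ?_, ?_⟩
  · refine Set.insert_subset hx fun p hp => ⟨(M.mem_Dd ma hp.1).1 (hT hp.2).1, (M.mem_Dd md hp.1).1 (hT hp.2).2⟩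
  · rintro p (rfl | hp) q (rfl | hq)
    exacts [Commute.refl _, hq.1.2.2, hp.1.2.2.symm, (M.comm hp.1 hq.1).1 (hTc _ hp.2 _ hq.2)]
  · rw [Set.ncard_insert_of_notMem (fun h => h.1.2.1 rfl) (Set.toFinite _), hn]

/-- The width of the members commuting with a pair, as a number. -/
theorem HasPairWidth.commutingWidth {n : ℕ} (h : HasPairWidth D n) {a c : G} (ha : a ∈ D) (hc : c ∈ D)
    (hac : ¬ Commute a c) : Cfsg.commutingWidth (Dd D a ∩ Dd D c) = n :=
  TypeTop.commutingWidth_eq (h ha hc hac)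

/-- Type M(22). -/
theorem pairWidth22 (hD : Cfsg.IsThreeTranspositionGroup D) (hprim : Cfsg.IsPrimitiveUnderConj D)
    (h : Cfsg.IsOfTypeM22 G D) : HasPairWidth D 6 := by
  obtain ⟨d, c, F, _, _, π, hB, hc, hdc, hloc, -, hF⟩ := bottom22 hD h
  have S := stage_of_base hD hprim h.1 hloc hB rfl
  have T : USix.TClass (imgSet D d π) := ⟨hloc.group.1, hloc.group.2.1, hloc.rigid.nonabelian.imp fun _ h => h.1⟩
  intro a c ha hc hac
  exact pairWidth_step S (local22 hD hprim h) (fun ha hc hac => T.pair_clique hF ha hc hac) ha hc hac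

/-- Type M(23). -/
theorem pairTop23 (hD : Cfsg.IsThreeTranspositionGroup D) (hprim : Cfsg.IsPrimitiveUnderConj D)
    (h : Cfsg.IsOfTypeM23 G D) : PairLocal D ∧ HasPairWidth D 7 := by
  obtain ⟨d, c, hc, hdc, hB, h22, -⟩ := bottom23 hD h
  have hp := prim22 hD hprim hB h22
  have S := stage_of_base hD hprim h.1 (local22 hB.img_group hp h22) hB rfl
  exact ⟨S.toPairLocal (local23 hD hprim h) (pair22 hB.img_group hp h22),
    pairWidth_step S (local23 hD hprim h) (pairWidth22 hB.img_group hp h22)⟩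

/-- Type M(24). -/
theorem pairTop24 (hD : Cfsg.IsThreeTranspositionGroup D) (hprim : Cfsg.IsPrimitiveUnderConj D)
    (h : Cfsg.IsOfTypeM24 G D) : PairLocal D ∧ HasPairWidth D 8 := by
  obtain ⟨d, c, hc, hdc, hB, h23⟩ := bottom24 hD hprim h
  have hp := prim23 hD hprim hB h23
  have S := stage_of_base hD hprim h.1 (local23 hB.img_group hp h23) hB rfl
  exact ⟨S.toPairLocal (local24 hD hprim h) (pairTop23 hB.img_group hp h23).1,
    pairWidth_step S (local24 hD hprim h) (pairTop23 hB.img_group hp h23).2⟩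

end CfsgLib.ThreeTrans.Tower
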