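import Mathlib
import Cfsg.Agent.Lib.ThreeTrans.Tower.Types

/-! Six commuting members with product one avoiding a given member, and products of two commuting members. -/

set_option autoImplicit false

namespace CfsgLib.ThreeTrans.Tower

/-- In type M(22): six members commuting with `e` and with each other, with product one. -/
theorem exists_six_perp {G : Type*} [Group G] [Finite G] {D : Set G} {Y : Type*} [Group Y] {E : Set Y}
    {N k l m : ℕ} (S : Stage D E N k l m) (hl : 3 < l) (hk : 0 < k) {p₀ : G} {π₀ : Hd D p₀ →* Y}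
    (hB : IsBase D p₀ π₀) (hE : LineClass (imgSet D p₀ π₀)) {e : G} (he : e ∈ D) :
    ∃ L : List G, L.length = 6 ∧ L.Nodup ∧ (∀ x ∈ L, x ∈ Dd D e) ∧ (∀ x ∈ L, ∀ y ∈ L, Commute x y) ∧
      L.prod = 1 := by
  classical
  have hcls := S.prim.1
  have hNT := S.twins
  have hconn := S.classTwo.connected_of_primitive S.prim S.width
  obtain ⟨a, ha⟩ : (Dd D e).Nonempty := by
    refine Set.nonempty_of_ncard_ne_zero ?_
    rw [S.deg he]
    obtain ⟨π, M⟩ := S.base e he
    obtain ⟨x, hx, -⟩ := S.loc.rigid.nonabelian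
    have := Set.ncard_pos (Set.toFinite (Dd D e))
    rw [M.card] at this
    have hE' : E.Finite := by
      refine (Set.toFinite (phi π '' Dd D e)).subset fun y hy => ?_
      obtain ⟨z, hz, rfl⟩ := M.onto hy
      exact ⟨z, hz, rfl⟩
    exact S.loc.card ▸ ((Set.ncard_pos hE').2 ⟨x, hx⟩).ne'
  obtain ⟨b, hb⟩ : (Dd D e ∩ Dd D a).Nonempty :=
    Set.nonempty_of_ncard_ne_zero (by rw [S.lam he ha]; omega)
  have hea := Dd_symm he ha
  have hea' := Dd_symm he hb.1
  obtain ⟨p, q, r, hL, -⟩ := hB.six_exists hcls hNT hE S.center hconn ha.1 hb.1.1 he (Ne.symm hb.2.2.1)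
    (Ne.symm hea.2.1) (Ne.symm hea'.2.1) hb.2.2.2 hea.2.2 hea'.2.2
  obtain ⟨πa, M⟩ := S.base a ha.1
  have hc51 : (Dd D a ∩ (Dd D e ∩ Dd D b)).ncard = l := by
    rw [M.card_two hea hb.2]
    exact S.loc.lam _ (M.mem hea) _ ((M.mem_Dd hea hb.2).2 hb.1)
  obtain ⟨c, ⟨hca, hce, hcb⟩, hc⟩ := Set.exists_mem_notMem_of_ncard_lt_ncard
    (s := {x | x ∈ [p, q, r]}) (t := Dd D a ∩ (Dd D e ∩ Dd D b)) (by
      rw [hc51]
      have : {x | x ∈ [p, q, r]} = (↑([p, q, r].toFinset) : Set G) := by ext; simp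
      rw [this, Set.ncard_coe_finset]
      exact lt_of_le_of_lt ([p, q, r].toFinset_card_le) hl)
  obtain ⟨f, g, h, hL', hprod⟩ := hB.six_exists hcls hNT hE S.center hconn ha.1 hb.1.1 hca.1 (Ne.symm hb.2.2.1)
    (Ne.symm hca.2.1) (Ne.symm hcb.2.1) hb.2.2.2 hca.2.2 hcb.2.2
  obtain ⟨πa', hBa, hEa⟩ := hB.exists_base hcls ha.1
  have h5 := hBa.five_lift hcls hNT (hEa.symm ▸ hE) hL'.nodup rfl hL'.mem hL'.comm (fun y hy => by
    simpa [mul_assoc] using hL'.cen y hy)
  have hbc : b ≠ c := Ne.symm hcb.2.1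
  have hne : ∀ x ∈ [b, c, f, g, h], x ≠ e := by
    intro x hx hxe
    subst hxe
    refine hc ?_
    have h1 := hL.sep c hca hcb.2.2.symm hce.2.2.symm fun y hy hyb hyx =>
      (h5 b (by simp) x hx (Ne.symm hea'.2.1) c (by simp) y hy hyb hyx).symm
    simp only [List.mem_cons, List.not_mem_nil, or_false, Set.mem_setOf_eq] at h1 ⊢
    rcases h1 with h1 | h1 | h1
    · exact absurd h1 hcb.2.1
    · exact absurd h1 hce.2.1
    · exact h1
  refine ⟨[a, b, c, f, g, h], rfl, List.nodup_cons.2 ⟨fun hh => (hL'.mem a hh).2.1 rfl, hL'.nodup⟩, ?_, ?_, ?_⟩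
  · intro x hx
    rcases List.mem_cons.1 hx with rfl | hx
    · exact ha
    · exact ⟨(hL'.mem x hx).1, hne x hx,
        h5 b (by simp) c (by simp) hbc x hx e hea hea'.2.2.symm
          hce.2.2⟩
  · intro x hx y hy
    rcases List.mem_cons.1 hx with h₁ | hx' <;> rcases List.mem_cons.1 hy with h₂ | hy'
    exacts [h₁ ▸ h₂ ▸ Commute.refl a, h₁ ▸ (hL'.mem y hy').2.2, h₂ ▸ (hL'.mem x hx').2.2.symm, hL'.comm x hx' y hy']
  · simpa [mul_assoc] using hprod

variable {G : Type*} [Group G] {D : Set G}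

/-- A product of two commuting members determines them, in the absence of relations among four. -/
theorem pair_unique (hs : Cfsg.IsThreeTranspositionSet D) (h4 : NoRel D 4) {a b p q : G} (ha : a ∈ D) (hb : b ∈ D)
    (hab : a ≠ b) (cab : Commute a b) (hp : p ∈ D) (hq : q ∈ D) (hpq : Commute p q) (h : p * q = a * b) :
    p = a ∧ q = b ∨ p = b ∧ q = a := by
  have aa := mul_self hs ha
  have bb := mul_self hs hb
  have ab1 : a * b ≠ 1 := fun e => hab ((mul_eq_one_iff_eq' hs hb).1 e)
  by_cases hpa : p = a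
  · subst hpa; exact Or.inl ⟨rfl, mul_left_cancel h⟩
  by_cases hpb : p = b
  · subst hpb; exact Or.inr ⟨rfl, mul_left_cancel (h.trans cab.eq)⟩
  exfalso
  have hqa : q ≠ a := fun e => hpb (by
    subst e; exact mul_right_cancel (h.trans cab.eq))
  have hqb : q ≠ b := fun e => hpa (by
    subst e; exact mul_right_cancel h)
  have hpq' : p ≠ q := fun e => ab1 (by rw [← h, ← e, mul_self hs hp])
  -- a member commuting with the product commutes with both factors
  have key : ∀ r ∈ D, Commute r (a * b) → Commute r a ∧ Commute r b := by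
    intro r hr hc
    have hb' : Commute r a → Commute r b := fun h' => by
      have := h'.inv_right.mul_right hc
      rwa [inv_mul_cancel_left] at this
    have ha' : Commute r b → Commute r a := fun h' => by
      have := hc.mul_right h'.inv_right
      rwa [mul_inv_cancel_right] at this
    by_cases h' : Commute r a
    · exact ⟨h', hb' h'⟩
    exfalso
    have h'' : ¬ Commute r b := fun k => h' (ha' k)
    have e : a * r * a * (b * r * b) = a * b := by
      rw [← braid hs hr ha h', ← braid hs hr hb h'']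
      calc r * a * r * (r * b * r) = r * (a * b) * r := by simp [mul_assoc, mul_self_mul hs hr]
        _ = a * b := by rw [hc.eq, mul_assoc, mul_self hs hr, mul_one]
    refine ab1 ?_
    calc a * b = r * r * (a * b) := by rw [mul_self hs hr, one_mul]
      _ = r * (a * b) * r := by
        conv_lhs => rw [mul_assoc r r, hc.eq, ← mul_assoc r (a * b) r]
      _ = a * (a * r * a * (b * r * b)) * b := by simp [mul_assoc, aa, bb, mul_self_mul hs ha]
      _ = a * (a * b) * b := by rw [e]
      _ = 1 := by simp [mul_assoc, bb, mul_self_mul hs ha]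
  have cp := key p hp (h ▸ (Commute.refl p).mul_right hpq)
  have cq := key q hq (h ▸ hpq.symm.mul_right (Commute.refl q))
  refine h4 [p, q, a, b] (by simp [hpq', hpa, hpb, hqa, hqb, hab]) rfl (by simp [hp, hq, ha, hb]) ?_ ?_
  · simp [hpq, hpq.symm, cp.1, cp.2, cq.1, cq.2, cp.1.symm, cp.2.symm, cq.1.symm, cq.2.symm, cab, cab.symm]
  · simp only [List.prod_cons, List.prod_nil, mul_one]
    rw [← mul_assoc, h, ← mul_assoc, mul_assoc a b a, ← cab.eq, ← mul_assoc, aa, one_mul, bb]

end CfsgLib.ThreeTrans.Tower
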