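import Mathlib
import Cfsg.Agent.Lib.ThreeTrans.Tower.UnitaryLocal

/-! The line through two commuting transvections of `PSU(6,2)` and the action of elements fixing or exchanging them. -/

set_option autoImplicit false
set_option linter.unusedSectionVars false

namespace CfsgLib.ThreeTrans.USix

open Matrix CfsgLib.ClassicalGroups
open CfsgLib.ThreeTrans.Tower (Dd_symm)

variable {F : Type*} [Field F] [Fintype F]

local notation "V" => Fin 6 → F
local notation "𝕙" => Cfsg.hermForm 6 F 2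
local notation "SU₆" => Cfsg.SU 6 F 2
local notation "PSU₆" => Cfsg.PSU 6 F 2

variable (hF : Fintype.card F = 2 ^ 2)
include hF

/-- An element multiplying two independent orthogonal isotropic vectors by `w` and `w ^ 2`. -/
theorem exists_torus {a b : V} {w : F} (hw : w ≠ 0) (ha : 𝕙 a a = 0) (hb : 𝕙 b b = 0) (hab : 𝕙 a b = 0)
    (hli : LinearIndependent F ![a, b]) : ∃ s : SU₆, s.1.1 *ᵥ a = w • a ∧ s.1.1 *ᵥ b = w ^ 2 • b := by
  have hw3 := cube_eq_one hF hw
  have hg0 : ∀ i j : Fin 2, 𝕙 (![a, b] i) (![a, b] j) = 0 := by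
    intro i j
    fin_cases i <;> fin_cases j <;> simp [ha, hb, hab, herm_zero_symm hF hab]
  obtain ⟨g, hg⟩ := exists_GU_family hF ![stdP 0, stdP 1] ![a, b] li_stdP_two hli fun i j => by
    rw [hg0]
    fin_cases i <;> fin_cases j <;> simp [stdP_gram hF]
  let L : V →ₗ[F] V :=
    { toFun := fun x => ![w, w, w ^ 2, w ^ 2, 1, 1] * x
      map_add' := fun x y => mul_add _ _ _
      map_smul' := fun c x => mul_smul_comm _ _ _ }
  obtain ⟨T, hT⟩ := exists_GU_of_preserving hF L (fun x y => by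
    show 𝕙 (![w, w, w ^ 2, w ^ 2, 1, 1] * x) (![w, w, w ^ 2, w ^ 2, 1, 1] * y) = 𝕙 x y
    simp [herm_six]
    linear_combination (x 0 * y 0 ^ 2 + x 1 * y 1 ^ 2) * hw3 +
      (x 2 * y 2 ^ 2 + x 3 * y 3 ^ 2) * (w ^ 3 + 1) * hw3)
  have hTd : T.1.val.det = 1 := by
    have : T.1.val = Matrix.diagonal ![w, w, w ^ 2, w ^ 2, 1, 1] := Matrix.ext_of_mulVec_single fun i => by
      rw [hT]; funext j; simp [L, Matrix.diagonal_apply, Pi.single_apply]; aesop
    rw [this, Matrix.det_diagonal]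
    simp [Fin.prod_univ_six]
    linear_combination (w ^ 3 + 1) * hw3
  obtain ⟨s, hs⟩ := exists_SU_of_GU (g * T * g⁻¹) (by
    have h1 : g.1.val * g⁻¹.1.val = 1 := by
      rw [← Units.val_mul, ← Subgroup.coe_mul, mul_inv_cancel]; rfl
    have h2 := congrArg Matrix.det h1
    rw [Matrix.det_mul, Matrix.det_one] at h2
    show (g.1.val * T.1.val * g⁻¹.1.val).det = 1
    rw [Matrix.det_mul, Matrix.det_mul, hTd, mul_one, h2])
  have key : ∀ x, s.1.1 *ᵥ (g.1.val *ᵥ x) = g.1.val *ᵥ L x := fun x => by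
    rw [hs, GU_mul_mulVec, GU_mul_mulVec, ← GU_mul_mulVec g⁻¹ g, inv_mul_cancel, GU_one_mulVec, hT]
  have g0 : g.1.val *ᵥ stdP 0 = a := hg 0
  have g1 : g.1.val *ᵥ stdP 1 = b := hg 1
  refine ⟨s, ?_, ?_⟩
  · rw [← g0, key, ← Matrix.mulVec_smul]
    congr 1
    funext i; fin_cases i <;> simp [L, stdP]
  · rw [← g1, key, ← Matrix.mulVec_smul]
    congr 1
    funext i; fin_cases i <;> simp [L, stdP]

namespace TClass

variable {E : Set (Cfsg.PSU 6 F 2)} (hE : TClass E)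
include hE

/-- The members of the line through `p`, `q` other than these two. -/
def restLine (E : Set (Cfsg.PSU 6 F 2)) (p q : PSU₆) : Set PSU₆ :=
  {x | x ∈ E ∧ x ≠ p ∧ x ≠ q ∧ ∀ z ∈ E, Commute z p → Commute z q → Commute x z}

theorem mem_restLine {a b : V} {A B : SU₆} (hA : IsTvAt a A) (hB : IsTvAt b B)
    (hq : (QuotientGroup.mk B : PSU₆) ∈ Dd E (QuotientGroup.mk A)) {x : PSU₆} :
    x ∈ restLine E (QuotientGroup.mk A) (QuotientGroup.mk B) ↔
      ∃ (ξ : F) (X : SU₆), ξ ≠ 0 ∧ IsTvAt (a + ξ • b) X ∧ (QuotientGroup.mk X : PSU₆) = x := by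
  obtain ⟨hba, hns⟩ := (hE.mem_Dd_iff hF hA hB).1 hq
  have hab := herm_zero_symm hF hba
  have hli : LinearIndependent F ![a, b] := li_pair_of_ne hA.1 hns
  have cA : Commute (QuotientGroup.mk A : PSU₆) (QuotientGroup.mk B) := hq.2.2
  constructor
  · rintro ⟨hx, hxp, hxq, hall⟩
    obtain ⟨v, X, hX, rfl⟩ := hE.rep hF hx
    have hva : 𝕙 v a = 0 := (commute_mk_iff hF hX hA).1 (hall _ (hE.hall hF hA) (Commute.refl _) cA)
    have hvb : 𝕙 v b = 0 := (commute_mk_iff hF hX hB).1 (hall _ (hE.hall hF hB) cA.symm (Commute.refl _))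
    obtain ⟨s, t, hv⟩ : ∃ s t : F, v = s • a + t • b := by
      by_contra hn
      push Not at hn
      have hli3 : LinearIndependent F ![a, b, v] := li_triple hli hn
      obtain ⟨z, hz0, hzz, hza, hzb, hzv⟩ := exists_sep_three hF hli3 hA.2.1 hB.2.1 hX.2.1 hab
        (herm_zero_symm hF hva) (herm_zero_symm hF hvb)
      obtain ⟨Z, hZ⟩ := exists_tvAt hF hz0 hzz
      exact hzv (herm_zero_symm hF ((commute_mk_iff hF hX hZ).1 (hall _ (hE.hall hF hZ)
        ((commute_mk_iff hF hZ hA).2 hza) ((commute_mk_iff hF hZ hB).2 hzb))))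
    have hs : s ≠ 0 := fun h => hxq (by
      rw [h, zero_smul, zero_add] at hv
      exact ((hE.mk_eq_iff hF hB hX).2 ⟨t, fun e => hX.1 (by rw [hv, e, zero_smul]), hv⟩).symm)
    have ht : t ≠ 0 := fun h => hxp (by
      rw [h, zero_smul, add_zero] at hv
      exact ((hE.mk_eq_iff hF hA hX).2 ⟨s, hs, hv⟩).symm)
    refine ⟨t / s, X, div_ne_zero ht hs, ?_, rfl⟩
    have := hX.scale hF (inv_ne_zero hs)
    rwa [hv, smul_add, smul_smul, smul_smul, inv_mul_cancel₀ hs, one_smul, inv_mul_eq_div] at this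
  · rintro ⟨ξ, X, hξ, hX, rfl⟩
    refine ⟨hE.hall hF hX, fun e => ?_, fun e => ?_, fun z hz za zb => ?_⟩
    · obtain ⟨c, -, hc⟩ := (hE.mk_eq_iff hF hA hX).1 e.symm
      exact hξ (LinearIndependent.pair_iff.1 hli (1 - c) ξ (by rw [sub_smul, one_smul, ← hc]; abel)).2
    · obtain ⟨c, -, hc⟩ := (hE.mk_eq_iff hF hB hX).1 e.symm
      exact one_ne_zero (LinearIndependent.pair_iff.1 hli 1 (ξ - c) (by rw [sub_smul, one_smul, ← hc]; abel)).1
    · obtain ⟨u, U, hU, rfl⟩ := hE.rep hF hz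
      refine ((commute_mk_iff hF hU hX).2 ?_).symm
      rw [hermForm_add_right hF, hermForm_smul_right, (commute_mk_iff hF hU hA).1 za,
        (commute_mk_iff hF hU hB).1 zb, mul_zero, add_zero]

/-- The three further members of a line; an element fixing two members and permuting them cyclically. -/
theorem exists_cycle {p q : PSU₆} (hp : p ∈ E) (hq : q ∈ Dd E p) :
    ∃ (t r₁ r₂ r₃ : PSU₆), Commute t p ∧ Commute t q ∧ r₁ ≠ r₂ ∧ r₂ ≠ r₃ ∧ r₁ ≠ r₃ ∧
      restLine E p q = {r₁, r₂, r₃} ∧ t * r₁ * t⁻¹ = r₂ ∧ t * r₂ * t⁻¹ = r₃ ∧ t * r₃ * t⁻¹ = r₁ := by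
  obtain ⟨a, A, hA, rfl⟩ := hE.rep hF hp
  obtain ⟨b, B, hB, rfl⟩ := hE.rep hF hq.1
  obtain ⟨hba, hns⟩ := (hE.mem_Dd_iff hF hA hB).1 hq
  have hab := herm_zero_symm hF hba
  have hli : LinearIndependent F ![a, b] := li_pair_of_ne hA.1 hns
  obtain ⟨w, hw0, hw1, hw⟩ := exists_omega hF
  have hw3 := cube_eq_one hF hw0
  have hw20 : w ^ 2 ≠ 0 := pow_ne_zero 2 hw0
  obtain ⟨s, hsa, hsb⟩ := exists_torus hF hw0 hA.2.1 hB.2.1 hab hli
  have pt : ∀ ξ : F, ∃ X : SU₆, IsTvAt (a + ξ • b) X := fun ξ => exists_tvAt hF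
    (fun h => one_ne_zero (LinearIndependent.pair_iff.1 hli 1 ξ (by rw [one_smul, h])).1) (by
      rw [hermForm_add_left, hermForm_add_right hF, hermForm_add_right hF, hermForm_smul_left,
        hermForm_smul_left, hermForm_smul_right, hermForm_smul_right, hA.2.1, hB.2.1, hab, hba]
      ring)
  choose X hX using pt
  have inj : ∀ ξ η : F, (QuotientGroup.mk (X ξ) : PSU₆) = QuotientGroup.mk (X η) → ξ = η := fun ξ η e => by
    obtain ⟨c, -, hc⟩ := (hE.mk_eq_iff hF (hX ξ) (hX η)).1 e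
    have h := LinearIndependent.pair_iff.1 hli (1 - c) (η - c * ξ) (by
      rw [sub_smul, one_smul, sub_smul, mul_smul]
      linear_combination (norm := module) hc)
    have hc1 : c = 1 := (sub_eq_zero.1 h.1).symm
    have := sub_eq_zero.1 h.2
    rw [hc1, one_mul] at this
    exact this.symm
  have step : ∀ ξ η : F, η = w * ξ →
      (QuotientGroup.mk s : PSU₆) * QuotientGroup.mk (X ξ) * (QuotientGroup.mk s)⁻¹ = QuotientGroup.mk (X η) := by
    intro ξ η e
    refine hE.conj_mk hF (hX ξ) (hX η) hw0 ?_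
    rw [Matrix.mulVec_add, Matrix.mulVec_smul, hsa, hsb, smul_add, smul_smul, smul_smul, e]
    congr 2
    ring
  have fixA : (QuotientGroup.mk s : PSU₆) * QuotientGroup.mk A * (QuotientGroup.mk s)⁻¹ = QuotientGroup.mk A :=
    hE.conj_mk hF hA hA hw0 hsa
  have fixB : (QuotientGroup.mk s : PSU₆) * QuotientGroup.mk B * (QuotientGroup.mk s)⁻¹ = QuotientGroup.mk B :=
    hE.conj_mk hF hB hB hw20 hsb
  refine ⟨QuotientGroup.mk s, QuotientGroup.mk (X 1), QuotientGroup.mk (X w), QuotientGroup.mk (X (w ^ 2)),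
    mul_inv_eq_iff_eq_mul.1 fixA, mul_inv_eq_iff_eq_mul.1 fixB, fun e => hw1 (inj _ _ e).symm,
    fun e => hw1 ?_, fun e => hw1 ?_, ?_, step _ _ (mul_one w).symm, step _ _ (sq w), step _ _ ?_⟩
  · have := inj _ _ e
    exact mul_left_cancel₀ hw0 (by linear_combination -this)
  · have := inj _ _ e
    linear_combination hw3 + w * this
  · ext x
    rw [hE.mem_restLine hF hA hB hq]
    constructor
    · rintro ⟨ξ, Y, hξ, hY, rfl⟩
      have hcases : ξ = 1 ∨ ξ = w ∨ ξ = w ^ 2 := by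
        have h : (ξ - 1) * (ξ - w) * (ξ - w ^ 2) = 0 := by
          linear_combination cube_eq_one hF hξ - hw3 + (-ξ ^ 2 + ξ * w) * hw
        rcases mul_eq_zero.1 h with h | h
        · rcases mul_eq_zero.1 h with h | h
          exacts [Or.inl (sub_eq_zero.1 h), Or.inr (Or.inl (sub_eq_zero.1 h))]
        · exact Or.inr (Or.inr (sub_eq_zero.1 h))
      rw [hY.unique hF (hX ξ)]
      rcases hcases with rfl | rfl | rfl <;> simp
    · rintro (rfl | rfl | rfl)
      exacts [⟨1, _, one_ne_zero, hX 1, rfl⟩, ⟨w, _, hw0, hX w, rfl⟩, ⟨w ^ 2, _, hw20, hX _, rfl⟩]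
  · linear_combination -hw3

/-- An element exchanging two commuting members acts on the rest of their line as an involution. -/
theorem swap_line {p q g : PSU₆} (hp : p ∈ E) (hq : q ∈ Dd E p) (h₁ : g * p * g⁻¹ = q) (h₂ : g * q * g⁻¹ = p) :
    (∀ x ∈ restLine E p q, g * x * g⁻¹ ∈ restLine E p q ∧ g * (g * x * g⁻¹) * g⁻¹ = x) ∧
      ∃ x ∈ restLine E p q, g * x * g⁻¹ ≠ x := by
  obtain ⟨a, A, hA, rfl⟩ := hE.rep hF hp
  obtain ⟨b, B, hB, rfl⟩ := hE.rep hF hq.1
  obtain ⟨hba, hns⟩ := (hE.mem_Dd_iff hF hA hB).1 hq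
  have hab := herm_zero_symm hF hba
  have hli : LinearIndependent F ![a, b] := li_pair_of_ne hA.1 hns
  obtain ⟨s, rfl⟩ := QuotientGroup.mk_surjective g
  have line : ∀ {u v : V} {U W : SU₆}, IsTvAt u U → IsTvAt v W →
      (QuotientGroup.mk s : PSU₆) * QuotientGroup.mk U * (QuotientGroup.mk s)⁻¹ = QuotientGroup.mk W →
      ∃ c : F, c ≠ 0 ∧ s.1.1 *ᵥ u = c • v := by
    intro u v U W hU hW h
    have hU' := hU.conj hF s
    rw [← QuotientGroup.mk_mul, ← QuotientGroup.mk_inv, ← QuotientGroup.mk_mul] at h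
    exact (hE.mk_eq_iff hF hW hU').1 h.symm
  obtain ⟨α, hα, hsa⟩ := line hA hB h₁
  obtain ⟨β, hβ, hsb⟩ := line hB hA h₂
  have img : ∀ ξ : F, ξ ≠ 0 → ∀ {X Y : SU₆}, IsTvAt (a + ξ • b) X → IsTvAt (a + (α / (ξ * β)) • b) Y →
      (QuotientGroup.mk s : PSU₆) * QuotientGroup.mk X * (QuotientGroup.mk s)⁻¹ = QuotientGroup.mk Y := by
    intro ξ hξ X Y hX hY
    refine hE.conj_mk hF hX hY (mul_ne_zero hξ hβ) ?_
    rw [Matrix.mulVec_add, Matrix.mulVec_smul, hsa, hsb, smul_add, smul_smul, smul_smul,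
      mul_div_cancel₀ _ (mul_ne_zero hξ hβ)]
    abel
  have pt : ∀ ξ : F, ∃ X : SU₆, IsTvAt (a + ξ • b) X := fun ξ => exists_tvAt hF
    (fun h => one_ne_zero (LinearIndependent.pair_iff.1 hli 1 ξ (by rw [one_smul, h])).1) (by
      rw [hermForm_add_left, hermForm_add_right hF, hermForm_add_right hF, hermForm_smul_left,
        hermForm_smul_left, hermForm_smul_right, hermForm_smul_right, hA.2.1, hB.2.1, hab, hba]
      ring)
  choose X hX using pt
  constructor
  · intro x hx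
    obtain ⟨ξ, Y, hξ, hY, rfl⟩ := (hE.mem_restLine hF hA hB hq).1 hx
    have hη : α / (ξ * β) ≠ 0 := div_ne_zero hα (mul_ne_zero hξ hβ)
    rw [img ξ hξ hY (hX _)]
    refine ⟨(hE.mem_restLine hF hA hB hq).2 ⟨_, _, hη, hX _, rfl⟩, img _ hη (hX _) ?_⟩
    rw [show α / (α / (ξ * β) * β) = ξ by field_simp]
    exact hY
  · obtain ⟨w, hw0, hw1, hw⟩ := exists_omega hF
    have hw3 := cube_eq_one hF hw0
    obtain ⟨ξ, hξ, hne⟩ : ∃ ξ : F, ξ ≠ 0 ∧ α / (ξ * β) ≠ ξ := by
      by_cases h : α / (1 * β) = 1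
      · refine ⟨w, hw0, fun e => hw1 ?_⟩
        have h1 : α = β := by field_simp at h; exact h
        rw [h1] at e
        field_simp at e
        linear_combination hw3 + w * e
      · exact ⟨1, one_ne_zero, h⟩
    refine ⟨_, (hE.mem_restLine hF hA hB hq).2 ⟨ξ, _, hξ, hX ξ, rfl⟩, fun e => hne ?_⟩
    rw [img ξ hξ (hX ξ) (hX _)] at e
    obtain ⟨c, -, hc⟩ := (hE.mk_eq_iff hF (hX _) (hX ξ)).1 e
    have h := LinearIndependent.pair_iff.1 hli (1 - c) (ξ - c * (α / (ξ * β))) (by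
      rw [sub_smul, one_smul, sub_smul, mul_smul]
      linear_combination (norm := module) hc)
    have hc1 : c = 1 := (sub_eq_zero.1 h.1).symm
    have := sub_eq_zero.1 h.2
    rw [hc1, one_mul] at this
    exact this.symm

end TClass

end CfsgLib.ThreeTrans.USix
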