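import Mathlib
import Cfsg.Agent.Lib.ThreeTrans.Tower.UnitaryLine
import Cfsg.Agent.Lib.ThreeTrans.Tower.Step

/-! The rest of the six through three commuting members, seen in the centraliser of one of them. -/

set_option autoImplicit false

namespace CfsgLib.ThreeTrans.Tower

variable {G : Type*} [Group G] [Finite G] {D : Set G}

/-- The members other than `a`, `b`, `c` commuting with every member commuting with these. -/
def restHex (D : Set G) (a b c : G) : Set G :=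
  {z | z ∈ D ∧ z ≠ a ∧ z ≠ b ∧ z ≠ c ∧ ∀ w ∈ D, Commute w a → Commute w b → Commute w c → Commute z w}

omit [Finite G] in
theorem restHex_rot (a b c : G) : restHex D a b c = restHex D c a b := by
  ext z
  constructor
  · rintro ⟨h, h1, h2, h3, h4⟩; exact ⟨h, h3, h1, h2, fun w hw wc wa wb => h4 w hw wa wb wc⟩
  · rintro ⟨h, h1, h2, h3, h4⟩; exact ⟨h, h2, h3, h1, fun w hw wa wb wc => h4 w hw wc wa wb⟩

variable {F : Type*} [Field F] [Fintype F] {E : Set (Cfsg.PSU 6 F 2)} {a b c : G}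
  {π : Hd D a →* Cfsg.PSU 6 F 2}

open USix.TClass in
theorem restHex_fwd (M : Model D a E π) (hb : b ∈ Dd D a) (hc : c ∈ Dd D a) {z : G} (hz : z ∈ restHex D a b c) :
    z ∈ Dd D a ∧ phi π z ∈ restLine E (phi π b) (phi π c) := by
  obtain ⟨hD, za, zb, zc, hall⟩ := hz
  have hza : z ∈ Dd D a := ⟨hD, za, (hall a M.mem_self (Commute.refl a) hb.2.2 hc.2.2).symm⟩
  refine ⟨hza, M.mem hza, fun e => zb (M.inj hza hb e), fun e => zc (M.inj hza hc e), fun x hx x1 x2 => ?_⟩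
  obtain ⟨w, hw, rfl⟩ := M.onto hx
  exact (M.comm hza hw).2 (hall w hw.1 hw.2.2.symm ((M.comm hw hb).1 x1) ((M.comm hw hc).1 x2))

open USix.TClass in
theorem restHex_bwd (M : Model D a E π) (hb : b ∈ Dd D a) (hc : c ∈ Dd D a) {x : Cfsg.PSU 6 F 2}
    (hx : x ∈ restLine E (phi π b) (phi π c)) : ∃ z ∈ restHex D a b c, z ∈ Dd D a ∧ phi π z = x := by
  obtain ⟨hE, xb, xc, hall⟩ := hx
  obtain ⟨z, hz, rfl⟩ := M.onto hE
  refine ⟨z, ⟨hz.1, hz.2.1, fun e => xb (e ▸ rfl), fun e => xc (e ▸ rfl), fun w hw wa wb wc => ?_⟩, hz, rfl⟩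
  by_cases e : w = a
  · exact e ▸ hz.2.2.symm
  have hwa : w ∈ Dd D a := ⟨hw, e, wa.symm⟩
  exact (M.comm hz hwa).1 (hall _ (M.mem hwa) ((M.comm hwa hb).2 wb) ((M.comm hwa hc).2 wc))

end CfsgLib.ThreeTrans.Tower
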