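import Mathlib
import Cfsg.Agent.Lib.ThreeTrans.Tower.PairStep
import Cfsg.Agent.Lib.ThreeTrans.Tower.Hexad

/-! An element with all products with its conjugates of order at most three is a member. -/

set_option autoImplicit false

namespace CfsgLib.ThreeTrans.Tower

/-- An element of order at most two whose products with its conjugates have order at most three. -/
def ThreeT {G : Type*} [Group G] (x : G) : Prop :=
  x * x = 1 ∧ ∀ g : G, (x * (g * x * g⁻¹)) ^ 2 = 1 ∨ (x * (g * x * g⁻¹)) ^ 3 = 1

/-- The set holds every such element other than the identity. -/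
def UniqueClass {G : Type*} [Group G] (D : Set G) : Prop := ∀ x : G, ThreeT x → x = 1 ∨ x ∈ D

variable {G : Type*} [Group G] {D : Set G}

section Square

variable (hD : ConjClosed D) (h4 : NoRel D 4)
include hD h4

/-- A member commuting with neither of two commuting members does not commute with their product. -/
theorem not_commute_prod {d d' e : G} (hd : d ∈ D) (hd' : d' ∈ D) (hne : d ≠ d') (hc : Commute d d') (he : e ∈ D)
    (hed : ¬ Commute e d) (hed' : ¬ Commute e d') : ¬ Commute e (d * d') := by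
  intro h
  have hs := hD.set
  have ei := inv_eq hs he
  have h1 : e * d * e * (e * d' * e) = d * d' := by
    calc e * d * e * (e * d' * e) = e * (d * d') * e := by simp [mul_assoc, mul_self_mul hs he]
      _ = d * d' := by rw [h.eq, mul_assoc, mul_self hs he, mul_one]
  have hcc : Commute (e * d * e) (e * d' * e) := by
    simpa [ei] using (commute_conj_iff e d d').2 hc
  rcases pair_unique hs h4 hd hd' hne hc (conj_mem_left hD he hd) (conj_mem_left hD he hd') hcc h1 with
    ⟨k, -⟩ | ⟨k, -⟩
  · refine hed (show e * d = d * e from ?_)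
    calc e * d = e * d * e * e := by rw [mul_assoc (e * d), mul_self hs he, mul_one]
      _ = d * e := by rw [k]
  · rw [braid hs he hd hed] at k
    have hk : e = d * d' * d := by rw [← k]; simp [mul_assoc, mul_self_mul hs hd, mul_self hs hd]
    have : e = d' := by rw [hk, hc.eq, mul_assoc, mul_self hs hd, mul_one]
    exact hed' (this ▸ Commute.refl e)

/-- Opposite sides of a square of non-commuting members are exchanged by the product of the others. -/
theorem square_eq {d d' e e' : G} (hd : d ∈ D) (hd' : d' ∈ D) (he : e ∈ D) (he' : e' ∈ D) (hne : d ≠ d')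
    (hne' : e ≠ e') (hc : Commute d d') (hc' : Commute e e') (n1 : ¬ Commute e d) (n2 : ¬ Commute e d')
    (n3 : ¬ Commute e' d) (n4 : ¬ Commute e' d')
    (hw : (e' * (d * d') * e) ^ 2 = 1 ∨ (e' * (d * d') * e) ^ 3 = 1) :
    d * d' * e * (d * d') = e' := by
  have hs := hD.set
  set j := d * d' with hj
  set a := e * e' with ha
  have ee := mul_self hs he
  have ee' := mul_self hs he'
  have dd := mul_self hs hd
  have dd' := mul_self hs hd'
  have hjj : j * j = 1 := by rw [hj, mul_assoc, ← mul_assoc d' d, ← hc.eq, mul_assoc, dd', mul_one, dd]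
  have haa : a * a = 1 := by rw [ha, mul_assoc, ← mul_assoc e' e, ← hc'.eq, mul_assoc, ee', mul_one, ee]
  have ji : j⁻¹ = j := inv_eq_of_mul_eq_one_right hjj
  have hw' : e * (e' * j * e) * e⁻¹ = a * j := by rw [inv_eq hs he, ha]; simp [mul_assoc, ee]
  have hpow : (a * j) ^ 2 = 1 ∨ (a * j) ^ 3 = 1 := by
    rw [← hw', conj_pow, conj_pow]
    rcases hw with h | h <;> rw [h]
    exacts [Or.inl (by group), Or.inr (by group)]
  have mem : ∀ z ∈ D, j * z * j ∈ D := fun z hz => by
    have := hD.conj j z hz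
    rwa [ji] at this
  have hcj : Commute (j * e * j) (j * e' * j) := by
    have := (commute_conj_iff j e e').2 hc'
    rwa [ji] at this
  have hprod : j * e * j * (j * e' * j) = j * a * j := by
    simp [ha, mul_assoc, show ∀ x : G, j * (j * x) = x from fun x => by rw [← mul_assoc, hjj, one_mul]]
  rcases hpow with h | h
  · have h1 : j * e * j * (j * e' * j) = e * e' := by
      rw [hprod, ← ha]
      calc j * a * j = a * (a * j * (a * j)) := by simp only [← mul_assoc, haa, one_mul]
        _ = a := by rw [← sq, h, mul_one]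
    rcases pair_unique hs h4 he he' hne' hc' (mem e he) (mem e' he') hcj h1 with ⟨k, -⟩ | ⟨k, -⟩
    · refine absurd (show e * j = j * e from ?_) (not_commute_prod hD h4 hd hd' hne hc he n1 n2)
      calc e * j = j * e * j * j := by rw [k]
        _ = j * e := by rw [mul_assoc (j * e), hjj, mul_one]
    · exact k
  · exfalso
    have ai : a⁻¹ = a := inv_eq_of_mul_eq_one_right haa
    have hbr : a * j * a = j * a * j := by
      have e1 : a * j * (a * j) * (a * j) = 1 := by rw [← h]; simp [pow_three, mul_assoc]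
      calc a * j * a = (j * a * j)⁻¹ := eq_inv_of_mul_eq_one_left (by rw [← e1]; simp [mul_assoc])
        _ = j * a * j := by simp [mul_inv_rev, ai, ji, mul_assoc]
    have mema : ∀ z ∈ D, a * z * a ∈ D := fun z hz => by
      have := hD.conj a z hz
      rwa [ai] at this
    have hca : Commute (a * d * a) (a * d' * a) := by
      have := (commute_conj_iff a d d').2 hc
      rwa [ai] at this
    have hne2 : j * e * j ≠ j * e' * j := fun k => hne' (mul_left_cancel (mul_right_cancel k))
    have h1 : a * d * a * (a * d' * a) = j * e * j * (j * e' * j) := by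
      rw [hprod, ← hbr, hj]
      simp [mul_assoc, show ∀ x : G, a * (a * x) = x from fun x => by rw [← mul_assoc, haa, one_mul]]
    rcases pair_unique hs h4 (mem e he) (mem e' he') hne2 hcj (mema d hd) (mema d' hd') hca h1 with
      ⟨k, -⟩ | ⟨k, -⟩
    · -- the middle member of the first pair would be fixed
      set f := e * d * e with hf
      have hfm : f ∈ D := conj_mem_left hD he hd
      have l1 : a * d * a = e' * f * e' := by
        rw [hf, ha]
        conv_lhs => rw [hc'.eq]
        conv_lhs => arg 2; rw [← hc'.eq]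
        simp [mul_assoc]
      have r1 : j * e * j = d' * f * d' := by
        rw [hf, braid hs he hd n1, hj]
        conv_lhs => rw [hc.eq]
        conv_lhs => arg 2; rw [← hc.eq]
        simp [mul_assoc]
      have f1 : ¬ Commute e' f := fun q => n3 (by
        have := (commute_conj_iff e e' f).2 q
        rwa [show e * e' * e⁻¹ = e' by rw [hc'.eq, mul_inv_cancel_right], inv_eq hs he,
          show e * f * e = d by simp [hf, mul_assoc, mul_self_mul hs he, ee]] at this)
      have f2 : ¬ Commute d' f := fun q => n2 (by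
        have := (commute_conj_iff d d' f).2 q
        rw [show d * d' * d⁻¹ = d' by rw [hc.eq, mul_inv_cancel_right], inv_eq hs hd,
          show d * f * d = e by rw [hf, braid hs he hd n1]; simp [mul_assoc, mul_self_mul hs hd, dd]] at this
        exact this.symm)
      rw [l1, r1, braid hs he' hfm f1, braid hs hd' hfm f2] at k
      exact n4 (mul_left_cancel (mul_right_cancel k) ▸ Commute.refl e')
    · set f := e' * d * e' with hf
      have hfm : f ∈ D := conj_mem_left hD he' hd
      have l1 : a * d * a = e * f * e := by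
        rw [hf, ha]
        conv_lhs => arg 2; rw [hc'.eq]
        simp [mul_assoc]
      have r1 : j * e' * j = d' * f * d' := by
        rw [hf, braid hs he' hd n3, hj]
        conv_lhs => rw [hc.eq]
        conv_lhs => arg 2; rw [← hc.eq]
        simp [mul_assoc]
      have f1 : ¬ Commute e f := fun q => n1 (by
        have := (commute_conj_iff e' e f).2 q
        rwa [show e' * e * e'⁻¹ = e by rw [← hc'.eq, mul_inv_cancel_right], inv_eq hs he',
          show e' * f * e' = d by simp [hf, mul_assoc, mul_self_mul hs he', ee']] at this)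
      have f2 : ¬ Commute d' f := fun q => n4 (by
        have := (commute_conj_iff d d' f).2 q
        rw [show d * d' * d⁻¹ = d' by rw [hc.eq, mul_inv_cancel_right], inv_eq hs hd,
          show d * f * d = e' by rw [hf, braid hs he' hd n3]; simp [mul_assoc, mul_self_mul hs hd, dd]] at this
        exact this.symm)
      rw [l1, r1, braid hs he hfm f1, braid hs hd' hfm f2] at k
      exact n2 (mul_left_cancel (mul_right_cancel k) ▸ Commute.refl e)

/-- Such an element commutes with a member. -/
theorem ThreeT.exists_fixed {x : G} (hx : ThreeT x)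
    (hfar : ∀ d ∈ D, ∀ d' ∈ D, ∃ e ∈ D, ¬ Commute e d ∧ ¬ Commute e d') (hne : D.Nonempty) :
    ∃ d ∈ D, Commute x d := by
  have hs := hD.set
  by_contra hno
  push Not at hno
  have xi : x⁻¹ = x := inv_eq_of_mul_eq_one_right hx.1
  have xx : ∀ y : G, x * (x * y) = y := fun y => by rw [← mul_assoc, hx.1, one_mul]
  have mem : ∀ z ∈ D, x * z * x ∈ D := fun z hz => by
    have := hD.conj x z hz
    rwa [xi] at this
  have hcx : ∀ z ∈ D, Commute z (x * z * x) := by
    intro z hz
    by_contra hn
    refine hno _ (conj_mem_left hD hz (mem z hz)) (mul_inv_eq_iff_eq_mul.1 ?_)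
    calc x * (z * (x * z * x) * z) * x⁻¹ = x * z * x * z * (x * z * x) := by simp [xi, mul_assoc]
      _ = z * (x * z * x) * z := (braid hs hz (mem z hz) hn).symm
  have hnx : ∀ z ∈ D, z ≠ x * z * x := fun z hz h => hno z hz (show x * z = z * x by
    conv_lhs => rw [h]
    simp [mul_assoc, xx])
  obtain ⟨d, hd⟩ := hne
  set d' := x * d * x with hd'
  obtain ⟨e, he, n1, n2⟩ := hfar d hd d' (mem d hd)
  have hrule : ∀ e ∈ D, ¬ Commute e d → ¬ Commute e d' → d * d' * e * (d * d') = x * e * x := by
    intro e he n1 n2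
    have n3 : ¬ Commute (x * e * x) d := fun q => n2 (by
      have := (commute_conj_iff x _ _).2 q
      rw [xi] at this
      rwa [show x * (x * e * x) * x = e by simp [mul_assoc, xx, hx.1]] at this)
    have n4 : ¬ Commute (x * e * x) d' := fun q => n1 (by
      have := (commute_conj_iff x _ _).2 q
      rw [xi, hd'] at this
      rwa [show x * (x * e * x) * x = e by simp [mul_assoc, xx, hx.1],
        show x * (x * d * x) * x = d by simp [mul_assoc, xx, hx.1]] at this)
    refine square_eq hD h4 hd (mem d hd) he (mem e he) (hnx d hd) (hnx e he) (hcx d hd) (hcx e he) n1 n2 n3 n4 ?_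
    have e1 : x * (e * d * x * (e * d)⁻¹) = x * e * x * (d * d') * e := by
      rw [(hcx d hd).eq, mul_inv_rev, inv_eq hs hd, inv_eq hs he]
      simp [mul_assoc, xx]
    rw [← e1]
    exact hx.2 (e * d)
  set j := d * d' with hj
  have hfix : ∀ e ∈ D, ¬ Commute e d → ¬ Commute e d' → Commute (x * j) e := by
    intro e he n1 n2
    have h := hrule e he n1 n2
    have jj : j * j = 1 := by
      rw [hj, mul_assoc, ← mul_assoc d' d, ← (hcx d hd).eq, mul_assoc, mul_self hs (mem d hd), mul_one,
        mul_self hs hd]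
    show x * j * e = e * (x * j)
    calc x * j * e = x * (j * e * j) * j := by simp [mul_assoc, jj]
      _ = x * (x * e * x) * j := by rw [h]
      _ = e * (x * j) := by simp [mul_assoc, xx]
  have hdf : ¬ Commute (e * d * e) d := fun q => n1 (by
    rw [braid hs he hd n1] at q
    have := (commute_conj_iff d _ _).2 q
    rwa [inv_eq hs hd, show d * (d * e * d) * d = e by simp [mul_assoc, mul_self_mul hs hd, mul_self hs hd],
      show d * d * d = d by rw [mul_self hs hd, one_mul]] at this)
  have hdf' : ¬ Commute (e * d * e) d' := fun q => n2 (by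
    rw [braid hs he hd n1] at q
    have := (commute_conj_iff d _ _).2 q
    rwa [inv_eq hs hd, show d * (d * e * d) * d = e by simp [mul_assoc, mul_self_mul hs hd, mul_self hs hd],
      show d * d' * d = d' by rw [(hcx d hd).eq, mul_assoc, mul_self hs hd, mul_one]] at this)
  have h1 := hfix e he n1 n2
  have h2 := hfix _ (conj_mem_left hD he hd) hdf hdf'
  have h3 : Commute (x * j) d := by
    have h := (h1.mul_right h2).mul_right h1
    rwa [show e * (e * d * e) * e = d by simp [mul_assoc, mul_self_mul hs he, mul_self hs he]] at h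
  have hjd : j * d = d * j := by
    rw [hj, mul_assoc, ← (hcx d hd).eq]
  refine hno d hd (show x * d = d * x from mul_right_cancel (b := j) ?_)
  rw [mul_assoc, ← hjd, ← mul_assoc, h3.eq, mul_assoc]

end Square

/-- A member commuting with a pair commutes with another such member. -/
theorem Local.pair_edge [Finite G] {v N k μ : ℕ} (L : Local D v N k μ) {a c x : G} (ha : a ∈ D) (hc : c ∈ D)
    (hac : ¬ Commute a c) (hx : x ∈ Dd D a ∩ Dd D c) : ∃ y ∈ Dd D a ∩ Dd D c, y ∈ Dd D x := by
  obtain ⟨p, q, hpa, hpc, hqa, hqc, hqp⟩ := L.edge a ha c hc hac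
  obtain ⟨g, hg, rfl⟩ := L.pair_orbit ha hc hac ⟨hpa, hpc⟩ hx
  exact ⟨g * q * g⁻¹, L.conj_pair (pair_commute hg).1 (pair_commute hg).2 ⟨hqa, hqc⟩,
    conj_mem_Dd_conj L.closed g hqp⟩

theorem exists_far_two [Finite G] {v N k μ : ℕ} (L : Local D v N k μ) (hv : 2 * (N + 1) < v) :
    ∀ d ∈ D, ∀ d' ∈ D, ∃ e ∈ D, ¬ Commute e d ∧ ¬ Commute e d' := by
  intro d hd d' hd'
  by_contra! h
  have hsub : D ⊆ insert d (Dd D d) ∪ insert d' (Dd D d') := fun e he => by
    by_cases c : Commute e d
    · by_cases q : e = d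
      exacts [Or.inl (Or.inl q), Or.inl (Or.inr ⟨he, q, c.symm⟩)]
    · by_cases q : e = d'
      exacts [Or.inr (Or.inl q), Or.inr (Or.inr ⟨he, q, (h e he c).symm⟩)]
  have h1 := (Set.ncard_le_ncard hsub (Set.toFinite _)).trans (Set.ncard_union_le _ _)
  have h2 := Set.ncard_insert_le d (Dd D d)
  have h3 := Set.ncard_insert_le d' (Dd D d')
  rw [L.card] at h1
  rw [L.deg d hd] at h2
  rw [L.deg d' hd'] at h3
  omega

/-- One level up. -/
theorem Stage.uniqueClass [Finite G] {Y : Type*} [Group Y] {E : Set Y} {N k l m v n' k' μ : ℕ}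
    (S : Stage D E N k l m) (L : Local D v n' k' μ) (h4 : NoRel D 4) (hv : 2 * (n' + 1) < v) (hk : k' + 1 < n')
    (hE : UniqueClass E) : UniqueClass D := by
  intro x hx
  have hs := S.threeSet
  obtain ⟨d, hd, hxd⟩ := hx.exists_fixed S.closed h4 (exists_far_two L hv)
    (by obtain ⟨d, hd, -⟩ := S.prim.2.1; exact ⟨d, hd⟩)
  obtain ⟨π, M⟩ := S.base d hd
  obtain ⟨h₀, hh₀⟩ := Model.Kc_decomp hs hd (L.stab d hd x hxd)
  have hcd : ∀ h : Hd D d, d * (h : G) = h * d := fun h => (commute_of_mem_Hd h.2).eq.symm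
  have hsq : ∀ g : Hd D d, x * ((g : G) * x * (g : G)⁻¹) = ((h₀ * (g * h₀ * g⁻¹) : Hd D d) : G) := by
    intro g
    rcases hh₀ with rfl | rfl
    · rfl
    · have c : Commute ((h₀ : G) * g) d := ((commute_of_mem_Hd (h₀ * g).2 : Commute ((h₀ * g : Hd D d) : G) d))
      calc d * (h₀ : G) * ((g : G) * (d * h₀) * (g : G)⁻¹) = d * ((h₀ : G) * g * d) * h₀ * (g : G)⁻¹ := by group
        _ = d * d * ((h₀ : G) * g) * h₀ * (g : G)⁻¹ := by rw [c.eq, ← mul_assoc d d]
        _ = _ := by rw [mul_self hs hd]; simp [mul_assoc]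
  have hT : ThreeT (π h₀) := by
    refine ⟨?_, fun t => ?_⟩
    · have h0 := hsq 1
      simp only [Subgroup.coe_one, one_mul, inv_one, mul_one, hx.1] at h0
      rw [← map_mul, show h₀ * h₀ = 1 from Subtype.ext h0.symm, map_one]
    · obtain ⟨g, rfl⟩ := M.base.surj t
      rcases hx.2 g with h | h
      · left
        rw [← map_inv, ← map_mul, ← map_mul, ← map_mul, ← map_pow,
          show (h₀ * (g * h₀ * g⁻¹)) ^ 2 = 1 from Subtype.ext (by rw [SubgroupClass.coe_pow, ← hsq, h]; rfl), map_one]
      · right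
        rw [← map_inv, ← map_mul, ← map_mul, ← map_mul, ← map_pow,
          show (h₀ * (g * h₀ * g⁻¹)) ^ 3 = 1 from Subtype.ext (by rw [SubgroupClass.coe_pow, ← hsq, h]; rfl), map_one]
  have key : ∀ y ∈ Dd D d, x ≠ d * y := by
    intro y hy hxy
    -- move the pair to one meeting it in a commuting edge
    obtain ⟨d₁, hd₁y, hd₁⟩ : ∃ d₁ ∈ Dd D y, d₁ ∉ insert d (Dd D y ∩ Dd D d) := by
      refine Set.exists_mem_notMem_of_ncard_lt_ncard ?_
      refine lt_of_le_of_lt (Set.ncard_insert_le _ _) ?_
      rw [L.lam y hy.1 d (Dd_symm hd hy), L.deg y hy.1]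
      exact hk
    have hn : ¬ Commute d d₁ := fun c =>
      hd₁ (Or.inr ⟨hd₁y, hd₁y.1, fun e => hd₁ (Or.inl e), c⟩)
    obtain ⟨f, hf, hfy⟩ := L.pair_edge hd hd₁y.1 hn ⟨hy, Dd_symm hy.1 hd₁y⟩
    obtain ⟨g₁, rfl⟩ := S.prim.1 d hd d₁ hd₁y.1
    obtain ⟨g₂, hg₂, hg₂y⟩ := L.perp _ hd₁y.1 _ (conj_mem_Dd_conj S.closed g₁ hy) f hf.2
    set d₁ := g₁ * d * g₁⁻¹
    have hgx : g₂ * g₁ * x * (g₂ * g₁)⁻¹ = d₁ * f := by
      rw [hxy, ← hg₂y]
      calc g₂ * g₁ * (d * y) * (g₂ * g₁)⁻¹ = g₂ * d₁ * g₂⁻¹ * (g₂ * (g₁ * y * g₁⁻¹) * g₂⁻¹) := by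
            simp only [d₁]; group
        _ = _ := by rw [hg₂.eq, mul_inv_cancel_right]
    have hw : x * (d₁ * f) = d * d₁ * (y * f) := by
      rw [hxy, mul_assoc d y, ← mul_assoc y d₁, hd₁y.2.2.eq]
      simp [mul_assoc]
    have hcw : Commute (d * d₁) (y * f) :=
      (hy.2.2.mul_right hf.1.2.2).mul_left (hd₁y.2.2.symm.mul_right hf.2.2.2)
    have hyf : (y * f) ^ 2 = 1 := by rw [sq, mul_assoc, ← mul_assoc f y, ← hfy.2.2.eq, mul_assoc, mul_self hs hf.1.1,
      mul_one, mul_self hs hy.1]
    have h3 := pow_three_of_not_commute hs hd hd₁y.1 hn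
    rcases hgx ▸ hx.2 (g₂ * g₁) with h | h <;> rw [hw, hcw.mul_pow] at h
    · rw [hyf, mul_one] at h
      refine hn ?_
      have : d * d₁ = 1 := by
        calc d * d₁ = (d * d₁) ^ 3 * ((d * d₁) ^ 2)⁻¹ := by group
          _ = 1 := by rw [h3, h, inv_one, mul_one]
      rw [(mul_eq_one_iff_eq' hs hd₁y.1).1 this]
    · rw [h3, one_mul, pow_succ, hyf, one_mul, mul_eq_one_iff_eq' hs hf.1.1] at h
      exact hfy.2.1 h.symm
  rcases hE _ hT with h | h
  · rcases S.kernel hd (commute_of_mem_Hd h₀.2) ((M.base.map_eq_one_iff' _).1 h) with e | e <;>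
      rcases hh₀ with e' | e'
    · exact Or.inl (e'.trans e)
    · exact Or.inr (by rw [e', e, mul_one]; exact hd)
    · exact Or.inr (by rw [e', e]; exact hd)
    · exact Or.inl (by rw [e', e, mul_self hs hd])
  · obtain ⟨y, hy, hyp⟩ := M.onto h
    let y₀ : Hd D d := ⟨y, Subgroup.subset_closure hy⟩
    have h1 : π (y₀ * h₀) = 1 := by
      rw [map_mul, ← phi_of_mem π (x := y₀) hy, hyp]; exact hT.1
    have yy := mul_self hs hy.1
    rcases S.kernel hd (commute_of_mem_Hd (y₀ * h₀).2) ((M.base.map_eq_one_iff' _).1 h1) with e | e <;>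
      rw [Subgroup.coe_mul] at e <;> change y * (h₀ : G) = _ at e
    · have e1 : (h₀ : G) = y := by rw [← mul_self_mul hs hy.1 (h₀ : G), e, mul_one]
      rcases hh₀ with e' | e'
      · exact Or.inr (by rw [e', e1]; exact hy.1)
      · exact absurd (by rw [e', e1]) (key y hy)
    · have e1 : (h₀ : G) = d * y := by rw [← mul_self_mul hs hy.1 (h₀ : G), e, hy.2.2.eq]
      rcases hh₀ with e' | e'
      · exact absurd (e'.trans e1) (key y hy)
      · exact Or.inr (by rw [e', e1, mul_self_mul hs hd]; exact hy.1)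

/-- The class found in a group where such elements are members. -/
theorem UniqueClass.eq {D' : Set G} (hU : UniqueClass D) (hcls : ∀ a ∈ D, ∀ b ∈ D, ∃ g : G, g * a * g⁻¹ = b)
    (hconj : ∀ g : G, ∀ a ∈ D, g * a * g⁻¹ ∈ D) (hD' : Cfsg.IsThreeTranspositionClass D') : D' = D := by
  obtain ⟨hs, ⟨d, hd, rfl⟩, -⟩ := hD'
  have hT : ThreeT d := ⟨mul_self hs hd, fun g => hs.2 d hd _ (isConj_iff.2 ⟨g, rfl⟩)⟩
  have hdD := (hU d hT).resolve_left (ne_one hs hd)
  ext y
  refine ⟨fun hy => ?_, fun hy => isConj_iff.2 (hcls d hdD y hy)⟩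
  obtain ⟨g, rfl⟩ := isConj_iff.1 (show IsConj d y from hy)
  exact hconj g d hdD

end CfsgLib.ThreeTrans.Tower
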