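import Mathlib
import Cfsg.Agent.Lib.ThreeTrans.Tower.Unique
import Cfsg.Agent.Lib.ThreeTrans.Tower.UnitaryLocal

/-! The class of 3-transpositions in groups of type M(22), M(23), M(24) is the only one. -/

set_option autoImplicit false

namespace CfsgLib.ThreeTrans.Tower

theorem uniqueClass_unitary {F : Type*} [Field F] [Fintype F] (hF : Fintype.card F = 2 ^ 2)
    {E : Set (Cfsg.PSU 6 F 2)} (hE : USix.TClass E) : UniqueClass E := by
  intro x hx
  by_cases h1 : x = 1
  · exact Or.inl h1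
  right
  let E' : Set (Cfsg.PSU 6 F 2) := {y | ∃ g, g * x * g⁻¹ = y}
  have hconj : ∀ g, ∀ a ∈ E', g * a * g⁻¹ ∈ E' := by
    rintro g _ ⟨h, rfl⟩; exact ⟨g * h, by group⟩
  have hset : Cfsg.IsThreeTranspositionSet E' := by
    constructor
    · rintro _ ⟨g, rfl⟩
      refine orderOf_eq_prime ?_ fun h => h1 ?_
      · rw [conj_pow, sq, hx.1, mul_one, mul_inv_cancel]
      · calc x = g⁻¹ * (g * x * g⁻¹) * g := by group
          _ = 1 := by rw [h, mul_one, inv_mul_cancel]
    · rintro _ ⟨g, rfl⟩ _ ⟨h, rfl⟩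
      have e : g * x * g⁻¹ * (h * x * h⁻¹) = g * (x * (g⁻¹ * h * x * (g⁻¹ * h)⁻¹)) * g⁻¹ := by group
      rw [e, conj_pow, conj_pow]
      rcases hx.2 (g⁻¹ * h) with k | k <;> rw [k]
      exacts [Or.inl (by group), Or.inr (by group)]
  obtain ⟨v, A, hA, rfl⟩ := USix.exists_rep hF hset hconj (a := x) ⟨1, by group⟩
  exact hE.hall hF hA

variable {G : Type*} [Group G] [Finite G] {D : Set G}

theorem unique22 (hD : Cfsg.IsThreeTranspositionGroup D) (hprim : Cfsg.IsPrimitiveUnderConj D)
    (h : Cfsg.IsOfTypeM22 G D) : UniqueClass D := by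
  obtain ⟨d, c, F, _, _, π, hB, -, -, hloc, -, hF⟩ := bottom22 hD h
  exact (stage_of_base hD hprim h.1 hloc hB rfl).uniqueClass (local22 hD hprim h)
    ((good22 hD h).rel 4 (by norm_num) (by norm_num)) (by norm_num) (by norm_num)
    (uniqueClass_unitary hF ⟨hloc.group.1, hloc.group.2.1, hloc.rigid.nonabelian.imp fun _ h => h.1⟩)

theorem unique23 (hD : Cfsg.IsThreeTranspositionGroup D) (hprim : Cfsg.IsPrimitiveUnderConj D)
    (h : Cfsg.IsOfTypeM23 G D) : UniqueClass D := by
  obtain ⟨d, c, -, -, hB, h22, -⟩ := bottom23 hD h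
  have hp := prim22 hD hprim hB h22
  exact (stage_of_base hD hprim h.1 (local22 hB.img_group hp h22) hB rfl).uniqueClass (local23 hD hprim h)
    ((good23 hD h).rel 4 (by norm_num) (by norm_num)) (by norm_num) (by norm_num) (unique22 hB.img_group hp h22)

theorem unique24 (hD : Cfsg.IsThreeTranspositionGroup D) (hprim : Cfsg.IsPrimitiveUnderConj D)
    (h : Cfsg.IsOfTypeM24 G D) : UniqueClass D := by
  obtain ⟨d, c, -, -, hB, h23⟩ := bottom24 hD hprim h
  have hp := prim23 hD hprim hB h23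
  have S := stage_of_base hD hprim h.1 (local23 hB.img_group hp h23) hB rfl
  exact S.uniqueClass (local24 hD hprim h)
    (rel24 hD h hprim.1 S.twins 4 (by norm_num) (by norm_num)) (by norm_num) (by norm_num)
    (unique23 hB.img_group hp h23)

end CfsgLib.ThreeTrans.Tower
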