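import Mathlib
import Cfsg.Agent.Lib.ThreeTrans.Tower.UnitaryCount

/-! Totally isotropic planes of `PSU(6,2)`: the members commuting with three members spanning one. -/

set_option autoImplicit false
set_option linter.unusedSectionVars false

namespace CfsgLib.ThreeTrans.USix

open Matrix CfsgLib.ClassicalGroups
open CfsgLib.ThreeTrans.Tower (Dd_symm)

variable {F : Type*} [Field F] [Fintype F]

local notation "V" => Fin 6 → F
local notation "𝕙" => Cfsg.hermForm 6 F 2
local notation "SU₆" => Cfsg.SU 6 F 2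
local notation "PSU₆" => Cfsg.PSU 6 F 2

variable (hF : Fintype.card F = 2 ^ 2)
include hF

/-- No four independent vectors are pairwise orthogonal. -/
theorem not_li_four {f : Fin 4 → V} (hli : LinearIndependent F f) (h : ∀ i j, 𝕙 (f i) (f j) = 0) : False := by
  let ψ : V →ₗ[F] (Fin 4 → F) :=
    { toFun := fun x i => 𝕙 x (f i)
      map_add' := fun x y => funext fun i => by simp [hermForm_add_left]
      map_smul' := fun c x => funext fun i => by simp [hermForm_smul_left] }
  have hsurj : LinearMap.range ψ = ⊤ := by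
    rw [LinearMap.range_eq_top]
    intro c
    obtain ⟨φ, hφ⟩ := exists_coord hli fun i => c i ^ 2
    obtain ⟨x, hx⟩ := exists_dual hF φ
    refine ⟨x, funext fun i => ?_⟩
    show 𝕙 x (f i) = c i
    rw [herm_symm' hF, ← hx, hφ, ← pow_mul]
    exact pow_four hF _
  have hker : Submodule.span F (Set.range f) ≤ LinearMap.ker ψ := by
    rw [Submodule.span_le]
    rintro _ ⟨j, rfl⟩
    exact funext fun i => h j i
  have h1 := Submodule.finrank_mono hker
  rw [finrank_span_eq_card hli, Fintype.card_fin] at h1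
  have h2 := ψ.finrank_range_add_finrank_ker
  rw [hsurj, finrank_top, Module.finrank_fin_fun, Module.finrank_fin_fun] at h2
  omega

/-- The vectors of the span of independent pairwise orthogonal vectors, and the members at them. -/
theorem ncard_span_pts {n : ℕ} {f : Fin n → V} (hli : LinearIndependent F f) (h : ∀ i j, 𝕙 (f i) (f j) = 0) :
    3 * (ptsOf (Fintype.linearCombination F f '' ({0} : Set (Fin n → F))ᶜ)).ncard = 4 ^ n - 1 := by
  classical
  have hinj : Function.Injective (Fintype.linearCombination F f) := linearIndependent_iff_injective_fintypeLinearCombination.1 hli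
  have horth : ∀ c d : Fin n → F, 𝕙 (Fintype.linearCombination F f c) (Fintype.linearCombination F f d) = 0 := by
    intro c d
    have hl : ∀ (j : Fin n) (c : Fin n → F), 𝕙 (Fintype.linearCombination F f c) (f j) = 0 := fun j c => by
      let L : V →ₗ[F] F :=
        { toFun := fun x => 𝕙 x (f j)
          map_add' := fun x y => by simp [hermForm_add_left]
          map_smul' := fun r x => by simp [hermForm_smul_left] }
      show L (Fintype.linearCombination F f c) = 0
      rw [Fintype.linearCombination_apply, map_sum]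
      exact Finset.sum_eq_zero fun i _ => by rw [map_smul]; show c i • 𝕙 (f i) (f j) = 0; rw [h, smul_zero]
    let R : V →ₗ[F] F :=
      { toFun := fun x => 𝕙 x (Fintype.linearCombination F f d)
        map_add' := fun x y => by simp [hermForm_add_left]
        map_smul' := fun r x => by simp [hermForm_smul_left] }
    show R (Fintype.linearCombination F f c) = 0
    rw [Fintype.linearCombination_apply, map_sum]
    refine Finset.sum_eq_zero fun i _ => ?_
    rw [map_smul]
    show c i • 𝕙 (f i) (Fintype.linearCombination F f d) = 0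
    rw [herm_zero_symm hF (hl i d), smul_zero]
  rw [ncard_ptsOf hF (by
      rintro _ ⟨c, hc, rfl⟩
      exact ⟨fun e => hc (hinj (e.trans (map_zero _).symm)), horth c c⟩) (by
      rintro _ ⟨c, hc, rfl⟩ s hs
      exact ⟨s • c, fun e => hc (by simpa [hs] using e), map_smul _ s c⟩),
    Set.ncard_image_of_injective _ hinj, Set.ncard_compl, Set.ncard_singleton, Nat.card_fun,
    Nat.card_eq_fintype_card, Nat.card_eq_fintype_card, hF, Fintype.card_fin]
  norm_num

namespace TClass

variable {E : Set (Cfsg.PSU 6 F 2)} (hE : TClass E)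
include hE

/-- Three pairwise commuting members, the third outside the line of the other two: the members commuting with
all three form a plane of 21 members, and an outside member commutes with five of them. -/
theorem plane {p q r y : PSU₆} (hp : p ∈ E) (hq : q ∈ E) (hr : r ∈ E) (hy : y ∈ E) (hne : p ≠ q)
    (cpq : Commute p q) (cpr : Commute p r) (cqr : Commute q r) (hyp : Commute y p) (hyq : Commute y q)
    (hyr : ¬ Commute r y) :
    (∀ x ∈ E, ∀ z ∈ E, Commute x p → Commute x q → Commute x r → Commute z p → Commute z q → Commute z r →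
      Commute x z) ∧
    {x | x ∈ E ∧ Commute x p ∧ Commute x q ∧ Commute x r}.ncard = 21 ∧
    ∀ e ∈ E, ¬ (Commute e p ∧ Commute e q ∧ Commute e r) →
      {x | x ∈ E ∧ Commute x p ∧ Commute x q ∧ Commute x r ∧ Commute e x}.ncard = 5 := by
  classical
  obtain ⟨a, A, hA, rfl⟩ := hE.rep hF hp
  obtain ⟨b, B, hB, rfl⟩ := hE.rep hF hq
  obtain ⟨c, C, hC, rfl⟩ := hE.rep hF hr
  obtain ⟨u, U, hU, rfl⟩ := hE.rep hF hy
  have hor : ∀ {v w : V} {X Z : SU₆}, IsTvAt v X → IsTvAt w Z →
      Commute (QuotientGroup.mk X : PSU₆) (QuotientGroup.mk Z) → 𝕙 v w = 0 := fun hX hZ h =>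
    (commute_mk_iff hF hX hZ).1 h
  have hab := hor hA hB cpq
  have hac := hor hA hC cpr
  have hbc := hor hB hC cqr
  have hli2 : LinearIndependent F ![a, b] := li_pair_of_ne hA.1 fun s e => hne
    ((hE.mk_eq_iff hF hA hB).2 ⟨s, fun h0 => hB.1 (by rw [e, h0, zero_smul]), e⟩)
  have hli3 : LinearIndependent F ![a, b, c] := li_triple hli2 fun s t e => hyr ((commute_mk_iff hF hC hU).2 (by
    rw [e, hermForm_add_left, hermForm_smul_left, hermForm_smul_left, herm_zero_symm hF (hor hU hA hyp),
      herm_zero_symm hF (hor hU hB hyq)]; ring))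
  have hz : ∀ {v : V}, 𝕙 v a = 0 → 𝕙 v b = 0 → 𝕙 v c = 0 → 𝕙 v v = 0 → ∃ i j k : F, v = i • a + j • b + k • c := by
    intro v h1 h2 h3 h4
    by_contra hn
    push Not at hn
    refine not_li_four hF (li_four hli3 hn) fun i j => ?_
    fin_cases i <;> fin_cases j <;>
      first
      | exact hA.2.1 | exact hB.2.1 | exact hC.2.1 | exact hab | exact hac | exact hbc
      | exact herm_zero_symm hF hab | exact herm_zero_symm hF hac | exact herm_zero_symm hF hbc
      | exact h4 | exact h1 | exact h2 | exact h3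
      | exact herm_zero_symm hF h1 | exact herm_zero_symm hF h2 | exact herm_zero_symm hF h3
  have hcomb : ∀ {v : V} (i j k : F), v = i • a + j • b + k • c → ∀ w : V,
      𝕙 v w = i * 𝕙 a w + j * 𝕙 b w + k * 𝕙 c w := fun i j k e w => by
    rw [e, hermForm_add_left, hermForm_add_left, hermForm_smul_left, hermForm_smul_left, hermForm_smul_left]
  refine ⟨?_, ?_, ?_⟩
  · intro x hx z hz' x1 x2 x3 z1 z2 z3
    obtain ⟨v, X, hX, rfl⟩ := hE.rep hF hx
    obtain ⟨w, Z, hZ, rfl⟩ := hE.rep hF hz'
    obtain ⟨i, j, k, e⟩ := hz (hor hX hA x1) (hor hX hB x2) (hor hX hC x3) hX.2.1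
    refine (commute_mk_iff hF hX hZ).2 ?_
    rw [hcomb i j k e, herm_zero_symm hF (hor hZ hA z1), herm_zero_symm hF (hor hZ hB z2),
      herm_zero_symm hF (hor hZ hC z3)]
    ring
  · have hgram : ∀ i j, 𝕙 (![a, b, c] i) (![a, b, c] j) = 0 := fun i j => by
      fin_cases i <;> fin_cases j <;>
        first
        | exact hA.2.1 | exact hB.2.1 | exact hC.2.1 | exact hab | exact hac | exact hbc
        | exact herm_zero_symm hF hab | exact herm_zero_symm hF hac | exact herm_zero_symm hF hbc
    have h := ncard_span_pts hF hli3 hgram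
    suffices hS : {x | x ∈ E ∧ Commute x (QuotientGroup.mk A : PSU₆) ∧ Commute x (QuotientGroup.mk B : PSU₆) ∧
        Commute x (QuotientGroup.mk C : PSU₆)} =
        ptsOf (Fintype.linearCombination F ![a, b, c] '' ({0} : Set (Fin 3 → F))ᶜ) by
      rw [hS]; omega
    ext x
    constructor
    · rintro ⟨hx, x1, x2, x3⟩
      obtain ⟨v, X, hX, rfl⟩ := hE.rep hF hx
      obtain ⟨i, j, k, e⟩ := hz (hor hX hA x1) (hor hX hB x2) (hor hX hC x3) hX.2.1
      have e' : Fintype.linearCombination F ![a, b, c] ![i, j, k] = v := by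
        simp [Fintype.linearCombination_apply, Fin.sum_univ_three, e]
      exact ⟨v, X, hX, ⟨_, fun h0 => hX.1 (by rw [← e', Set.mem_singleton_iff.1 h0, map_zero]), e'⟩, rfl⟩
    · rintro ⟨v, X, hX, ⟨t, -, e⟩, rfl⟩
      have e' : v = t 0 • a + t 1 • b + t 2 • c := by
        rw [← e]; simp [Fintype.linearCombination_apply, Fin.sum_univ_three]
      refine ⟨hE.hall hF hX, (commute_mk_iff hF hX hA).2 ?_, (commute_mk_iff hF hX hB).2 ?_,
        (commute_mk_iff hF hX hC).2 ?_⟩ <;> rw [hcomb _ _ _ e']
      · rw [hA.2.1, herm_zero_symm hF hab, herm_zero_symm hF hac]; ring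
      · rw [hB.2.1, hab, herm_zero_symm hF hbc]; ring
      · rw [hC.2.1, hac, hbc]; ring
  · intro e he hn
    obtain ⟨m, M, hM, rfl⟩ := hE.rep hF he
    -- two vectors spanning the part orthogonal to `m`
    obtain ⟨v, w, hv, hw, hvw, hker⟩ : ∃ v w : Fin 3 → F,
        v 0 * 𝕙 a m + v 1 * 𝕙 b m + v 2 * 𝕙 c m = 0 ∧ w 0 * 𝕙 a m + w 1 * 𝕙 b m + w 2 * 𝕙 c m = 0 ∧
        LinearIndependent F ![v, w] ∧ ∀ t : Fin 3 → F, t 0 * 𝕙 a m + t 1 * 𝕙 b m + t 2 * 𝕙 c m = 0 →
          ∃ α β : F, t = α • v + β • w := by
      by_cases h3 : 𝕙 c m = 0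
      · by_cases h2 : 𝕙 b m = 0
        · have h1 : 𝕙 a m ≠ 0 := fun h1 => hn ⟨(commute_mk_iff hF hM hA).2 (herm_zero_symm hF h1),
            (commute_mk_iff hF hM hB).2 (herm_zero_symm hF h2), (commute_mk_iff hF hM hC).2 (herm_zero_symm hF h3)⟩
          refine ⟨![0, 1, 0], ![0, 0, 1], by simp [h2], by simp [h3], ?_, fun t ht => ⟨t 1, t 2, ?_⟩⟩
          · refine LinearIndependent.pair_iff.2 fun s r h => ?_
            exact ⟨by simpa using congrFun h 1, by simpa using congrFun h 2⟩
          · simp [h2, h3, h1] at ht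
            funext i; fin_cases i <;> simp [ht]
        · refine ⟨![1, -(𝕙 a m) / 𝕙 b m, 0], ![0, 0, 1], by simp; field_simp; ring, by simp [h3], ?_,
            fun t ht => ⟨t 0, t 2, ?_⟩⟩
          · refine LinearIndependent.pair_iff.2 fun s r h => ?_
            exact ⟨by simpa using congrFun h 0, by simpa using congrFun h 2⟩
          · simp [h3] at ht
            funext i; fin_cases i <;> simp
            field_simp
            linear_combination ht
      · refine ⟨![1, 0, -(𝕙 a m) / 𝕙 c m], ![0, 1, -(𝕙 b m) / 𝕙 c m], by simp; field_simp; ring,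
          by simp; field_simp; ring, ?_, fun t ht => ⟨t 0, t 1, ?_⟩⟩
        · refine LinearIndependent.pair_iff.2 fun s r h => ?_
          exact ⟨by simpa using congrFun h 0, by simpa using congrFun h 1⟩
        · funext i; fin_cases i <;> simp
          field_simp
          linear_combination ht
    let φ := Fintype.linearCombination F ![a, b, c]
    have hφ : ∀ t : Fin 3 → F, φ t = t 0 • a + t 1 • b + t 2 • c := fun t => by
      simp [φ, Fintype.linearCombination_apply, Fin.sum_univ_three]
    have hli : LinearIndependent F ![φ v, φ w] := by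
      refine LinearIndependent.pair_iff.2 fun s r h => LinearIndependent.pair_iff.1 hvw s r ?_
      have hinj : Function.Injective φ := linearIndependent_iff_injective_fintypeLinearCombination.1 hli3
      exact hinj (by rw [map_add, map_smul, map_smul, h, map_zero])
    have hperp : ∀ t x : V, (∃ i j k : F, t = i • a + j • b + k • c) →
        (𝕙 a x = 0 ∧ 𝕙 b x = 0 ∧ 𝕙 c x = 0) → 𝕙 t x = 0 := by
      rintro t x ⟨i, j, k, e⟩ ⟨x1, x2, x3⟩
      rw [hcomb i j k e, x1, x2, x3]; ring
    have habc : ∀ t : Fin 3 → F, 𝕙 a (φ t) = 0 ∧ 𝕙 b (φ t) = 0 ∧ 𝕙 c (φ t) = 0 := fun t => by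
      refine ⟨herm_zero_symm hF ?_, herm_zero_symm hF ?_, herm_zero_symm hF ?_⟩ <;> rw [hcomb _ _ _ (hφ t)]
      · rw [hA.2.1, herm_zero_symm hF hab, herm_zero_symm hF hac]; ring
      · rw [hB.2.1, hab, herm_zero_symm hF hbc]; ring
      · rw [hC.2.1, hac, hbc]; ring
    have h := ncard_span_pts hF hli fun i j => by
      fin_cases i <;> fin_cases j <;> exact hperp _ _ ⟨_, _, _, hφ _⟩ (habc _)
    suffices hS : {x | x ∈ E ∧ Commute x (QuotientGroup.mk A : PSU₆) ∧ Commute x (QuotientGroup.mk B : PSU₆) ∧
        Commute x (QuotientGroup.mk C : PSU₆) ∧ Commute (QuotientGroup.mk M : PSU₆) x} =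
        ptsOf (Fintype.linearCombination F ![φ v, φ w] '' ({0} : Set (Fin 2 → F))ᶜ) by
      rw [hS]; omega
    ext x
    constructor
    · rintro ⟨hx, x1, x2, x3, x4⟩
      obtain ⟨z, X, hX, rfl⟩ := hE.rep hF hx
      obtain ⟨i, j, k, e⟩ := hz (hor hX hA x1) (hor hX hB x2) (hor hX hC x3) hX.2.1
      obtain ⟨α, β, ht⟩ := hker ![i, j, k] (by
        have := herm_zero_symm hF (hor hM hX x4)
        rwa [hcomb i j k e] at this)
      have e' : Fintype.linearCombination F ![φ v, φ w] ![α, β] = z := by
        simp only [Fintype.linearCombination_apply, Fin.sum_univ_two]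
        show α • φ v + β • φ w = z
        rw [← map_smul, ← map_smul, ← map_add, ← ht, hφ, e]
        rfl
      exact ⟨z, X, hX, ⟨_, fun h0 => hX.1 (by rw [← e', Set.mem_singleton_iff.1 h0, map_zero]), e'⟩, rfl⟩
    · rintro ⟨z, X, hX, ⟨t, -, e⟩, rfl⟩
      have e' : z = φ (t 0 • v + t 1 • w) := by
        rw [← e, map_add, map_smul, map_smul]
        simp [Fintype.linearCombination_apply, Fin.sum_univ_two]
      obtain ⟨z1, z2, z3⟩ := habc (t 0 • v + t 1 • w)
      refine ⟨hE.hall hF hX, (commute_mk_iff hF hX hA).2 ?_, (commute_mk_iff hF hX hB).2 ?_,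
        (commute_mk_iff hF hX hC).2 ?_, (commute_mk_iff hF hM hX).2 ?_⟩
      · rw [e']; exact herm_zero_symm hF z1
      · rw [e']; exact herm_zero_symm hF z2
      · rw [e']; exact herm_zero_symm hF z3
      · refine herm_zero_symm hF ?_
        rw [hcomb _ _ _ (e'.trans (hφ _))]
        simp only [Pi.add_apply, Pi.smul_apply, smul_eq_mul]
        linear_combination t 0 * hv + t 1 * hw

end TClass

end CfsgLib.ThreeTrans.USix
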