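import Mathlib
import Cfsg.Agent.Lib.ThreeTrans.Tower.UnitaryPlane
import Cfsg.Agent.Lib.ThreeTrans.Tower.Unique

/-! Bases (22 pairwise commuting members) in type M(22): the members commuting with nothing in a base that
commute with one of them correspond to the pairs in the base. -/

set_option autoImplicit false

namespace CfsgLib.ThreeTrans.Tower

universe u v

variable {G : Type u} [Group G] {D : Set G}

/-- The members commuting with every member commuting with `a`, `b`, `c`. -/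
def hex (D : Set G) (a b c : G) : Set G :=
  {y | y ∈ D ∧ ∀ z ∈ D, Commute z a → Commute z b → Commute z c → Commute y z}

/-- A base. -/
structure IsBase22 (D : Set G) (B : Set G) : Prop where
  sub : B ⊆ D
  comm : ∀ x ∈ B, ∀ y ∈ B, Commute x y
  card : B.ncard = 22
  outside : ∀ e ∈ D, e ∉ B → ∀ x ∈ B, Commute e x → {y | y ∈ B ∧ Commute e y}.ncard = 6

theorem IsBase22.maximal {B : Set G} (hB : IsBase22 D B) {e : G} (he : e ∈ D) (h : ∀ x ∈ B, Commute e x) :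
    e ∈ B := by
  by_contra hn
  obtain ⟨x, hx⟩ : B.Nonempty := Set.nonempty_of_ncard_ne_zero (by rw [hB.card]; norm_num)
  have := hB.outside e he hn x hx (h x hx)
  rw [show {y | y ∈ B ∧ Commute e y} = B from Set.ext fun y => ⟨fun k => k.1, fun k => ⟨k, h y k⟩⟩, hB.card] at this
  omega

/-- The data of type M(22). -/
structure Data22 [Finite G] (D : Set G) (F : Type v) [Field F] [Fintype F] : Prop where
  four : Fintype.card F = 2 ^ 2
  loc : Local D 3510 693 180 126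
  stage : ∃ E : Set (Cfsg.PSU 6 F 2), Stage D E 693 180 51 45 ∧ USix.TClass E
  rel : NoRel D 4
  base : ∃ (d : G) (π : Hd D d →* Cfsg.PSU 6 F 2), IsBase D d π ∧ LineClass (imgSet D d π)

theorem exists_data22 [Finite G] (hD : Cfsg.IsThreeTranspositionGroup D) (hprim : Cfsg.IsPrimitiveUnderConj D)
    (h : Cfsg.IsOfTypeM22 G D) : ∃ (F : Type) (_ : Field F) (_ : Fintype F), Data22 D F := by
  obtain ⟨d, c, F, _, _, π, hB, -, -, hloc, -, hF⟩ := bottom22 hD h
  exact ⟨F, inferInstance, inferInstance, hF, local22 hD hprim h,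
    ⟨_, stage_of_base hD hprim h.1 hloc hB rfl,
      ⟨hloc.group.1, hloc.group.2.1, hloc.rigid.nonabelian.imp fun _ h => h.1⟩⟩,
    (good22 hD h).rel 4 (by norm_num) (by norm_num), d, π, hB,
    USix.lineClass hF hB.img_isThreeTranspositionSet hB.img_conj (hB.exists_img_ne (psu_six_noncomm hF))⟩

theorem commute_pair_conj (hs : Cfsg.IsThreeTranspositionSet D) {a b e : G} (ha : a ∈ D) (hb : b ∈ D) (he : e ∈ D)
    (hab : Commute a b) (hea : ¬ Commute e a) (heb : ¬ Commute e b) : Commute e (a * b * e * (a * b)) := by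
  have h1 : Commute (a * e * a) (b * e * b) := by
    rw [← braid hs he ha hea, ← braid hs he hb heb]
    have := (commute_conj_iff e a b).2 hab
    rwa [inv_eq hs he] at this
  have h2 := (commute_conj_iff a (a * e * a) (b * e * b)).2 h1
  rw [inv_eq hs ha, show a * (a * e * a) * a = e by simp [mul_assoc, mul_self_mul hs ha, mul_self hs ha],
    show a * (b * e * b) * a = a * b * e * (a * b) by simp only [mul_assoc]; rw [hab.eq]] at h2
  exact h2

theorem not_commute_triple_conj (hs : Cfsg.IsThreeTranspositionSet D) (hD : ConjClosed D) {b c d g : G} (hb : b ∈ D)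
    (hc : c ∈ D) (hd : d ∈ D) (hg : g ∈ D) (hbc : Commute b c) (hbd : Commute b d) (hcd : Commute c d)
    (n1 : ¬ Commute g b) (n2 : ¬ Commute g c) (n3 : ¬ Commute g d) :
    ¬ Commute g (d * (b * c * g * (b * c)) * d) := by
  intro h
  set u := b * c * g * (b * c) with hu
  have hgu : Commute g u := commute_pair_conj hs hb hc hg hbc n1 n2
  have hui : (b * c)⁻¹ = b * c := by rw [mul_inv_rev, inv_eq hs hb, inv_eq hs hc, hbc.eq]
  have hum : u ∈ D := by
    have := hD.conj (b * c) g hg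
    rwa [hui] at this
  have nud : ¬ Commute d u := fun k => n3 (by
    have := (commute_conj_iff (b * c) d g).1 (by
      rwa [hui, show b * c * d * (b * c) = d by
        rw [(hbd.mul_left hcd).eq, mul_assoc d, show b * c * (b * c) = 1 by
          nth_rewrite 1 [← hui]; rw [inv_mul_cancel], mul_one]])
    exact this.symm)
  rw [braid hs hd hum nud] at h
  refine n3 ?_
  have := (hgu.mul_right h).mul_right hgu
  rwa [show u * (u * d * u) * u = d by simp [mul_assoc, mul_self_mul hs hum, mul_self hs hum]] at this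

namespace Data22

variable [Finite G] {F : Type v} [Field F] [Fintype F] (K : Data22 D F)
include K

theorem closed : ConjClosed D := K.loc.closed

theorem conn : (Cfsg.commutingGraph D).Connected := by
  obtain ⟨E, S, -⟩ := K.stage
  exact S.classTwo.connected_of_primitive S.prim S.width

/-- The six through three. -/
theorem hex_spec {a b c : G} (ha : a ∈ D) (hb : b ∈ D) (hc : c ∈ D) (nab : a ≠ b) (nac : a ≠ c) (nbc : b ≠ c)
    (cab : Commute a b) (cac : Commute a c) (cbc : Commute b c) :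
    ∃ f g h : G, Line D a b c f g h ∧ a * b * c * f * g * h = 1 ∧
      hex D a b c = {y | y ∈ [a, b, c, f, g, h]} ∧
      ∀ x ∈ hex D a b c, x ≠ a → x ≠ b → ∀ z ∈ D, Commute z a → Commute z b → Commute z x → Commute z c := by
  obtain ⟨E, S, -⟩ := K.stage
  obtain ⟨d, π, hB, hE⟩ := K.base
  obtain ⟨f, g, h, hL, hprod⟩ := hB.six_exists S.prim.1 S.twins hE S.center K.conn ha hb hc nab nac nbc cab cac cbc
  obtain ⟨πa, hBa, hEa⟩ := hB.exists_base S.prim.1 ha
  have h5 := hBa.five_lift S.prim.1 S.twins (hEa.symm ▸ hE) hL.nodup rfl hL.mem hL.comm (fun y hy => by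
    simpa [mul_assoc] using hL.cen y hy)
  have hset : hex D a b c = {y | y ∈ [a, b, c, f, g, h]} := by
    ext y
    constructor
    · rintro ⟨hy, hyz⟩
      have ya : Commute y a := hyz a ha (Commute.refl a) cab cac
      by_cases e : y = a
      · simp [e]
      exact List.mem_cons_of_mem a (hL.sep y ⟨hy, e, ya.symm⟩ (hyz b hb cab.symm (Commute.refl b) cbc)
        (hyz c hc cac.symm cbc.symm (Commute.refl c)) fun z hz zb zc => hyz z hz.1 hz.2.2.symm zb zc)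
    · intro hy
      rcases List.mem_cons.1 hy with e | hy'
      · exact ⟨e ▸ ha, fun z _ za _ _ => e ▸ za.symm⟩
      refine ⟨(hL.mem y hy').1, fun z hz za zb zc => ?_⟩
      by_cases e : z = a
      · exact e ▸ (hL.mem y hy').2.2.symm
      exact (h5 b (by simp) c (by simp) nbc y hy' z ⟨hz, e, za.symm⟩ zb zc).symm
  refine ⟨f, g, h, hL, hprod, hset, fun x hx xa xb z hz za zb zx => ?_⟩
  rw [hset] at hx
  have hx' := (List.mem_cons.1 hx).resolve_left xa
  by_cases e : z = a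
  · exact e ▸ cac
  exact h5 b (by simp) x hx' (Ne.symm xb) c (by simp) z ⟨hz, e, za.symm⟩ zb zx

theorem ncard_hex {a b c : G} (ha : a ∈ D) (hb : b ∈ D) (hc : c ∈ D) (nab : a ≠ b) (nac : a ≠ c) (nbc : b ≠ c)
    (cab : Commute a b) (cac : Commute a c) (cbc : Commute b c) : (hex D a b c).ncard = 6 := by
  classical
  obtain ⟨f, g, h, hL, -, hset, -⟩ := K.hex_spec ha hb hc nab nac nbc cab cac cbc
  have hnd : [a, b, c, f, g, h].Nodup := List.nodup_cons.2 ⟨fun k => (hL.mem a k).2.1 rfl, hL.nodup⟩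
  rw [hset, show {y | y ∈ [a, b, c, f, g, h]} = (↑([a, b, c, f, g, h].toFinset) : Set G) by ext; simp,
    Set.ncard_coe_finset, List.toFinset_card_of_nodup hnd]
  rfl

omit [Finite G] [Fintype F] K in
theorem mem_hex {a b c : G} (ha : a ∈ D) (hb : b ∈ D) (hc : c ∈ D) : a ∈ hex D a b c ∧ b ∈ hex D a b c ∧ c ∈ hex D a b c :=
  ⟨⟨ha, fun _ _ za _ _ => za.symm⟩, ⟨hb, fun _ _ _ zb _ => zb.symm⟩, hc, fun _ _ _ _ zc => zc.symm⟩

theorem base_at {a b c w z : G} (ha : a ∈ D) (hb : b ∈ Dd D a) (hc : c ∈ Dd D a) (hw : w ∈ Dd D a) (hz : z ∈ Dd D a)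
    (nbc : b ≠ c) (cbc : Commute b c) (cbw : Commute b w) (ccw : Commute c w) (zb : Commute z b) (zc : Commute z c)
    (zw : ¬ Commute w z) :
    let B := {y | y ∈ D ∧ Commute y a ∧ Commute y b ∧ Commute y c ∧ Commute y w}
    (∀ x ∈ B, ∀ y ∈ B, Commute x y) ∧ B.ncard = 22 ∧
      ∀ e ∈ D, e ∉ B → Commute e a → {y | y ∈ B ∧ Commute e y}.ncard = 6 := by
  intro B
  obtain ⟨E, S, T⟩ := K.stage
  obtain ⟨π, M⟩ := S.base a ha
  obtain ⟨p1, p2, p3⟩ := T.plane K.four (M.mem hb) (M.mem hc) (M.mem hw) (M.mem hz)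
    (fun e => nbc (M.inj hb hc e)) ((M.comm hb hc).2 cbc) ((M.comm hb hw).2 cbw) ((M.comm hc hw).2 ccw)
    ((M.comm hz hb).2 zb) ((M.comm hz hc).2 zc) (fun e => zw ((M.comm hw hz).1 e))
  set P := B \ {a} with hP
  have hPd : ∀ y ∈ P, y ∈ Dd D a := fun y hy => ⟨hy.1.1, hy.2, hy.1.2.1.symm⟩
  have himg : ∀ (Q : G → Prop) (Q' : Cfsg.PSU 6 F 2 → Prop), (∀ y ∈ Dd D a, (Q' (phi π y) ↔ Q y)) →
      {y | y ∈ P ∧ Q y}.ncard =
        {x | x ∈ E ∧ Commute x (phi π b) ∧ Commute x (phi π c) ∧ Commute x (phi π w) ∧ Q' x}.ncard := by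
    intro Q Q' hQ
    rw [← Set.InjOn.ncard_image (s := {y | y ∈ P ∧ Q y}) (f := phi π)
      fun x hx y hy h => M.inj (hPd x hx.1) (hPd y hy.1) h]
    congr 1
    ext x
    constructor
    · rintro ⟨y, ⟨hy, hq⟩, rfl⟩
      have hd := hPd y hy
      exact ⟨M.mem hd, (M.comm hd hb).2 hy.1.2.2.1, (M.comm hd hc).2 hy.1.2.2.2.1, (M.comm hd hw).2 hy.1.2.2.2.2,
        (hQ y hd).2 hq⟩
    · rintro ⟨hx, x1, x2, x3, x4⟩
      obtain ⟨y, hy, rfl⟩ := M.onto hx
      exact ⟨y, ⟨⟨⟨hy.1, hy.2.2.symm, (M.comm hy hb).1 x1, (M.comm hy hc).1 x2, (M.comm hy hw).1 x3⟩, hy.2.1⟩,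
        (hQ y hy).1 x4⟩, rfl⟩
  have haB : a ∈ B := ⟨ha, Commute.refl a, hb.2.2, hc.2.2, hw.2.2⟩
  refine ⟨fun x hx y hy => ?_, ?_, fun e he heB hea => ?_⟩
  · by_cases ex : x = a
    · exact ex ▸ hy.2.1.symm
    by_cases ey : y = a
    · exact ey ▸ hx.2.1
    have dx := hPd x ⟨hx, ex⟩
    have dy := hPd y ⟨hy, ey⟩
    exact (M.comm dx dy).1 (p1 _ (M.mem dx) _ (M.mem dy) ((M.comm dx hb).2 hx.2.2.1) ((M.comm dx hc).2 hx.2.2.2.1)
      ((M.comm dx hw).2 hx.2.2.2.2) ((M.comm dy hb).2 hy.2.2.1) ((M.comm dy hc).2 hy.2.2.2.1)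
      ((M.comm dy hw).2 hy.2.2.2.2))
  · have h := himg (fun _ => True) (fun _ => True) fun _ _ => Iff.rfl
    simp only [and_true, Set.setOf_mem_eq] at h
    rw [p2, hP, Set.ncard_sdiff_singleton_of_mem haB] at h
    omega
  · have de : e ∈ Dd D a := ⟨he, fun k => heB (k ▸ haB), hea.symm⟩
    have h := himg (fun y => Commute e y) (fun x => Commute (phi π e) x) fun y hy => M.comm de hy
    rw [p3 _ (M.mem de) fun k => heB ⟨he, hea, (M.comm de hb).1 k.1, (M.comm de hc).1 k.2.1,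
      (M.comm de hw).1 k.2.2⟩] at h
    rw [show {y | y ∈ B ∧ Commute e y} = insert a {y | y ∈ P ∧ Commute e y} from Set.ext fun y => ?_,
      Set.ncard_insert_of_notMem (fun k => k.1.2 rfl) (Set.toFinite _), h]
    constructor
    · intro hy
      by_cases ey : y = a
      exacts [Or.inl ey, Or.inr ⟨⟨hy.1, ey⟩, hy.2⟩]
    · rintro (rfl | hy)
      exacts [⟨haB, hea⟩, ⟨hy.1.1, hy.2⟩]

/-- A member commuting with three and outside their six gives a base. -/
theorem exists_base22 {a b c w : G} (ha : a ∈ D) (hb : b ∈ D) (hc : c ∈ D) (nab : a ≠ b) (nac : a ≠ c) (nbc : b ≠ c)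
    (cab : Commute a b) (cac : Commute a c) (cbc : Commute b c) (hw : w ∈ D) (wa : Commute w a) (wb : Commute w b)
    (wc : Commute w c) (hwH : w ∉ hex D a b c) :
    IsBase22 D {y | y ∈ D ∧ Commute y a ∧ Commute y b ∧ Commute y c ∧ Commute y w} := by
  have key : ∀ {a b c w : G}, a ∈ D → b ∈ D → c ∈ D → a ≠ b → a ≠ c → b ≠ c → Commute a b → Commute a c →
      Commute b c → w ∈ D → Commute w a → Commute w b → Commute w c → w ∉ hex D a b c →
      let B := {y | y ∈ D ∧ Commute y a ∧ Commute y b ∧ Commute y c ∧ Commute y w}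
      (∀ x ∈ B, ∀ y ∈ B, Commute x y) ∧ B.ncard = 22 ∧
        ∀ e ∈ D, e ∉ B → Commute e a → {y | y ∈ B ∧ Commute e y}.ncard = 6 := by
    intro a b c w ha hb hc nab nac nbc cab cac cbc hw wa wb wc hwH
    have : ∃ z ∈ D, Commute z a ∧ Commute z b ∧ Commute z c ∧ ¬ Commute w z := by
      by_contra! h
      exact hwH ⟨hw, fun z hz za zb zc => h z hz za zb zc⟩
    obtain ⟨z, hz, za, zb, zc, zw⟩ := this
    exact K.base_at ha ⟨hb, Ne.symm nab, cab⟩ ⟨hc, Ne.symm nac, cac⟩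
      ⟨hw, fun e => hwH (e ▸ (mem_hex ha hb hc).1), wa.symm⟩ ⟨hz, fun e => zw (e ▸ wa), za.symm⟩
      nbc cbc wb.symm wc.symm zb zc zw
  obtain ⟨h1, h2, h3⟩ := key ha hb hc nab nac nbc cab cac cbc hw wa wb wc hwH
  set B := {y | y ∈ D ∧ Commute y a ∧ Commute y b ∧ Commute y c ∧ Commute y w}
  refine ⟨fun y hy => hy.1, h1, h2, fun e he heB x hx hex' => ?_⟩
  obtain ⟨p, hp, hpx⟩ := Set.exists_ne_of_one_lt_ncard (s := B) (by omega) x
  obtain ⟨q, hq, hq'⟩ := Set.exists_mem_notMem_of_ncard_lt_ncard (s := ({x, p} : Set G)) (t := B)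
    (by rw [h2]; exact (Set.ncard_insert_le _ _).trans_lt (by rw [Set.ncard_singleton]; norm_num))
  simp only [Set.mem_insert_iff, Set.mem_singleton_iff, not_or] at hq'
  have nxp : x ≠ p := Ne.symm hpx
  have nxq : x ≠ q := Ne.symm hq'.1
  have npq : p ≠ q := Ne.symm hq'.2
  obtain ⟨r, hr, hr'⟩ := Set.exists_mem_notMem_of_ncard_lt_ncard (s := hex D x p q) (t := B)
    (by rw [h2, K.ncard_hex hx.1 hp.1 hq.1 nxp nxq npq (h1 x hx p hp) (h1 x hx q hq) (h1 p hp q hq)]; norm_num)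
  obtain ⟨-, k2, k3⟩ := key hx.1 hp.1 hq.1 nxp nxq npq (h1 x hx p hp) (h1 x hx q hq) (h1 p hp q hq) hr.1
    (h1 r hr x hx) (h1 r hr p hp) (h1 r hr q hq) hr'
  have heq : B = {y | y ∈ D ∧ Commute y x ∧ Commute y p ∧ Commute y q ∧ Commute y r} :=
    Set.eq_of_subset_of_ncard_le (fun y hy => ⟨hy.1, h1 y hy x hx, h1 y hy p hp, h1 y hy q hq, h1 y hy r hr⟩)
      (by rw [k2, h2]) (Set.toFinite _)
  rw [heq] at heB ⊢
  exact k3 e he heB hex'

/-- The number of members outside the six commuting with three. -/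
theorem ncard_outer {a b c : G} (ha : a ∈ D) (hb : b ∈ D) (hc : c ∈ D) (nab : a ≠ b) (nac : a ≠ c) (nbc : b ≠ c)
    (cab : Commute a b) (cac : Commute a c) (cbc : Commute b c) :
    ({y | y ∈ D ∧ Commute y a ∧ Commute y b ∧ Commute y c} \ hex D a b c).ncard = 48 := by
  obtain ⟨E, S, T⟩ := K.stage
  obtain ⟨π, M⟩ := S.base a ha
  have db : b ∈ Dd D a := ⟨hb, Ne.symm nab, cab⟩
  have dc : c ∈ Dd D a := ⟨hc, Ne.symm nac, cac⟩
  have h51 : (Dd D a ∩ (Dd D b ∩ Dd D c)).ncard = 51 := by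
    rw [M.card_two db dc]
    exact S.loc.lam _ (M.mem db) _ ((M.mem_Dd db dc).2 ⟨hc, Ne.symm nbc, cbc⟩)
  have hset : {y | y ∈ D ∧ Commute y a ∧ Commute y b ∧ Commute y c} =
      insert a (insert b (insert c (Dd D a ∩ (Dd D b ∩ Dd D c)))) := by
    ext y
    constructor
    · rintro ⟨hy, ya, yb, yc⟩
      by_cases e1 : y = a; · exact Or.inl e1
      by_cases e2 : y = b; · exact Or.inr (Or.inl e2)
      by_cases e3 : y = c; · exact Or.inr (Or.inr (Or.inl e3))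
      exact Or.inr (Or.inr (Or.inr ⟨⟨hy, e1, ya.symm⟩, ⟨hy, e2, yb.symm⟩, hy, e3, yc.symm⟩))
    · rintro (rfl | rfl | rfl | ⟨h1, h2, h3⟩)
      exacts [⟨ha, Commute.refl _, cab, cac⟩, ⟨hb, cab.symm, Commute.refl _, cbc⟩,
        ⟨hc, cac.symm, cbc.symm, Commute.refl _⟩, ⟨h1.1, h1.2.2.symm, h2.2.2.symm, h3.2.2.symm⟩]
  have hsub : hex D a b c ⊆ {y | y ∈ D ∧ Commute y a ∧ Commute y b ∧ Commute y c} := fun y hy =>
    ⟨hy.1, hy.2 a ha (Commute.refl a) cab cac, hy.2 b hb cab.symm (Commute.refl b) cbc,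
      hy.2 c hc cac.symm cbc.symm (Commute.refl c)⟩
  rw [Set.ncard_sdiff hsub, K.ncard_hex ha hb hc nab nac nbc cab cac cbc, hset,
    Set.ncard_insert_of_notMem, Set.ncard_insert_of_notMem, Set.ncard_insert_of_notMem, h51]
  · exact fun h => h.2.2.2.1 rfl
  · rintro (h | h); exacts [nbc h, h.2.1.2.1 rfl]
  · rintro (h | h | h); exacts [nab h, nac h, h.1.2.1 rfl]

section InBase

variable {B : Set G} (hB : IsBase22 D B)
include hB

/-- The six of three members of a base lie in it, and are what a member outside commutes with. -/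
theorem six_in_base {a b c : G} (ha : a ∈ B) (hb : b ∈ B) (hc : c ∈ B) :
    hex D a b c ⊆ B ∧ (a ≠ b → a ≠ c → b ≠ c → ∀ g ∈ D, g ∉ B → Commute g a → Commute g b → Commute g c →
      {y | y ∈ B ∧ Commute g y} = hex D a b c) := by
  have hsub : hex D a b c ⊆ B := fun y hy => hB.maximal hy.1 fun x hx =>
    hy.2 x (hB.sub hx) (hB.comm x hx a ha) (hB.comm x hx b hb) (hB.comm x hx c hc)
  refine ⟨hsub, fun nab nac nbc g hg hgB ga gb gc => ?_⟩
  have h1 : hex D a b c ⊆ {y | y ∈ B ∧ Commute g y} := fun y hy => ⟨hsub hy, (hy.2 g hg ga gb gc).symm⟩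
  refine (Set.eq_of_subset_of_ncard_le h1 ?_ (Set.toFinite _)).symm
  rw [hB.outside g hg hgB a ha ga, K.ncard_hex (hB.sub ha) (hB.sub hb) (hB.sub hc) nab nac nbc (hB.comm a ha b hb)
    (hB.comm a ha c hc) (hB.comm b hb c hc)]

/-- At most twelve members commute with three of a base and with a member commuting with none of it. -/
theorem twelve {a b c e : G} (ha : a ∈ B) (hb : b ∈ B) (hc : c ∈ B) (nab : a ≠ b) (nac : a ≠ c) (nbc : b ≠ c)
    (he : e ∈ D) (hea : ¬ Commute e a) :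
    {g | g ∈ D ∧ g ∉ B ∧ Commute g a ∧ Commute g b ∧ Commute g c ∧ Commute e g}.ncard ≤ 12 := by
  set H := hex D a b c
  set W := {y | y ∈ D ∧ Commute y a ∧ Commute y b ∧ Commute y c} \ H with hW
  have cab := hB.comm a ha b hb
  have cac := hB.comm a ha c hc
  have cbc := hB.comm b hb c hc
  let Bs : G → Set G := fun w => {y | y ∈ D ∧ Commute y a ∧ Commute y b ∧ Commute y c ∧ Commute y w}
  have hbase : ∀ w ∈ W, IsBase22 D (Bs w) := fun w hw =>
    K.exists_base22 (hB.sub ha) (hB.sub hb) (hB.sub hc) nab nac nbc cab cac cbc hw.1.1 hw.1.2.1 hw.1.2.2.1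
      hw.1.2.2.2 hw.2
  -- a base through the three and a member outside their six is the one given by that member
  have huniq : ∀ {C : Set G}, IsBase22 D C → a ∈ C → b ∈ C → c ∈ C → ∀ w ∈ W, w ∈ C → C = Bs w := by
    intro C hC xa xb xc w hw xw
    refine Set.eq_of_subset_of_ncard_le (fun y hy => ⟨hC.sub hy, hC.comm y hy a xa, hC.comm y hy b xb,
      hC.comm y hy c xc, hC.comm y hy w xw⟩) ?_ (Set.toFinite _)
    rw [(hbase w hw).card, hC.card]
  have habc : ∀ w ∈ W, a ∈ Bs w ∧ b ∈ Bs w ∧ c ∈ Bs w := fun w hw =>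
    ⟨⟨hB.sub ha, Commute.refl _, cab, cac, hw.1.2.1.symm⟩, ⟨hB.sub hb, cab.symm, Commute.refl _, cbc, hw.1.2.2.1.symm⟩,
      hB.sub hc, cac.symm, cbc.symm, Commute.refl _, hw.1.2.2.2.symm⟩
  have hsix : ∀ {C : Set G}, IsBase22 D C → a ∈ C → b ∈ C → c ∈ C → (C ∩ W).ncard = 16 := by
    intro C hC xa xb xc
    have e : C ∩ W = C \ H := Set.ext fun y => ⟨fun h => ⟨h.1, h.2.2⟩, fun h =>
      ⟨h.1, ⟨hC.sub h.1, hC.comm y h.1 a xa, hC.comm y h.1 b xb, hC.comm y h.1 c xc⟩, h.2⟩⟩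
    rw [e, Set.ncard_sdiff (K.six_in_base hC xa xb xc).1, hC.card,
      K.ncard_hex (hB.sub ha) (hB.sub hb) (hB.sub hc) nab nac nbc cab cac cbc]
  set T := {g | g ∈ D ∧ g ∉ B ∧ Commute g a ∧ Commute g b ∧ Commute g c ∧ Commute e g}
  have hTW : T ⊆ W := fun g hg => ⟨⟨hg.1, hg.2.2.1, hg.2.2.2.1, hg.2.2.2.2.1⟩,
    fun h => hg.2.1 ((K.six_in_base hB ha hb hc).1 h)⟩
  have hbound : ∀ w ∈ W, (T ∩ Bs w).ncard ≤ 6 := fun w hw => by
    rcases (T ∩ Bs w).eq_empty_or_nonempty with h | ⟨g, hg⟩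
    · rw [h, Set.ncard_empty]; norm_num
    rw [← (hbase w hw).outside e he (fun k => hea k.2.1) g hg.2 hg.1.2.2.2.2.2]
    exact Set.ncard_le_ncard (fun x hx => ⟨hx.2, hx.1.2.2.2.2.2⟩) (Set.toFinite _)
  rcases T.eq_empty_or_nonempty with h | ⟨g₁, hg₁⟩
  · rw [h, Set.ncard_empty]; norm_num
  have hw₁ := hTW hg₁
  by_cases h2 : T ⊆ Bs g₁
  · rw [← Set.inter_eq_left.2 h2]
    exact (hbound g₁ hw₁).trans (by norm_num)
  obtain ⟨g₂, hg₂, hg₂'⟩ := Set.not_subset.1 h2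
  have hw₂ := hTW hg₂
  suffices hcov : T ⊆ (T ∩ Bs g₁) ∪ (T ∩ Bs g₂) by
    refine ((Set.ncard_le_ncard hcov (Set.toFinite _)).trans (Set.ncard_union_le _ _)).trans ?_
    have := hbound g₁ hw₁
    have := hbound g₂ hw₂
    omega
  have d12 : Disjoint (Bs g₁ ∩ W) (Bs g₂ ∩ W) := Set.disjoint_left.2 fun y hy hy' => hg₂' (by
    rw [huniq (hbase g₁ hw₁) (habc g₁ hw₁).1 (habc g₁ hw₁).2.1 (habc g₁ hw₁).2.2 y hy.2 hy.1,
      ← huniq (hbase g₂ hw₂) (habc g₂ hw₂).1 (habc g₂ hw₂).2.1 (habc g₂ hw₂).2.2 y hy'.2 hy'.1]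
    exact ⟨hw₂.1.1, hw₂.1.2.1, hw₂.1.2.2.1, hw₂.1.2.2.2, Commute.refl _⟩)
  have d0 : ∀ {g : G}, g ∈ T → g ∈ W → Disjoint (B ∩ W) (Bs g ∩ W) := fun {g} hg hw => Set.disjoint_left.2
    fun y hy hy' => hg.2.1 (by
      rw [huniq hB ha hb hc y hy.2 hy.1, ← huniq (hbase g hw) (habc g hw).1 (habc g hw).2.1 (habc g hw).2.2 y hy'.2 hy'.1]
      exact ⟨hw.1.1, hw.1.2.1, hw.1.2.2.1, hw.1.2.2.2, Commute.refl _⟩)
  have hall : B ∩ W ∪ Bs g₁ ∩ W ∪ Bs g₂ ∩ W = W := by
    refine Set.eq_of_subset_of_ncard_le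
      (Set.union_subset (Set.union_subset Set.inter_subset_right Set.inter_subset_right) Set.inter_subset_right)
      ?_ (Set.toFinite _)
    rw [Set.ncard_union_eq (Set.disjoint_union_left.2 ⟨d0 hg₂ hw₂, d12⟩) (Set.toFinite _) (Set.toFinite _),
      Set.ncard_union_eq (d0 hg₁ hw₁) (Set.toFinite _) (Set.toFinite _), hsix hB ha hb hc,
      hsix (hbase g₁ hw₁) (habc g₁ hw₁).1 (habc g₁ hw₁).2.1 (habc g₁ hw₁).2.2,
      hsix (hbase g₂ hw₂) (habc g₂ hw₂).1 (habc g₂ hw₂).2.1 (habc g₂ hw₂).2.2,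
      K.ncard_outer (hB.sub ha) (hB.sub hb) (hB.sub hc) nab nac nbc cab cac cbc]
  intro g hg
  rcases hall.symm ▸ hTW hg with (h | h) | h
  exacts [absurd h.1 hg.2.1, Or.inl ⟨hg, h.1⟩, Or.inr ⟨hg, h.1⟩]

end InBase

end Data22

end CfsgLib.ThreeTrans.Tower
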