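import Mathlib
import Cfsg.Agent.Lib.ThreeTrans.Tower.Bases
import Cfsg.Agent.Lib.ThreeTrans.Tower.Orders

/-! The members commuting with `e` and with no member of a base are the conjugates of `e` by pairs of the base. -/

set_option autoImplicit false

namespace CfsgLib.ThreeTrans.Tower

universe u v

theorem sum_count {α β : Type*} [Finite α] [Finite β] (s : Set α) (t : Set β) (R : α → β → Prop) :
    ∃ (s' : Finset α) (t' : Finset β), (↑s' : Set α) = s ∧ (↑t' : Set β) = t ∧
      ∑ a ∈ s', {b | b ∈ t ∧ R a b}.ncard = ∑ b ∈ t', {a | a ∈ s ∧ R a b}.ncard := by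
  classical
  refine ⟨(Set.toFinite s).toFinset, (Set.toFinite t).toFinset, by simp, by simp, ?_⟩
  have h := Finset.sum_card_bipartiteAbove_eq_sum_card_bipartiteBelow R
    (s := (Set.toFinite s).toFinset) (t := (Set.toFinite t).toFinset)
  convert h using 2 with a _ b _
  · rw [← Set.ncard_coe_finset]; congr 1; ext; simp [Finset.bipartiteAbove]
  · rw [← Set.ncard_coe_finset]; congr 1; ext; simp [Finset.bipartiteBelow]

theorem count_eq {α β : Type*} [Finite α] [Finite β] (s : Set α) (t : Set β) (R : α → β → Prop) {p q : ℕ}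
    (hp : ∀ a ∈ s, {b | b ∈ t ∧ R a b}.ncard = p) (hq : ∀ b ∈ t, {a | a ∈ s ∧ R a b}.ncard = q) :
    s.ncard * p = t.ncard * q := by
  obtain ⟨s', t', rfl, rfl, h⟩ := sum_count s t R
  rw [Finset.sum_congr rfl fun a ha => hp a ha, Finset.sum_congr rfl fun b hb => hq b hb,
    Finset.sum_const, Finset.sum_const, smul_eq_mul, smul_eq_mul] at h
  simpa using h

theorem count_le {α β : Type*} [Finite α] [Finite β] (s : Set α) (t : Set β) (R : α → β → Prop) {p q : ℕ}
    (hp : ∀ a ∈ s, p ≤ {b | b ∈ t ∧ R a b}.ncard) (hq : ∀ b ∈ t, {a | a ∈ s ∧ R a b}.ncard ≤ q) :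
    s.ncard * p ≤ t.ncard * q := by
  obtain ⟨s', t', rfl, rfl, h⟩ := sum_count s t R
  have h1 := Finset.card_nsmul_le_sum s' _ p hp
  have h2 := Finset.sum_le_card_nsmul t' _ q hq
  simp only [smul_eq_mul] at h1 h2
  simpa using (h1.trans h.le).trans h2

variable {G : Type u} [Group G] {D : Set G}

theorem mul_sq_one {x y : G} (hx : x * x = 1) (hy : y * y = 1) (h : Commute x y) : x * y * (x * y) = 1 := by
  rw [mul_assoc, ← mul_assoc y x y, ← h.eq, mul_assoc x y y, hy, mul_one, hx]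

theorem conj_fix {y u v g : G} (h : y = v * u) (hc : Commute u v) (hu : u * u = 1) (hg : Commute u g) :
    y * g * y = v * g * v := by
  subst h
  calc v * u * g * (v * u) = v * (u * g) * (u * v) := by rw [hc.eq]; simp [mul_assoc]
    _ = v * g * v := by rw [hg.eq]; simp [mul_assoc, show ∀ x : G, u * (u * x) = x from fun x => by
        rw [← mul_assoc, hu, one_mul]]

namespace Data22

variable [Finite G] {F : Type v} [Field F] [Fintype F] (K : Data22 D F) {B : Set G} (hB : IsBase22 D B)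
  {e : G} (he : e ∈ D) (hfar : ∀ x ∈ B, ¬ Commute e x)
include K hB he hfar

omit K he hB in
theorem near_notMem {g : G} (hg : g ∈ Dd D e) : g ∉ B := fun h => hfar g h hg.2.2

omit K in
/-- The conjugate of `e` by a pair of the base is again such a member, commuting with `e`. -/
theorem pair_image (hc : ConjClosed D) {a b : G} (ha : a ∈ B) (hb : b ∈ B) :
    a * b * e * (a * b) ∈ D ∧ Commute e (a * b * e * (a * b)) ∧ ∀ x ∈ B, ¬ Commute (a * b * e * (a * b)) x := by
  have hs := hc.set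
  have hcm := hB.comm a ha b hb
  have hji : (a * b)⁻¹ = a * b := by rw [mul_inv_rev, inv_eq hs (hB.sub ha), inv_eq hs (hB.sub hb), hcm.eq]
  refine ⟨?_, commute_pair_conj hs (hB.sub ha) (hB.sub hb) he hcm (hfar a ha) (hfar b hb), fun x hx h => ?_⟩
  · have := hc.conj (a * b) e he
    rwa [hji] at this
  · refine hfar x hx ((commute_conj_iff (a * b) e x).1 ?_)
    rw [((hB.comm a ha x hx).mul_left (hB.comm b hb x hx)).eq, mul_inv_cancel_right, hji]
    exact h

section Four

variable {a b c d : G} (ha : a ∈ B) (hb : b ∈ B) (hc : c ∈ B) (hd : d ∈ B)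
include ha hb hc hd

omit he hfar in
/-- A product of four in a six is a product of two. -/
theorem four_hex (nab : a ≠ b) (nac : a ≠ c) (nad : a ≠ d) (nbc : b ≠ c) (nbd : b ≠ d) (ncd : c ≠ d)
    (hH : d ∈ hex D a b c) :
    ∃ v w : G, v ∈ B ∧ w ∈ B ∧ v ≠ w ∧ a * b * c * d = v * w := by
  have hs := K.closed.set
  have cm : ∀ {x y : G}, x ∈ B → y ∈ B → Commute x y := fun hx hy => hB.comm _ hx _ hy
  obtain ⟨f, g, h, hL, hprod, hset, -⟩ :=
    K.hex_spec (hB.sub ha) (hB.sub hb) (hB.sub hc) nab nac nbc (cm ha hb) (cm ha hc) (cm hb hc)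
  have hsub := (K.six_in_base hB ha hb hc).1
  have hin : ∀ x ∈ [f, g, h], x ∈ B := fun x hx => hsub (by
    rw [hset]; exact List.mem_cons_of_mem _ (List.mem_cons_of_mem _ (List.mem_cons_of_mem _ hx)))
  have hf := hin f (by simp)
  have hg := hin g (by simp)
  have hh := hin h (by simp)
  have hnd : [f, g, h].Nodup := (List.nodup_cons.1 (List.nodup_cons.1 hL.nodup).2).2
  simp only [List.nodup_cons, List.mem_cons, List.not_mem_nil, or_false, not_or] at hnd
  have hd3 : d = f ∨ d = g ∨ d = h := by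
    rw [hset] at hH
    simp only [Set.mem_setOf_eq, List.mem_cons, List.not_mem_nil, or_false] at hH
    exact (((hH.resolve_left (Ne.symm nad)).resolve_left (Ne.symm nbd)).resolve_left (Ne.symm ncd))
  have fin : ∀ v w : G, v ∈ B → w ∈ B → v ≠ w → a * b * c * d * (v * w) = 1 →
      ∃ v w : G, v ∈ B ∧ w ∈ B ∧ v ≠ w ∧ a * b * c * d = v * w := fun v w hv hw hne h1 =>
    ⟨w, v, hw, hv, Ne.symm hne, by
      rw [eq_inv_of_mul_eq_one_left h1, mul_inv_rev, inv_eq hs (hB.sub hv), inv_eq hs (hB.sub hw)]⟩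
  rcases hd3 with e1 | e1 | e1
  · exact fin g h hg hh hnd.2.1 (by rw [e1, ← hprod]; simp [mul_assoc])
  · refine fin f h hf hh hnd.1.2 ?_
    rw [e1, ← hprod]
    simp only [mul_assoc]
    rw [← mul_assoc g f, (cm hg hf).eq, mul_assoc]
  · refine fin f g hf hg hnd.1.1 ?_
    rw [e1, ← hprod]
    simp only [mul_assoc]
    rw [((cm hh hf).mul_right (cm hh hg)).eq, mul_assoc]

omit K he hfar in
theorem four_sq (hs : Cfsg.IsThreeTranspositionSet D) :
    a * b * c * d * (a * b * c * d) = 1 := by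
  have sq : ∀ {x : G}, x ∈ B → x * x = 1 := fun hx => mul_self hs (hB.sub hx)
  have cm : ∀ {x y : G}, x ∈ B → y ∈ B → Commute x y := fun hx hy => hB.comm _ hx _ hy
  have h1 : a * b * (a * b) = 1 := mul_sq_one (sq ha) (sq hb) (cm ha hb)
  have h2 : a * b * c * (a * b * c) = 1 := mul_sq_one h1 (sq hc) ((cm ha hc).mul_left (cm hb hc))
  exact mul_sq_one h2 (sq hd) (((cm ha hd).mul_left (cm hb hd)).mul_left (cm hc hd))

omit he hfar in
/-- With an odd number among three not commuting, the image under the product of four does not commute. -/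
theorem four_odd {g : G} (hgD : g ∈ D) (ga : Commute g a)
    (hcase : (¬ Commute g b ∧ ¬ Commute g c ∧ ¬ Commute g d) ∨ (¬ Commute g b ∧ Commute g c ∧ Commute g d) ∨
      (Commute g b ∧ ¬ Commute g c ∧ Commute g d) ∨ (Commute g b ∧ Commute g c ∧ ¬ Commute g d)) :
    ¬ Commute g (a * b * c * d * g * (a * b * c * d)) := by
  have hD := K.closed
  have hs := hD.set
  have cm : ∀ {x y : G}, x ∈ B → y ∈ B → Commute x y := fun hx hy => hB.comm _ hx _ hy
  have sq : ∀ {x : G}, x ∈ B → x * x = 1 := fun hx => mul_self hs (hB.sub hx)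
  have single : ∀ x ∈ B, ¬ Commute g x → ¬ Commute g (x * g * x) := fun x hx hn h => hn (by
    have h' := (commute_conj_iff g g (x * g * x)).2 h
    rw [inv_eq hs hgD, show g * g * g = g by rw [mul_self hs hgD, one_mul],
      show g * (x * g * x) * g = x by
        rw [← braid hs hgD (hB.sub hx) hn]; simp [mul_assoc, mul_self_mul hs hgD, mul_self hs hgD]] at h'
    exact h')
  rcases hcase with ⟨n1, n2, n3⟩ | ⟨n1, c2, c3⟩ | ⟨c1, n2, c3⟩ | ⟨c1, c2, n3⟩
  · have hcomm : Commute a (b * c * d) := ((cm ha hb).mul_right (cm ha hc)).mul_right (cm ha hd)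
    rw [conj_fix (u := a) (v := b * c * d) (y := a * b * c * d) (g := g) (by rw [← hcomm.eq]; simp only [mul_assoc])
      hcomm (sq ha) ga.symm]
    have h3 := not_commute_triple_conj hs hD (hB.sub hb) (hB.sub hc) (hB.sub hd) hgD (cm hb hc) (cm hb hd)
      (cm hc hd) n1 n2 n3
    have e : b * c * d * g * (b * c * d) = d * (b * c * g * (b * c)) * d := by
      conv_lhs => arg 1; rw [((cm hb hd).mul_left (cm hc hd)).eq]
      simp only [mul_assoc]
    rwa [e]
  · have hcomm : Commute (a * c * d) b := ((cm ha hb).mul_left (cm hc hb)).mul_left (cm hd hb)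
    rw [conj_fix (u := a * c * d) (v := b) (y := a * b * c * d) (g := g)
      (by rw [(cm ha hb).eq]; simp only [mul_assoc]) hcomm
      (mul_sq_one (mul_sq_one (sq ha) (sq hc) (cm ha hc)) (sq hd) ((cm ha hd).mul_left (cm hc hd)))
      ((ga.symm.mul_left c2.symm).mul_left c3.symm)]
    exact single b hb n1
  · have hcomm : Commute (a * b * d) c := ((cm ha hc).mul_left (cm hb hc)).mul_left (cm hd hc)
    rw [conj_fix (u := a * b * d) (v := c) (y := a * b * c * d) (g := g)
      (by rw [((cm ha hc).mul_left (cm hb hc)).eq]; simp only [mul_assoc]) hcomm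
      (mul_sq_one (mul_sq_one (sq ha) (sq hb) (cm ha hb)) (sq hd) ((cm ha hd).mul_left (cm hb hd)))
      ((ga.symm.mul_left c1.symm).mul_left c3.symm)]
    exact single c hc n2
  · have hcomm : Commute (a * b * c) d := ((cm ha hd).mul_left (cm hb hd)).mul_left (cm hc hd)
    rw [conj_fix (u := a * b * c) (v := d) (y := a * b * c * d) (g := g) hcomm.eq hcomm
      (mul_sq_one (mul_sq_one (sq ha) (sq hb) (cm ha hb)) (sq hc) ((cm ha hc).mul_left (cm hb hc)))
      ((ga.symm.mul_left c1.symm).mul_left c2.symm)]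
    exact single d hd n3

omit he hfar in
/-- With two among three not commuting, the image under the product of four commutes. -/
theorem four_even {g : G} (hgD : g ∈ D) (ga : Commute g a)
    (hcase : (Commute g b ∧ ¬ Commute g c ∧ ¬ Commute g d) ∨ (¬ Commute g b ∧ Commute g c ∧ ¬ Commute g d) ∨
      (¬ Commute g b ∧ ¬ Commute g c ∧ Commute g d)) :
    Commute g (a * b * c * d * g * (a * b * c * d)) := by
  have hs := K.closed.set
  have cm : ∀ {x y : G}, x ∈ B → y ∈ B → Commute x y := fun hx hy => hB.comm _ hx _ hy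
  have sq : ∀ {x : G}, x ∈ B → x * x = 1 := fun hx => mul_self hs (hB.sub hx)
  rcases hcase with ⟨c1, n2, n3⟩ | ⟨n1, c2, n3⟩ | ⟨n1, n2, c3⟩
  · have hcomm : Commute (a * b) (c * d) :=
      ((cm ha hc).mul_right (cm ha hd)).mul_left ((cm hb hc).mul_right (cm hb hd))
    rw [conj_fix (u := a * b) (v := c * d) (y := a * b * c * d) (g := g)
      (by rw [← hcomm.eq]; simp only [mul_assoc]) hcomm
      (mul_sq_one (sq ha) (sq hb) (cm ha hb)) (ga.symm.mul_left c1.symm)]
    exact commute_pair_conj hs (hB.sub hc) (hB.sub hd) hgD (cm hc hd) n2 n3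
  · have hcomm : Commute (a * c) (b * d) :=
      ((cm ha hb).mul_right (cm ha hd)).mul_left ((cm hc hb).mul_right (cm hc hd))
    rw [conj_fix (u := a * c) (v := b * d) (y := a * b * c * d) (g := g)
      (by rw [← hcomm.eq, mul_assoc a b c, (cm hb hc).eq]; simp only [mul_assoc]) hcomm
      (mul_sq_one (sq ha) (sq hc) (cm ha hc)) (ga.symm.mul_left c2.symm)]
    exact commute_pair_conj hs (hB.sub hb) (hB.sub hd) hgD (cm hb hd) n1 n3
  · have hcomm : Commute (a * d) (b * c) :=
      ((cm ha hb).mul_right (cm ha hc)).mul_left ((cm hd hb).mul_right (cm hd hc))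
    rw [conj_fix (u := a * d) (v := b * c) (y := a * b * c * d) (g := g)
      (by rw [mul_assoc a b c, ((cm ha hb).mul_right (cm ha hc)).eq]; simp only [mul_assoc]) hcomm
      (mul_sq_one (sq ha) (sq hd) (cm ha hd)) (ga.symm.mul_left c3.symm)]
    exact commute_pair_conj hs (hB.sub hb) (hB.sub hc) hgD (cm hb hc) n1 n2

omit he in
/-- A product of four fixing `e`: every member near `e` and the first commutes with exactly one of the others. -/
theorem four_one (nab : a ≠ b) (nac : a ≠ c) (nbc : b ≠ c) (hH : d ∉ hex D a b c)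
    (hye : Commute e (a * b * c * d)) {g : G} (hg : g ∈ Dd D e ∩ Dd D a) :
    (Commute g b ∧ ¬ Commute g c ∧ ¬ Commute g d) ∨ (¬ Commute g b ∧ Commute g c ∧ ¬ Commute g d) ∨
      (¬ Commute g b ∧ ¬ Commute g c ∧ Commute g d) := by
  have hD := K.closed
  have hs := hD.set
  have cm : ∀ {x y : G}, x ∈ B → y ∈ B → Commute x y := fun hx hy => hB.comm _ hx _ hy
  set Ga := Dd D e ∩ Dd D a with hGa
  have hall : ∀ g ∈ Ga, ¬ (Commute g b ∧ Commute g c ∧ Commute g d) := fun g hg ⟨c1, c2, c3⟩ => hH (by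
    rw [← (K.six_in_base hB ha hb hc).2 nab nac nbc g hg.1.1 (near_notMem hfar hg.1) hg.2.2.2.symm c1 c2]
    exact ⟨hd, c3⟩)
  have hodd : ∀ g ∈ Ga, ¬ Commute g (a * b * c * d * g * (a * b * c * d)) →
      (¬ Commute g b ∧ ¬ Commute g c ∧ ¬ Commute g d) ∨ (¬ Commute g b ∧ Commute g c ∧ Commute g d) ∨
      (Commute g b ∧ ¬ Commute g c ∧ Commute g d) ∨ (Commute g b ∧ Commute g c ∧ ¬ Commute g d) := by
    intro g hg hn
    have hev := fun h => hn (K.four_even hB ha hb hc hd hg.1.1 hg.2.2.2.symm h)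
    have hal := hall g hg
    clear_value Ga
    revert hev hal
    generalize Commute g b = p
    generalize Commute g c = q
    generalize Commute g d = r
    clear * -
    tauto
  by_cases hbad : Commute g (a * b * c * d * g * (a * b * c * d))
  · have hev := fun h => K.four_odd hB ha hb hc hd hg.1.1 hg.2.2.2.symm h hbad
    have hal := hall g hg
    revert hev hal
    generalize Commute g b = p
    generalize Commute g c = q
    generalize Commute g d = r
    clear * -
    tauto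
  exfalso
  have htype := hodd g hg hbad
  set y := a * b * c * d with hy
  have yy : y * y = 1 := four_sq hB ha hb hc hd hs
  have yi : y⁻¹ = y := inv_eq_of_mul_eq_one_right yy
  have ycB : ∀ x ∈ B, Commute y x := fun x hx =>
    (((cm ha hx).mul_left (cm hb hx)).mul_left (cm hc hx)).mul_left (cm hd hx)
  set g' := y * g * y with hg'
  have hgD := hg.1.1
  have hg'D : g' ∈ D := by
    have := hD.conj y g hgD
    rwa [yi] at this
  have hfixc : ∀ z, Commute y z → Commute g z → Commute g' z := fun z z1 z2 => by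
    have := (commute_conj_iff y g z).2 z2
    rwa [z1.eq, mul_inv_cancel_right, yi] at this
  set h := g * g' * g with hhdef
  have hhD : h ∈ D := conj_mem_left hD hgD hg'D
  have hcent : ∀ z, Commute y z → Commute g z → Commute h z := fun z z1 z2 =>
    (z2.mul_left (hfixc z z1 z2)).mul_left z2
  have ga : Commute g a := hg.2.2.2.symm
  have dga : ¬ Commute e a := hfar a ha
  have he' : Commute h e := hcent e hye.symm hg.1.2.2.symm
  have ha' : Commute h a := hcent a (ycB a ha) ga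
  have hhG : h ∈ Ga := ⟨⟨hhD, fun k => dga (k ▸ ha'), he'.symm⟩, hhD, fun k => dga (k ▸ he').symm, ha'.symm⟩
  have hfix : y * h * y = h := by
    calc y * (g * g' * g) * y = y * g * y * g * (y * g * y) := by rw [hg']; simp only [mul_assoc]
      _ = h := (braid hs hgD hg'D hbad).symm
  have hsix : ∀ g ∈ Ga, {x | x ∈ B ∧ Commute g x}.ncard = 6 := fun g hg =>
    hB.outside g hg.1.1 (near_notMem hfar hg.1) a ha hg.2.2.2.symm
  have hiff : ∀ x ∈ B, (Commute h x ↔ Commute g x) := by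
    have hsub : {x | x ∈ B ∧ Commute g x} ⊆ {x | x ∈ B ∧ Commute h x} := fun x hx =>
      ⟨hx.1, hcent x (ycB x hx.1) hx.2⟩
    have heq := Set.eq_of_subset_of_ncard_le hsub (by rw [hsix g hg, hsix h hhG]) (Set.toFinite _)
    exact fun x hx => ⟨fun k => ((Set.ext_iff.1 heq x).2 ⟨hx, k⟩).2, fun k => (hsub ⟨hx, k⟩).2⟩
  refine K.four_odd hB ha hb hc hd hhD ha' ?_ (by rw [hfix])
  rwa [hiff b hb, hiff c hc, hiff d hd]

omit hd in
/-- At most 36 members near `e` and `a` commute with `b` and with neither of two others. -/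
theorem four_bound {r : G} (hr : r ∈ B) (nab : a ≠ b) (nac : a ≠ c) (nar : a ≠ r) (nbc : b ≠ c) (nbr : b ≠ r)
    (hnot : r ∉ hex D a b c) :
    {g | g ∈ Dd D e ∩ Dd D a ∧ Commute g b ∧ ¬ Commute g c ∧ ¬ Commute g r}.ncard ≤ 36 := by
  have cm : ∀ {x y : G}, x ∈ B → y ∈ B → Commute x y := fun hx hy => hB.comm _ hx _ hy
  obtain ⟨-, -, -, -, -, -, repq⟩ :=
    K.hex_spec (hB.sub ha) (hB.sub hb) (hB.sub hc) nab nac nbc (cm ha hb) (cm ha hc) (cm hb hc)
  obtain ⟨-, -, -, -, -, -, repr'⟩ :=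
    K.hex_spec (hB.sub ha) (hB.sub hb) (hB.sub hr) nab nar nbr (cm ha hb) (cm ha hr) (cm hb hr)
  set H1 := hex D a b c
  set H2 := hex D a b r
  have hs1 := (K.six_in_base hB ha hb hc).1
  have hs2 := (K.six_in_base hB ha hb hr).1
  have hint : H1 ∩ H2 ⊆ {a, b} := by
    rintro x ⟨x1, x2⟩
    by_contra hx
    simp only [Set.mem_insert_iff, Set.mem_singleton_iff, not_or] at hx
    exact hnot ⟨hB.sub hr, fun z hz za zb zc =>
      (repr' x x2 hx.1 hx.2 z hz za zb (x1.2 z hz za zb zc).symm).symm⟩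
  set R := B \ (H1 ∪ H2) with hR
  have hRc : R.ncard ≤ 12 := by
    rw [hR, Set.ncard_sdiff (Set.union_subset hs1 hs2), hB.card]
    have h1 := Set.ncard_union_add_ncard_inter H1 H2 (Set.toFinite _) (Set.toFinite _)
    have h2 := (Set.ncard_le_ncard hint (Set.toFinite _)).trans (Set.ncard_insert_le _ _)
    rw [Set.ncard_singleton] at h2
    show 22 - (H1 ∪ H2).ncard ≤ 12
    change (H1 ∪ H2).ncard + (H1 ∩ H2).ncard = H1.ncard + H2.ncard at h1
    have e1 : H1.ncard = 6 :=
      K.ncard_hex (hB.sub ha) (hB.sub hb) (hB.sub hc) nab nac nbc (cm ha hb) (cm ha hc) (cm hb hc)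
    have e2 : H2.ncard = 6 :=
      K.ncard_hex (hB.sub ha) (hB.sub hb) (hB.sub hr) nab nar nbr (cm ha hb) (cm ha hr) (cm hb hr)
    omega
  have h := count_le {g | g ∈ Dd D e ∩ Dd D a ∧ Commute g b ∧ ¬ Commute g c ∧ ¬ Commute g r} R
    (fun g x => Commute g x) (p := 4) (q := 12) ?_ ?_
  · have := h.trans (Nat.mul_le_mul_right 12 hRc)
    omega
  · rintro g ⟨hg, gp, gq, gr⟩
    have ga : Commute g a := hg.2.2.2.symm
    have hsub : {x | x ∈ B ∧ Commute g x} \ {a, b} ⊆ {x | x ∈ R ∧ Commute g x} := by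
      rintro x ⟨⟨hx, gx⟩, hx'⟩
      simp only [Set.mem_insert_iff, Set.mem_singleton_iff, not_or] at hx'
      refine ⟨⟨hx, ?_⟩, gx⟩
      rintro (h | h)
      · exact gq (repq x h hx'.1 hx'.2 g hg.1.1 ga gp gx)
      · exact gr (repr' x h hx'.1 hx'.2 g hg.1.1 ga gp gx)
    refine le_trans ?_ (Set.ncard_le_ncard hsub (Set.toFinite _))
    have h2 : ({a, b} : Set G).ncard ≤ 2 := by rw [Set.ncard_pair nab]
    have := Set.le_ncard_sdiff ({a, b} : Set G) {x | x ∈ B ∧ Commute g x} (Set.toFinite _)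
    rw [hB.outside g hg.1.1 (near_notMem hfar hg.1) a ha ga] at this
    omega
  · intro x hx
    have hxne : a ≠ x ∧ b ≠ x :=
      ⟨fun k => hx.2 (Or.inl (k ▸ (mem_hex (hB.sub ha) (hB.sub hb) (hB.sub hc)).1)),
        fun k => hx.2 (Or.inl (k ▸ (mem_hex (hB.sub ha) (hB.sub hb) (hB.sub hc)).2.1))⟩
    refine le_trans (Set.ncard_le_ncard (fun g hg => ?_) (Set.toFinite _))
      (K.twelve hB ha hb hx.1 nab hxne.1 hxne.2 he (hfar a ha))
    exact ⟨hg.1.1.1.1, near_notMem hfar hg.1.1.1, hg.1.1.2.2.2.symm, hg.1.2.1, hg.2, hg.1.1.1.2.2⟩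

/-- No product of four members of the base fixes `e`. -/
theorem not_four (nab : a ≠ b) (nac : a ≠ c) (nad : a ≠ d) (nbc : b ≠ c) (nbd : b ≠ d) (ncd : c ≠ d) :
    ¬ Commute e (a * b * c * d) := by
  intro hye
  have cm : ∀ {x y : G}, x ∈ B → y ∈ B → Commute x y := fun hx hy => hB.comm _ hx _ hy
  by_cases hH : d ∈ hex D a b c
  · obtain ⟨v, w, hv, hw, hne, e1⟩ := K.four_hex hB ha hb hc hd nab nac nad nbc nbd ncd hH
    rw [e1] at hye
    exact not_commute_prod K.closed K.rel (hB.sub hv) (hB.sub hw) hne (cm hv hw) he (hfar v hv) (hfar w hw) hye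
  obtain ⟨-, -, -, -, -, -, rep⟩ :=
    K.hex_spec (hB.sub ha) (hB.sub hb) (hB.sub hd) nab nad nbd (cm ha hb) (cm ha hd) (cm hb hd)
  have hc' : d ∉ hex D a c b := fun h => hH ⟨h.1, fun z hz za zb zc => h.2 z hz za zc zb⟩
  have hd' : c ∉ hex D a d b := fun h => hH ⟨hB.sub hd, fun z hz za zb zc =>
    (rep c ⟨h.1, fun z hz za zb zd => h.2 z hz za zd zb⟩ (Ne.symm nac) (Ne.symm nbc) z hz za zb zc).symm⟩
  have hcov : Dd D e ∩ Dd D a ⊆ {g | g ∈ Dd D e ∩ Dd D a ∧ Commute g b ∧ ¬ Commute g c ∧ ¬ Commute g d} ∪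
      {g | g ∈ Dd D e ∩ Dd D a ∧ Commute g c ∧ ¬ Commute g b ∧ ¬ Commute g d} ∪
      {g | g ∈ Dd D e ∩ Dd D a ∧ Commute g d ∧ ¬ Commute g b ∧ ¬ Commute g c} := fun g hg => by
    rcases K.four_one hB hfar ha hb hc hd nab nac nbc hH hye hg with h | ⟨h1, h2, h3⟩ | ⟨h1, h2, h3⟩
    exacts [Or.inl (Or.inl ⟨hg, h⟩), Or.inl (Or.inr ⟨hg, h2, h1, h3⟩), Or.inr ⟨hg, h3, h1, h2⟩]
  have h1 := K.four_bound hB he hfar ha hb hc hd nab nac nad nbc nbd hH
  have h2 := K.four_bound hB he hfar ha hc hb hd nac nab nad (Ne.symm nbc) ncd hc'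
  have h3 := K.four_bound hB he hfar ha hd hb hc nad nab nac (Ne.symm nbd) (Ne.symm ncd) hd'
  have h := (Set.ncard_le_ncard hcov (Set.toFinite _)).trans (Set.ncard_union_le _ _)
  have hu := Set.ncard_union_le {g | g ∈ Dd D e ∩ Dd D a ∧ Commute g b ∧ ¬ Commute g c ∧ ¬ Commute g d}
      {g | g ∈ Dd D e ∩ Dd D a ∧ Commute g c ∧ ¬ Commute g b ∧ ¬ Commute g d}
  rw [K.loc.mu e he a (hB.sub ha) (hfar a ha)] at h
  omega

end Four

/-- The conjugate of `e` by a pair of the base determines the pair. -/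
theorem pair_inj {a b c d : G} (ha : a ∈ B) (hb : b ∈ B) (hc : c ∈ B) (hd : d ∈ B) (nab : a ≠ b) (ncd : c ≠ d)
    (h : a * b * e * (a * b) = c * d * e * (c * d)) : (c = a ∧ d = b) ∨ (c = b ∧ d = a) := by
  have hD := K.closed
  have hs := hD.set
  have cm : ∀ {x y : G}, x ∈ B → y ∈ B → Commute x y := fun hx hy => hB.comm _ hx _ hy
  have sq : ∀ {x : G}, x ∈ B → x * x = 1 := fun hx => mul_self hs (hB.sub hx)
  have share : ∀ {x y z : G}, x ∈ B → y ∈ B → z ∈ B → x * y * e * (x * y) = x * z * e * (x * z) → y = z := by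
    intro x y z hx hy hz h
    by_contra hne
    rw [(cm hx hy).eq, (cm hx hz).eq] at h
    refine not_commute_prod hD K.rel (hB.sub hy) (hB.sub hz) hne (cm hy hz) he (hfar y hy) (hfar z hz) ?_
    have h' : x * (y * e * y) * x = x * (z * e * z) * x := by
      rw [← (cm hx hy).eq, ← (cm hx hz).eq] at h
      conv_lhs at h => arg 2; rw [(cm hx hy).eq]
      conv_rhs at h => arg 2; rw [(cm hx hz).eq]
      simpa [mul_assoc] using h
    have h'' := congrArg (fun t => y * (x * t * x)) h'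
    simp [mul_assoc, mul_self_mul hs (hB.sub hx), sq hx, mul_self_mul hs (hB.sub hy)] at h''
    show e * (y * z) = y * z * e
    calc e * (y * z) = e * y * z := by rw [mul_assoc]
      _ = y * (z * (e * z)) * z := by rw [← h'']
      _ = y * z * e := by simp [mul_assoc, sq hz]
  have hab : b * a * e * (b * a) = a * b * e * (a * b) := by rw [(cm hb ha).eq]
  have hcd : d * c * e * (d * c) = c * d * e * (c * d) := by rw [(cm hd hc).eq]
  by_cases e1 : c = a
  · subst e1; exact Or.inl ⟨rfl, (share hc hb hd h).symm⟩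
  by_cases e2 : c = b
  · subst e2; exact Or.inr ⟨rfl, (share hc ha hd (hab.trans h)).symm⟩
  by_cases e3 : d = a
  · subst e3; exact absurd (share hd hb hc (h.trans hcd.symm)).symm e2
  by_cases e4 : d = b
  · subst e4; exact absurd (share hd ha hc ((hab.trans h).trans hcd.symm)).symm e1
  exfalso
  refine K.not_four hB he hfar ha hb hc hd nab (Ne.symm e1) (Ne.symm e3) (Ne.symm e2) (Ne.symm e4) ncd ?_
  have h1 : a * b * (a * b) = 1 := mul_sq_one (sq ha) (sq hb) (cm ha hb)
  have h2 : c * d * (c * d) = 1 := mul_sq_one (sq hc) (sq hd) (cm hc hd)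
  have h' : e = a * b * (c * d) * e * (c * d * (a * b)) := by
    calc e = a * b * (a * b) * e * (a * b * (a * b)) := by rw [h1, one_mul, mul_one]
      _ = a * b * (a * b * e * (a * b)) * (a * b) := by simp only [mul_assoc]
      _ = a * b * (c * d * e * (c * d)) * (a * b) := by rw [h]
      _ = _ := by simp only [mul_assoc]
  show e * (a * b * c * d) = a * b * c * d * e
  calc e * (a * b * c * d) = a * b * (c * d) * e * (c * d * (a * b) * (a * b * c * d)) := by
        conv_lhs => rw [h']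
        simp only [mul_assoc]
    _ = a * b * c * d * e := by
        rw [show c * d * (a * b) * (a * b * c * d) = 1 by
          calc c * d * (a * b) * (a * b * c * d) = c * d * (a * b * (a * b)) * (c * d) := by simp only [mul_assoc]
            _ = 1 := by rw [h1, mul_one, h2]]
        simp [mul_assoc]

/-- The members commuting with `e` and with nothing in the base come from pairs. -/
theorem near_eq {g : G} (hg : g ∈ Dd D e) (hgB : ∀ x ∈ B, ¬ Commute g x) :
    ∃ a ∈ B, ∃ b ∈ B, a ≠ b ∧ a * b * e * (a * b) = g := by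
  classical
  have hs := K.closed.set
  set T := {g | g ∈ Dd D e ∧ ∀ x ∈ B, ¬ Commute g x} with hT
  set N1 := {g | g ∈ Dd D e ∧ ∃ x ∈ B, Commute g x} with hN1
  have h1 : B.ncard * 126 = N1.ncard * 6 := by
    refine count_eq B N1 (fun x g => Commute g x) (fun x hx => ?_) fun g hg => ?_
    · rw [← K.loc.mu e he x (hB.sub hx) (hfar x hx)]
      congr 1
      ext g
      exact ⟨fun h => ⟨h.1.1, h.1.1.1, fun k => hfar x hx (k ▸ h.1.1.2.2), h.2.symm⟩,
        fun h => ⟨⟨h.1, x, hx, h.2.2.2.symm⟩, h.2.2.2.symm⟩⟩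
    · obtain ⟨x, hx, hgx⟩ := hg.2
      exact hB.outside g hg.1.1 (near_notMem hfar hg.1) x hx hgx
  have hTc : T.ncard = 231 := by
    have hu : T ∪ N1 = Dd D e := Set.ext fun g => ⟨fun h => h.elim (·.1) (·.1), fun h => by
      by_cases k : ∃ x ∈ B, Commute g x
      exacts [Or.inr ⟨h, k⟩, Or.inl ⟨h, fun x hx c => k ⟨x, hx, c⟩⟩]⟩
    have hd : Disjoint T N1 := Set.disjoint_left.2 fun g h ⟨_, x, hx, c⟩ => h.2 x hx c
    have h2 := Set.ncard_union_eq hd (Set.toFinite _) (Set.toFinite _)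
    rw [hu, K.loc.deg e he] at h2
    rw [hB.card] at h1
    omega
  set f : G × G → G := fun p => p.1 * p.2 * e * (p.1 * p.2)
  set P : Set (G × G) := {p | p.1 ∈ B ∧ p.2 ∈ B \ {p.1}} with hP
  have hPc : P.ncard = 22 * 21 := by
    rw [← hB.card]
    refine (ncard_fibred (n := 21) B (fun a => B \ {a}) fun a ha => ?_).trans rfl
    rw [Set.ncard_sdiff_singleton_of_mem ha, hB.card]
  have hsub : f '' P ⊆ T := by
    rintro _ ⟨⟨a, b⟩, ⟨ha, hb, hba⟩, rfl⟩
    obtain ⟨p1, p2, p3⟩ := pair_image hB he hfar K.closed ha hb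
    refine ⟨⟨p1, fun k => ?_, p2⟩, p3⟩
    refine not_commute_prod K.closed K.rel (hB.sub ha) (hB.sub hb) (Ne.symm hba) (hB.comm a ha b hb) he (hfar a ha)
      (hfar b hb) ?_
    have : a * b * e * (a * b) = e := k
    show e * (a * b) = a * b * e
    conv_lhs => rw [← this]
    rw [mul_assoc _ (a * b), mul_sq_one (mul_self hs (hB.sub ha)) (mul_self hs (hB.sub hb)) (hB.comm a ha b hb), mul_one]
  have h2 : (f '' P).ncard * 2 = P.ncard * 1 := by
    refine (count_eq P (f '' P) (fun p g => f p = g) (fun p hp => ?_) fun g hg => ?_).symm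
    · rw [show {g | g ∈ f '' P ∧ f p = g} = {f p} from Set.ext fun g =>
        ⟨fun h => h.2.symm, fun h => ⟨h ▸ ⟨p, hp, rfl⟩, h.symm⟩⟩, Set.ncard_singleton]
    · obtain ⟨⟨a, b⟩, ⟨ha, hb, hba⟩, rfl⟩ := hg
      have nab : a ≠ b := fun k => hba k.symm
      rw [show {p | p ∈ P ∧ f p = f (a, b)} = {(a, b), (b, a)} from Set.ext fun p => ⟨?_, ?_⟩, Set.ncard_pair fun k => nab (congrArg Prod.fst k)]
      · rintro ⟨⟨hp1, hp2, hp3⟩, hp⟩
        rcases K.pair_inj hB he hfar ha hb hp1 hp2 nab (fun k => hp3 k.symm) hp.symm with ⟨x, y⟩ | ⟨x, y⟩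
        · exact Or.inl (Prod.ext x y)
        · exact Or.inr (Prod.ext x y)
      · rintro (rfl | rfl)
        · exact ⟨⟨ha, hb, hba⟩, rfl⟩
        · refine ⟨⟨hb, ha, nab⟩, ?_⟩
          show b * a * e * (b * a) = a * b * e * (a * b)
          rw [(hB.comm b hb a ha).eq]
  have heq : f '' P = T := Set.eq_of_subset_of_ncard_le hsub (by rw [hPc] at h2; omega) (Set.toFinite _)
  obtain ⟨⟨a, b⟩, ⟨ha, hb, hba⟩, hfg⟩ : g ∈ f '' P := heq ▸ ⟨hg, hgB⟩
  exact ⟨a, ha, b, hb, fun k => hba k.symm, hfg⟩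

omit he hfar in
/-- Some member commutes with nothing in a base. -/
theorem exists_far_base : ∃ e ∈ D, ∀ x ∈ B, ¬ Commute e x := by
  by_contra! h
  have h1 : B.ncard * 672 = (D \ B).ncard * 6 := by
    refine count_eq B (D \ B) (fun x g => Commute g x) (fun x hx => ?_) fun g hg => ?_
    · have hset : {g | g ∈ D \ B ∧ Commute g x} = Dd D x \ B := Set.ext fun g =>
        ⟨fun h => ⟨⟨h.1.1, fun k => h.1.2 (k ▸ hx), h.2.symm⟩, h.1.2⟩, fun h => ⟨⟨h.1.1, h.2⟩, h.1.2.2.symm⟩⟩
      have hi : Dd D x ∩ B = B \ {x} := Set.ext fun y =>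
        ⟨fun h => ⟨h.2, h.1.2.1⟩, fun h => ⟨⟨hB.sub h.1, h.2, hB.comm x hx y h.1⟩, h.1⟩⟩
      have hh := Set.ncard_inter_add_ncard_sdiff_eq_ncard (Dd D x) B (Set.toFinite _)
      rw [hi, Set.ncard_sdiff_singleton_of_mem hx, hB.card, K.loc.deg x (hB.sub hx)] at hh
      rw [hset]
      omega
    · obtain ⟨x, hx, hgx⟩ := h g hg.1
      exact hB.outside g hg.1 hg.2 x hx hgx
  rw [Set.ncard_sdiff hB.sub, K.loc.card, hB.card] at h1
  norm_num at h1

end Data22

end CfsgLib.ThreeTrans.Tower
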