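import Mathlib
import Cfsg.Agent.Lib.Icosian.Extraspecial

/-! A two-group with centre a four-group, a set of involutions whose commutators lie in one of its subgroups of
order two and whose joint centraliser is the centre: it is the product of that order two and an extraspecial
group. -/

set_option autoImplicit false

namespace CfsgLib.ThreeTrans.DualExtra

variable {H : Type*} [Group H] [Finite H] {j : H} {S : Set H}

/-- The set with the centre generates, by duality. -/
theorem closure_eq_top (hj : j * j = 1) (hS : ∀ s ∈ S, ∀ x : H, s * x * s⁻¹ * x⁻¹ = 1 ∨ s * x * s⁻¹ * x⁻¹ = j)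
    (hdual : ∀ x : H, (∀ s ∈ S, Commute s x) → x ∈ Subgroup.center H) :
    Subgroup.closure ((Subgroup.center H : Set H) ∪ S) = ⊤ := by
  classical
  have key : ∀ T : Finset H, (T : Set H) ⊆ S →
      Nat.card H * Nat.card (Subgroup.center H) ≤
        Nat.card (Subgroup.centralizer (T : Set H)) *
          Nat.card (Subgroup.closure ((Subgroup.center H : Set H) ∪ T)) := by
    intro T
    induction T using Finset.induction_on with
    | empty =>
      intro _
      rw [Finset.coe_empty, Set.union_empty, Subgroup.closure_eq, show Subgroup.centralizer (∅ : Set H) = ⊤ from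
        (Subgroup.eq_top_iff' _).2 fun g => Subgroup.mem_centralizer_iff.2 (fun h hh => hh.elim), Subgroup.card_top]
    | @insert s t hst ih =>
      intro hsub
      rw [Finset.coe_insert] at hsub ⊢
      have hih := ih fun x hx => hsub (Or.inr hx)
      set C := Subgroup.centralizer (t : Set H)
      set C' := Subgroup.centralizer (insert s (t : Set H))
      set K := Subgroup.closure ((Subgroup.center H : Set H) ∪ t)
      set K' := Subgroup.closure ((Subgroup.center H : Set H) ∪ insert s (t : Set H))
      have hKK : K ≤ K' := Subgroup.closure_mono (Set.union_subset_union_right _ (Set.subset_insert _ _))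
      have hC' : ∀ x, x ∈ C' ↔ x ∈ C ∧ Commute s x := fun x => by
        simp only [C, C', Subgroup.mem_centralizer_iff, Set.forall_mem_insert]
        exact ⟨fun h => ⟨h.2, h.1⟩, fun h => ⟨h.2, h.1⟩⟩
      by_cases hs : s ∈ K
      · have e1 : C' = C := by
          refine le_antisymm (fun x hx => ((hC' x).1 hx).1) fun x hx => (hC' x).2 ⟨hx, ?_⟩
          have h : K ≤ Subgroup.centralizer ({x} : Set H) := by
            rw [Subgroup.closure_le]
            rintro y (hy | hy) <;> rw [SetLike.mem_coe, Subgroup.mem_centralizer_singleton_iff]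
            · exact (Subgroup.mem_center_iff.1 hy x).symm
            · exact Subgroup.mem_centralizer_iff.1 hx y hy
          exact Subgroup.mem_centralizer_singleton_iff.1 (h hs)
        rw [e1]
        exact hih.trans (Nat.mul_le_mul le_rfl (Subgroup.card_le_of_le hKK))
      · have h2K : 2 * Nat.card K ≤ Nat.card K' := by
          obtain ⟨m, hm⟩ := Subgroup.card_dvd_of_le hKK
          have hlt : Nat.card K < Nat.card K' := lt_of_le_of_ne (Subgroup.card_le_of_le hKK) fun e =>
            hs ((Subgroup.eq_of_le_of_card_ge hKK e.ge) ▸ Subgroup.subset_closure (Or.inr (Set.mem_insert _ _)))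
          rcases m with _ | _ | m
          · omega
          · omega
          · rw [hm, mul_comm 2]; exact Nat.mul_le_mul le_rfl (by omega)
        have h2C : Nat.card C ≤ 2 * Nat.card C' := by
          by_cases hall : C ≤ C'
          · exact (Subgroup.card_le_of_le hall).trans (by omega)
          obtain ⟨x₀, hx₀, hx₀'⟩ := Set.not_subset.1 hall
          let f : C → Bool × C' := fun x =>
            if h : Commute s (x : H) then (false, ⟨x, (hC' _).2 ⟨x.2, h⟩⟩)
            else (true, ⟨x₀⁻¹ * x, (hC' _).2 ⟨mul_mem (inv_mem hx₀) x.2, by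
              have hsj : ∀ y : H, ¬ Commute s y → s * y * s⁻¹ * y⁻¹ = j := fun y hy =>
                (hS s (hsub (Set.mem_insert _ _)) y).resolve_left fun e =>
                  hy (mul_inv_eq_iff_eq_mul.1 (mul_inv_eq_one.1 e))
              have a1 : s * x₀ * s⁻¹ = j * x₀ := mul_inv_eq_iff_eq_mul.1 (hsj x₀ fun e => hx₀' ((hC' x₀).2 ⟨hx₀, e⟩))
              have a2 : s * (x : H) * s⁻¹ = j * x := mul_inv_eq_iff_eq_mul.1 (hsj x h)
              refine mul_inv_eq_iff_eq_mul.1 (?_ : s * (x₀⁻¹ * x) * s⁻¹ = x₀⁻¹ * x)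
              calc s * (x₀⁻¹ * (x : H)) * s⁻¹ = (s * x₀ * s⁻¹)⁻¹ * (s * x * s⁻¹) := by group
                _ = x₀⁻¹ * x := by rw [a1, a2, mul_inv_rev, mul_assoc, inv_mul_cancel_left]⟩⟩)
          have hf : Function.Injective f := by
            intro x y hxy
            simp only [f] at hxy
            split_ifs at hxy
            · exact Subtype.ext (congrArg Subtype.val (Prod.ext_iff.1 hxy).2 : _)
            · exact absurd (Prod.ext_iff.1 hxy).1 Bool.false_ne_true
            · exact absurd (Prod.ext_iff.1 hxy).1.symm Bool.false_ne_true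
            · exact Subtype.ext (mul_left_cancel (congrArg Subtype.val (Prod.ext_iff.1 hxy).2 : _))
          have := Nat.card_le_card_of_injective f hf
          rwa [Nat.card_prod, Nat.card_eq_fintype_card (α := Bool), Fintype.card_bool] at this
        calc _ ≤ Nat.card C * Nat.card K := hih
          _ ≤ (2 * Nat.card C') * Nat.card K := Nat.mul_le_mul h2C le_rfl
          _ = Nat.card C' * (2 * Nat.card K) := by ring
          _ ≤ _ := Nat.mul_le_mul le_rfl h2K
  have h := key (Set.toFinite S).toFinset (by simp)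
  rw [Set.Finite.coe_toFinset] at h
  have hle : Nat.card (Subgroup.centralizer S) ≤ Nat.card (Subgroup.center H) :=
    Subgroup.card_le_of_le fun x hx => hdual x fun s hs => Subgroup.mem_centralizer_iff.1 hx s hs
  refine Subgroup.eq_top_of_le_card _ ?_
  have hpos : 0 < Nat.card (Subgroup.center H) := Nat.card_pos
  refine Nat.le_of_mul_le_mul_left ?_ hpos
  rw [mul_comm]
  exact h.trans (Nat.mul_le_mul hle le_rfl)

/-- Commutators and squares lie in the group of order two. -/
theorem comm_sq (hj : j * j = 1) (hjc : j ∈ Subgroup.center H) (hz2 : ∀ v ∈ Subgroup.center H, v * v = 1)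
    (hS : ∀ s ∈ S, s * s = 1 ∧ ∀ x : H, s * x * s⁻¹ * x⁻¹ = 1 ∨ s * x * s⁻¹ * x⁻¹ = j)
    (hdual : ∀ x : H, (∀ s ∈ S, Commute s x) → x ∈ Subgroup.center H) :
    ∀ x y : H, (x * y = y * x ∨ x * y = j * (y * x)) ∧ (x * x = 1 ∨ x * x = j) := by
  have jc := fun g => Subgroup.mem_center_iff.1 hjc g
  have conv : ∀ x y : H, x * y * x⁻¹ * y⁻¹ = 1 ∨ x * y * x⁻¹ * y⁻¹ = j → x * y = y * x ∨ x * y = j * (y * x) := by
    rintro x y (h | h)
    · exact Or.inl (mul_inv_eq_iff_eq_mul.1 (mul_inv_eq_one.1 h))
    · rw [mul_inv_eq_iff_eq_mul, mul_inv_eq_iff_eq_mul, mul_assoc] at h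
      exact Or.inr h
  have hall : ∀ x : H, ∀ y, x * y = y * x ∨ x * y = j * (y * x) := by
    intro x
    have hx : x ∈ Subgroup.closure ((Subgroup.center H : Set H) ∪ S) :=
      closure_eq_top hj (fun s hs => (hS s hs).2) hdual ▸ Subgroup.mem_top x
    induction hx using Subgroup.closure_induction with
    | mem z hz =>
      intro y
      rcases hz with hz | hz
      · exact Or.inl (Subgroup.mem_center_iff.1 hz y).symm
      · exact conv z y ((hS z hz).2 y)
    | one => exact fun y => Or.inl (by simp)
    | mul p q _ _ hp hq =>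
      intro y
      rcases hq y with e | e <;> rcases hp y with e' | e'
      · left; rw [mul_assoc, e, ← mul_assoc, e', mul_assoc]
      · right; rw [mul_assoc, e, ← mul_assoc, e']; simp only [mul_assoc]
      · right; rw [mul_assoc, e, ← mul_assoc p j, jc, mul_assoc, ← mul_assoc p, e', mul_assoc]
      · left
        rw [mul_assoc, e, ← mul_assoc p j, jc, mul_assoc, ← mul_assoc p, e']
        simp only [← mul_assoc, hj, one_mul]
    | inv p _ hp =>
      intro y
      rcases hp y with e | e
      · exact Or.inl (Commute.inv_left e).eq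
      · refine Or.inr ?_
        calc p⁻¹ * y = p⁻¹ * (y * p) * p⁻¹ := by group
          _ = p⁻¹ * (j * (p * y)) * p⁻¹ := by rw [e, ← mul_assoc j j, hj, one_mul]
          _ = j * (y * p⁻¹) := by rw [← mul_assoc p⁻¹ j, jc]; group
  intro x y
  refine ⟨hall x y, ?_⟩
  have hx : x ∈ Subgroup.closure ((Subgroup.center H : Set H) ∪ S) :=
    closure_eq_top hj (fun s hs => (hS s hs).2) hdual ▸ Subgroup.mem_top x
  induction hx using Subgroup.closure_induction with
  | mem z hz => rcases hz with hz | hz; exacts [Or.inl (hz2 z hz), Or.inl (hS z hz).1]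
  | one => exact Or.inl (one_mul 1)
  | mul p q _ _ hp hq =>
    have e : p * q * (p * q) = p * (q * p) * q := by group
    have key : ∀ u v : H, (u = 1 ∨ u = j) → (v = 1 ∨ v = j) → u * v = 1 ∨ u * v = j := by
      rintro u v (rfl | rfl) (rfl | rfl) <;> simp [hj]
    rw [e]
    rcases hall q p with h | h <;> rw [h]
    · rw [show p * (p * q) * q = p * p * (q * q) by group]; exact key _ _ hp hq
    · rw [← mul_assoc p j, jc, show j * p * (p * q) * q = j * (p * p * (q * q)) by group]
      exact key _ _ (Or.inr rfl) (key _ _ hp hq)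
  | inv p _ hp =>
    rw [← mul_inv_rev]
    rcases hp with h | h <;> rw [h]
    · exact Or.inl inv_one
    · exact Or.inr (inv_eq_of_mul_eq_one_right hj)

/-- The decomposition. -/
theorem split_extraspecial {d : H} {n : ℕ} (hj : j * j = 1) (hd : d * d = 1) (hd1 : d ≠ 1) (hdj : d ≠ j)
    (hj1 : j ≠ 1) (hcen : ∀ v, v ∈ Subgroup.center H ↔ (v = 1 ∨ v = d) ∨ v = j ∨ v = d * j)
    (hn : 3 ≤ n) (hcard : Nat.card H = 2 ^ n)
    (hS : ∀ s ∈ S, s * s = 1 ∧ ∀ x : H, s * x * s⁻¹ * x⁻¹ = 1 ∨ s * x * s⁻¹ * x⁻¹ = j)
    (hdual : ∀ x : H, (∀ s ∈ S, Commute s x) → x ∈ Subgroup.center H) :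
    ∃ M : Subgroup H, Cfsg.IsExtraspecial 2 M ∧ Nat.card M = 2 ^ (n - 1) ∧
      Nonempty (H ≃* Multiplicative (ZMod 2) × M) := by
  classical
  have hjc : j ∈ Subgroup.center H := (hcen j).2 (by simp)
  have hdc : d ∈ Subgroup.center H := (hcen d).2 (by simp)
  have dc := fun g => Subgroup.mem_center_iff.1 hdc g
  have hz2 : ∀ v ∈ Subgroup.center H, v * v = 1 := fun v hv => by
    rcases (hcen v).1 hv with (h | h) | h | h <;> rw [h]
    · simp
    · exact hd
    · exact hj
    · rw [mul_assoc, ← mul_assoc j d j, dc j, mul_assoc, hj, mul_one, hd]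
  have hcs := comm_sq hj hjc hz2 hS hdual
  have hdmem : d ∉ Subgroup.zpowers j := fun h => by
    obtain ⟨i, hi⟩ := Subgroup.mem_zpowers_iff.1 h
    rw [← Int.emod_add_mul_ediv i 2, zpow_add, zpow_mul, show j ^ (2 : ℤ) = 1 by rw [zpow_two, hj], one_zpow,
      mul_one] at hi
    rcases Int.emod_two_eq i with e | e <;> rw [e] at hi
    · exact hd1 (by rw [← hi, zpow_zero])
    · exact hdj (by rw [← hi, zpow_one])
  obtain ⟨M, -, hM⟩ := Finite.exists_le_maximal (p := fun M : Subgroup H => j ∈ M ∧ d ∉ M)
    ⟨Subgroup.mem_zpowers j, hdmem⟩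
  obtain ⟨hjM, hdM⟩ := hM.1
  -- every element outside contains the other involution
  have hout : ∀ x ∉ M, x * d ∈ M := by
    intro x hx
    let M' : Subgroup H :=
      { carrier := {h | h ∈ M ∨ h * x ∈ M}
        one_mem' := Or.inl (one_mem M)
        mul_mem' := by
          intro p q hp hq
          have xx : x * x ∈ M := by rcases (hcs x x).2 with h | h <;> rw [h]; exacts [one_mem M, hjM]
          have sw : ∀ m ∈ M, x * m * x⁻¹ ∈ M := fun m hm => by
            rcases (hcs x m).1 with h | h <;> rw [h]
            · rwa [mul_inv_cancel_right]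
            · rw [mul_assoc, mul_assoc, mul_inv_cancel, mul_one]; exact mul_mem hjM hm
          rcases hp with hp | hp <;> rcases hq with hq | hq
          · exact Or.inl (mul_mem hp hq)
          · exact Or.inr (by rw [mul_assoc]; exact mul_mem hp hq)
          · refine Or.inr ?_
            rw [show p * q * x = p * x * (x⁻¹ * q * x) by group]
            refine mul_mem hp ?_
            have : x⁻¹ * q * x = (x * x)⁻¹ * (x * q * x⁻¹) * (x * x) := by group
            rw [this]
            exact mul_mem (mul_mem (inv_mem xx) (sw q hq)) xx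
          · refine Or.inl ?_
            rw [show p * q = p * x * (x⁻¹ * (q * x) * x) * (x * x)⁻¹ by group]
            refine mul_mem (mul_mem hp ?_) (inv_mem xx)
            have : x⁻¹ * (q * x) * x = (x * x)⁻¹ * (x * (q * x) * x⁻¹) * (x * x) := by group
            rw [this]
            exact mul_mem (mul_mem (inv_mem xx) (sw _ hq)) xx
        inv_mem' := by
          intro p hp
          rcases hp with hp | hp
          · exact Or.inl (inv_mem hp)
          · refine Or.inr ?_
            have xx : x * x ∈ M := by rcases (hcs x x).2 with h | h <;> rw [h]; exacts [one_mem M, hjM]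
            have : x * (p * x)⁻¹ * x⁻¹ ∈ M := by
              rcases (hcs x (p * x)⁻¹).1 with h | h <;> rw [h]
              · rw [mul_inv_cancel_right]; exact inv_mem hp
              · rw [mul_assoc, mul_assoc, mul_inv_cancel, mul_one]; exact mul_mem hjM (inv_mem hp)
            rw [show p⁻¹ * x = x * (p * x)⁻¹ * x⁻¹ * (x * x) by group]
            exact mul_mem this xx }
    have hle : M ≤ M' := fun m hm => Or.inl hm
    have hxM : x ∈ M' := Or.inr (by rcases (hcs x x).2 with h | h <;> rw [h]; exacts [one_mem M, hjM])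
    have hd' : d ∈ M' := by
      by_contra h
      exact hx (hM.2 (y := M') ⟨hle hjM, h⟩ hle hxM)
    rcases hd' with h | h
    · exact absurd h hdM
    · rwa [dc]
  let f : Multiplicative (ZMod 2) × M → H := fun p => (if p.1 = 1 then 1 else d) * (p.2 : H)
  have hne : Multiplicative.ofAdd (1 : ZMod 2) ≠ 1 := by decide
  have h01 : ∀ a : Multiplicative (ZMod 2), a = 1 ∨ a = Multiplicative.ofAdd 1 := by decide
  have hfm : ∀ p q, f (p * q) = f p * f q := by
    rintro ⟨a, m⟩ ⟨b, m'⟩
    have sw : (m : H) * d = d * m := dc m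
    rcases h01 a with rfl | rfl <;> rcases h01 b with rfl | rfl
    · simp [f]
    · simp [f, hne, ← mul_assoc, sw]
    · simp [f, hne, mul_assoc]
    · have e2 : Multiplicative.ofAdd (1 : ZMod 2) * Multiplicative.ofAdd (1 : ZMod 2) = 1 := by decide
      simp only [f, Prod.mk_mul_mk, e2, if_neg hne, if_true, one_mul, Subgroup.coe_mul]
      rw [mul_assoc, ← mul_assoc (m : H) d, sw, mul_assoc, ← mul_assoc d d, hd, one_mul]
  have hfi : Function.Injective f := by
    rintro ⟨a, m⟩ ⟨b, m'⟩ h
    rcases h01 a with rfl | rfl <;> rcases h01 b with rfl | rfl <;> simp [f, hne] at h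
    · rw [h]
    · refine absurd (show d ∈ M from ?_) hdM
      rw [eq_mul_inv_iff_mul_eq.2 h.symm]; exact mul_mem m.2 (inv_mem m'.2)
    · refine absurd (show d ∈ M from ?_) hdM
      rw [eq_mul_inv_iff_mul_eq.2 h]; exact mul_mem m'.2 (inv_mem m.2)
    · rw [h]
  have hfs : Function.Surjective f := fun x => by
    by_cases hx : x ∈ M
    · exact ⟨(1, ⟨x, hx⟩), by simp [f]⟩
    · exact ⟨(Multiplicative.ofAdd 1, ⟨x * d, hout x hx⟩), by
        simp [f, hne, ← mul_assoc, ← dc x, mul_assoc x d d, hd]⟩
  let e : Multiplicative (ZMod 2) × M ≃* H := MulEquiv.ofBijective (MonoidHom.mk' f hfm) ⟨hfi, hfs⟩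
  have hcardM : Nat.card M = 2 ^ (n - 1) := by
    have h := Nat.card_congr e.toEquiv
    rw [Nat.card_prod, hcard, show n = n - 1 + 1 by omega, pow_succ,
      show Nat.card (Multiplicative (ZMod 2)) = 2 by simp] at h
    omega
  refine ⟨M, ?_, hcardM, ⟨e.symm⟩⟩
  have hMc : ∀ m : M, (∀ y, m * y = y * m) → (m : H) ∈ Subgroup.center H := fun m hm =>
    Subgroup.mem_center_iff.2 fun g => by
      by_cases hg : g ∈ M
      · exact (congrArg Subtype.val (hm ⟨g, hg⟩)).symm
      · have h := congrArg Subtype.val (hm ⟨g * d, hout g hg⟩)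
        simp only [Subgroup.coe_mul] at h
        rw [← mul_assoc, mul_assoc g d, ← dc (m : H), ← mul_assoc] at h
        exact (mul_right_cancel h).symm
  have hcenM : ∀ m : M, (∀ y, m * y = y * m) → m = 1 ∨ m = ⟨j, hjM⟩ := fun m hm => by
    rcases (hcen _).1 (hMc m hm) with (h | h) | h | h
    · exact Or.inl (Subtype.ext h)
    · exact absurd (h ▸ m.2) hdM
    · exact Or.inr (Subtype.ext h)
    · refine absurd (show d ∈ M from ?_) hdM
      rw [eq_mul_inv_iff_mul_eq.2 h.symm]; exact mul_mem m.2 (inv_mem hjM)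
  refine CfsgLib.Icosian.isExtraspecial_of_table (IsPGroup.of_card hcardM) (z := ⟨j, hjM⟩)
    (fun h => hj1 (congrArg Subtype.val h)) (Subtype.ext hj)
    (fun x => Subtype.ext (Subgroup.mem_center_iff.1 hjc x).symm)
    (fun x => (hcs x x).2.imp (fun h => Subtype.ext h) fun h => Subtype.ext h)
    (fun x y => (hcs x y).1.imp (fun h => Subtype.ext h) fun h => Subtype.ext h) hcenM ?_
  by_contra hab
  push Not at hab
  have hsub : (Set.univ : Set M) ⊆ {1, ⟨j, hjM⟩} := fun m _ => hcenM m (fun y => hab m y)
  have h2 := Set.ncard_le_ncard hsub (Set.toFinite _)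
  rw [Set.ncard_univ, hcardM, Set.ncard_pair (fun h => hj1 (congrArg Subtype.val h).symm)] at h2
  have : 2 ^ 2 ≤ 2 ^ (n - 1) := Nat.pow_le_pow_right (by norm_num) (by omega)
  omega

end CfsgLib.ThreeTrans.DualExtra
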