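import Mathlib
import Cfsg.Agent.S5469
import Cfsg.Agent.Lib.ThreeTrans.MinusSix
import Cfsg.Agent.Lib.ThreeTrans.Tower.DualExtra
import Cfsg.Agent.Lib.ThreeTrans.Uniq.AutTop22

/-! Type M(22): the subgroup generated by the products of congruent members at two commuting members. -/

set_option autoImplicit false
set_option linter.unusedSectionVars false

namespace CfsgLib.ThreeTrans.PairCore

open CfsgLib.ThreeTrans CfsgLib.ThreeTrans.Tower CfsgLib.ThreeTrans.TypeTop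

/-- Two commuting members and the products of two members in a six with them. -/
def hexGen {G : Type*} [Group G] (D : Set G) (a b : G) : Subgroup G :=
  Subgroup.closure ({a, b} ∪ {t | ∃ y ∈ Dd D a ∩ Dd D b, ∃ w ∈ restHex D a b y, t = y * w})

theorem cj_fix {G : Type*} [Group G] {g x : G} (h : Commute g x) : g * x * g⁻¹ = x := by
  rw [h.eq, mul_inv_cancel_right]

theorem five_ne {G : Type*} [Group G] {D : Set G} (hs : Cfsg.IsThreeTranspositionSet D) (r5 : NoRel D 5)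
    {P : Set G} {d : G} (hdD : d ∈ D) {p q p' q' : G} (hp : p ∈ P) (hq : q ∈ P) (hp' : p' ∈ P) (hq' : q' ∈ P)
    (hpq : p ≠ q) (hpq' : p' ≠ q') (cpq : Commute p q) (cpq'' : Commute p' q') (cpp : Commute p p')
    (cqq : Commute q q') (cpq' : Commute p q') (cqp : Commute q p')
    (hPd : ∀ z ∈ P, z ∈ Dd D d) {V : Subgroup G}
    (hnoV : ∀ a b, a ∈ P → b ∈ P → a ≠ b → Commute a b → a * b ∉ V)
    (hv : p * q * (p' * q') ∈ V) : p * q * (p' * q') ≠ d := by
  intro h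
  have pp := mul_self hs (hPd p hp).1
  have qq := mul_self hs (hPd q hq).1
  by_cases a1 : p = p'
  · subst a1
    rw [show p * q * (p * q') = q * q' by
      rw [← mul_assoc, mul_assoc p q p, ← cpq.eq, ← mul_assoc, pp, one_mul]] at h hv
    by_cases b : q = q'
    · rw [← b, qq] at h; exact CfsgLib.ThreeTrans.ne_one hs hdD h.symm
    · exact hnoV q q' hq hq' b cqq hv
  by_cases a2 : p = q'
  · subst a2
    rw [show p * q * (p' * p) = q * p' by
      rw [cpq.eq, mul_assoc, ← mul_assoc p, cpp.eq, mul_assoc, pp, mul_one]] at h hv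
    by_cases b : q = p'
    · rw [← b, qq] at h; exact CfsgLib.ThreeTrans.ne_one hs hdD h.symm
    · exact hnoV q p' hq hp' b cqp hv
  by_cases a3 : q = p'
  · subst a3
    rw [show p * q * (q * q') = p * q' by rw [mul_assoc, ← mul_assoc q, qq, one_mul]] at h hv
    exact hnoV p q' hp hq' a2 cpq' hv
  by_cases a4 : q = q'
  · subst a4
    rw [show p * q * (p' * q) = p * p' by
      rw [mul_assoc, ← mul_assoc q, cqp.eq, mul_assoc, qq, mul_one]] at h hv
    exact hnoV p p' hp hp' a1 cpp hv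
  refine r5 [p, q, p', q', d] ?_ rfl ?_ ?_ ?_
  · simp [hpq, hpq', a1, a2, a3, a4, (hPd p hp).2.1, (hPd q hq).2.1, (hPd p' hp').2.1, (hPd q' hq').2.1]
  · simp [(hPd p hp).1, (hPd q hq).1, (hPd p' hp').1, (hPd q' hq').1, hdD]
  · simp [cpq, cpq.symm, cpq'', cpq''.symm, cpp, cpp.symm, cqq, cqq.symm, cpq', cpq'.symm, cqp, cqp.symm,
      (hPd p hp).2.2, (hPd p hp).2.2.symm, (hPd q hq).2.2, (hPd q hq).2.2.symm, (hPd p' hp').2.2,
      (hPd p' hp').2.2.symm, (hPd q' hq').2.2, (hPd q' hq').2.2.symm, Commute.refl]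
  · simp only [List.prod_cons, List.prod_nil, mul_one]
    rw [show p * (q * (p' * (q' * d))) = p * q * (p' * q') * d by group, h, mul_self hs hdD]

theorem cj_commute {G : Type*} [Group G] {g x : G} (h : g * x * g⁻¹ = x) : Commute g x :=
  mul_inv_eq_iff_eq_mul.1 h

/-- A subgroup of automorphisms normalised by the inner ones of a simple group is trivial or contains them. -/
theorem inn_le_or_bot {S : Type*} [Group S] [IsSimpleGroup S] (hz : Subgroup.center S = ⊥)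
    (M : Subgroup (MulAut S)) (hM : ∀ s : S, ∀ m ∈ M, MulAut.conj s * m * (MulAut.conj s)⁻¹ ∈ M) :
    M = ⊥ ∨ (MulAut.conj : S →* MulAut S).range ≤ M := by
  haveI hn : (M.comap (MulAut.conj : S →* MulAut S)).Normal := ⟨fun n hn g => by
    rw [Subgroup.mem_comap, map_mul, map_mul, map_inv]; exact hM g _ hn⟩
  rcases hn.eq_bot_or_eq_top with h | h
  · left
    rw [eq_bot_iff]
    intro m hm
    refine MulEquiv.ext fun s => ?_
    have e : m * MulAut.conj s * m⁻¹ = MulAut.conj (m s) := MulEquiv.ext fun x => by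
      simp [MulAut.conj_apply]
    have h1 : m s * s⁻¹ ∈ M.comap (MulAut.conj : S →* MulAut S) := by
      rw [Subgroup.mem_comap, map_mul, map_inv, ← e, show m * MulAut.conj s * m⁻¹ * (MulAut.conj s)⁻¹ =
        m * (MulAut.conj s * m⁻¹ * (MulAut.conj s)⁻¹) by group]
      exact mul_mem hm (hM s _ (inv_mem hm))
    rw [h, Subgroup.mem_bot, mul_inv_eq_one] at h1
    simpa using h1
  · right
    rintro _ ⟨s, rfl⟩
    exact (h ▸ Subgroup.mem_top s : s ∈ M.comap (MulAut.conj : S →* MulAut S))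

theorem restHex_swap {G : Type*} [Group G] (D : Set G) (a b c : G) : restHex D a b c = restHex D b a c := by
  ext z
  exact ⟨fun ⟨h, h1, h2, h3, h4⟩ => ⟨h, h2, h1, h3, fun w hw wb wa wc => h4 w hw wa wb wc⟩,
    fun ⟨h, h1, h2, h3, h4⟩ => ⟨h, h2, h1, h3, fun w hw wb wa wc => h4 w hw wa wb wc⟩⟩

theorem hexGen_comm {G : Type*} [Group G] (D : Set G) (a b : G) : hexGen D a b = hexGen D b a := by
  simp only [hexGen, Set.pair_comm a b, Set.inter_comm (Dd D a), restHex_swap D a b]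

/-- The automorphisms carry the subgroups to each other. -/
theorem map_hexGen {G : Type*} [Group G] {D : Set G} (α : MulAut G) (hα : ∀ x, α x ∈ D ↔ x ∈ D) (a b : G) :
    (hexGen D a b).map α.toMonoidHom = hexGen D (α a) (α b) := by
  have hdd : ∀ a x, x ∈ Dd D a → α x ∈ Dd D (α a) := fun a x hx =>
    ⟨(hα x).2 hx.1, fun e => hx.2.1 (α.injective e), hx.2.2.map α⟩
  have hcm : ∀ x y, Commute (α x) (α y) → Commute x y := fun x y h => by
    have := h.map α.symm; simpa using this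
  rw [hexGen, MonoidHom.map_closure, hexGen]
  congr 1
  ext t
  constructor
  · rintro ⟨s, hs | ⟨y, hy, w, ⟨h, h1, h2, h3, h4⟩, rfl⟩, rfl⟩
    · rcases hs with rfl | rfl <;> exact Or.inl (by simp)
    · refine Or.inr ⟨α y, ⟨hdd a y hy.1, hdd b y hy.2⟩, α w, ⟨(hα w).2 h, fun e => h1 (α.injective e),
        fun e => h2 (α.injective e), fun e => h3 (α.injective e), fun u hu ua ub uy => ?_⟩, map_mul α y w⟩
      obtain ⟨u, rfl⟩ := α.surjective u
      exact (h4 u ((hα u).1 hu) (hcm _ _ ua) (hcm _ _ ub) (hcm _ _ uy)).map α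
  · rintro (hs | ⟨y, hy, w, ⟨h, h1, h2, h3, h4⟩, rfl⟩)
    · rcases hs with rfl | rfl
      exacts [⟨a, Or.inl (by simp), rfl⟩, ⟨b, Or.inl (by simp), rfl⟩]
    · obtain ⟨y, rfl⟩ := α.surjective y
      obtain ⟨w, rfl⟩ := α.surjective w
      refine ⟨y * w, Or.inr ⟨y, ⟨⟨(hα y).1 hy.1.1, fun e => hy.1.2.1 (by rw [e]), hcm _ _ hy.1.2.2⟩,
        ⟨(hα y).1 hy.2.1, fun e => hy.2.2.1 (by rw [e]), hcm _ _ hy.2.2.2⟩⟩, w, ⟨(hα w).1 h,
        fun e => h1 (by rw [e]), fun e => h2 (by rw [e]), fun e => h3 (by rw [e]),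
        fun u hu ua ub uy => hcm _ _ (h4 (α u) ((hα u).2 hu) (ua.map α) (ub.map α) (uy.map α))⟩, rfl⟩, map_mul α y w⟩

/-- The properties of the subgroup at a pair. -/
structure IsPairCore {G : Type*} [Group G] (D : Set G) (a b : G) (F : Type) [Field F] [Fintype F]
    (ρ : Subgroup.centralizer ({a, b} : Set G) →* Cfsg.PSU 4 F 2) : Prop where
  le : hexGen D a b ≤ Subgroup.centralizer ({a, b} : Set G)
  card : Nat.card (hexGen D a b) = 2 ^ 10
  table : ∀ x ∈ hexGen D a b, ∀ y ∈ hexGen D a b, x * y = y * x ∨ x * y = a * b * (y * x)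
  square : ∀ x ∈ hexGen D a b, x * x = 1 ∨ x * x = a * b
  central : ∀ x ∈ hexGen D a b, (∀ y ∈ hexGen D a b, Commute x y) → x = 1 ∨ x = a ∨ x = b ∨ x = a * b
  orbit : ∀ y ∈ Dd D a ∩ Dd D b, ∀ w ∈ restHex D a b y, w ∈ Dd D a ∩ Dd D b ∧ y ≠ w ∧ Commute y w ∧
    ∃ x ∈ hexGen D a b, x * y * x⁻¹ = w
  back : ∀ y ∈ Dd D a ∩ Dd D b, ∀ z ∈ Dd D a ∩ Dd D b, y * z ∈ hexGen D a b → z = y ∨ z ∈ restHex D a b y
  cycle : ∀ y ∈ Dd D a ∩ Dd D b, ∃ τ z₁ z₂ z₃ : G, Commute τ a ∧ Commute τ b ∧ Commute τ y ∧ z₁ ≠ z₂ ∧ z₂ ≠ z₃ ∧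
    z₁ ≠ z₃ ∧ restHex D a b y = {z₁, z₂, z₃} ∧ τ * z₁ * τ⁻¹ = z₂ ∧ τ * z₂ * τ⁻¹ = z₃ ∧ τ * z₃ * τ⁻¹ = z₁
  four : Fintype.card F = 2 ^ 2
  surj : Function.Surjective ρ
  ker : ∀ x, ρ x = 1 ↔ (x : G) ∈ hexGen D a b
  fix : ∀ q : MulAut G, q a = a → q b = b → (∀ y ∈ Dd D a ∩ Dd D b, q y = y) →
    ∃ v, (v = 1 ∨ v = a ∨ v = b ∨ v = a * b) ∧ q = MulAut.conj v
  faithful : ∀ c : G, Commute c (a * b) →
    (∀ k : Subgroup.centralizer ({a, b} : Set G), ∀ h : c * (k : G) * c⁻¹ ∈ Subgroup.centralizer ({a, b} : Set G),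
      ρ ⟨_, h⟩ = ρ k) → c ∈ hexGen D a b
  cardC : Nat.card (Subgroup.centralizer ({a * b} : Set G)) = 2 ^ 10 * 51840

/-- The subgroup at two commuting members in type M(22). -/
theorem exists_pairCore {G : Type*} [Group G] [Finite G] {D : Set G} (hD : Cfsg.IsThreeTranspositionGroup D) (hprim : Cfsg.IsPrimitiveUnderConj D) (d₀ : G) (hd₀ : d₀ ∈ D) (h3 : Cfsg.pCore 3 ↥(Subgroup.closure {y : G | y ∈ D ∧ y ≠ d₀ ∧ Commute d₀ y}) ≤ Subgroup.center ↥(Subgroup.closure {y : G | y ∈ D ∧ y ≠ d₀ ∧ Commute d₀ y})) (h2 : Cfsg.pCore 2 ↥(Subgroup.closure {y : G | y ∈ D ∧ y ≠ d₀ ∧ Commute d₀ y}) ≤ Subgroup.center ↥(Subgroup.closure {y : G | y ∈ D ∧ y ≠ d₀ ∧ Commute d₀ y})) (h22 : Cfsg.IsOfTypeM22 G D) (d₁ d₂ : G) (h₁ : d₁ ∈ D) (h₂ : d₂ ∈ D) (hne : d₁ ≠ d₂) (hc : Commute d₁ d₂) :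
    ∃ (F : Type) (_ : Field F) (_ : Fintype F) (ρ : Subgroup.centralizer ({d₁, d₂} : Set G) →* Cfsg.PSU 4 F 2),
      IsPairCore D d₁ d₂ F ρ := by
  classical
  have hs : Cfsg.IsThreeTranspositionSet D := hD.1
  haveI hp2 : Fact (Nat.Prime 2) := ⟨Nat.prime_two⟩
  obtain ⟨-, hmain⟩ := main22 hD hprim h22
  obtain ⟨F, _, _, D22⟩ := exists_data22 hD hprim h22
  have hF := D22.four
  obtain ⟨Ecls, S, T⟩ := D22.stage
  have L := D22.loc
  have r3 := (good22 hD h22).rel 3 (by norm_num) (by norm_num)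
  have r5 := (good22 hD h22).rel 5 (by norm_num) (by norm_num)
  have hCd : ∀ a ∈ D, ∀ g : G, Commute g a → g ∈ Hd D a := fun a ha g hg => by
    obtain ⟨u, hu⟩ := Model.Kc_decomp hs ha (L.stab a ha g hg)
    rcases hu with rfl | rfl
    exacts [u.2, mul_mem (hmain a ha).1 u.2]
  have hd₂ : d₂ ∈ Dd D d₁ := ⟨h₂, Ne.symm hne, hc⟩
  have hd₁ : d₁ ∈ Dd D d₂ := Dd_symm h₁ hd₂
  obtain ⟨π, M⟩ := S.base d₁ h₁
  set e := phi π d₂ with he
  have heE : e ∈ Ecls := M.mem hd₂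
  have hed : π ⟨d₂, Subgroup.subset_closure hd₂⟩ = e := (phi_of_mem π hd₂).symm
  set P := Dd D d₁ ∩ Dd D d₂ with hP
  set K := Subgroup.centralizer ({d₁, d₂} : Set G) with hK
  have hK' : ∀ g, g ∈ K ↔ Commute g d₁ ∧ Commute g d₂ := fun g => by
    rw [hK, Subgroup.mem_centralizer_iff]
    exact ⟨fun h => ⟨(h d₁ (by simp)).symm, (h d₂ (by simp)).symm⟩, fun h x hx => by
      rcases hx with rfl | rfl
      exacts [h.1.eq.symm, h.2.eq.symm]⟩
  have hd₁K : d₁ ∈ K := (hK' _).2 ⟨Commute.refl _, hc⟩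
  have hd₂K : d₂ ∈ K := (hK' _).2 ⟨hc.symm, Commute.refl _⟩
  have hPK : ∀ z ∈ P, z ∈ K := fun z hz => (hK' z).2 ⟨hz.1.2.2.symm, hz.2.2.2.symm⟩
  -- the four group
  set V := Subgroup.closure ({d₁, d₂} : Set G) with hV
  have hVcases : ∀ v, v ∈ V ↔ (v = 1 ∨ v = d₁) ∨ v = d₂ ∨ v = d₁ * d₂ := by
    intro v
    constructor
    · intro hv
      have d11 := mul_self hs h₁
      have d22 := mul_self hs h₂
      have c21 : d₂ * d₁ = d₁ * d₂ := hc.eq.symm
      induction hv using Subgroup.closure_induction with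
      | mem z hz => rcases hz with rfl | rfl <;> simp
      | one => simp
      | mul p q _ _ hp hq =>
        have md1 := fun z : G => mul_self_mul hs h₁ (x := z)
        have md2 := fun z : G => mul_self_mul hs h₂ (x := z)
        have c21' : ∀ z, d₂ * (d₁ * z) = d₁ * (d₂ * z) := fun z => by rw [← mul_assoc, c21, mul_assoc]
        rcases hp with (a | a) | a | a <;> rcases hq with (b | b) | b | b <;> rw [a, b] <;>
          simp [mul_assoc, md1, md2, d11, d22, c21, c21']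
      | inv p _ hp =>
        rcases hp with (a | a) | a | a <;> rw [a] <;>
          simp [mul_inv_rev, inv_eq hs h₁, inv_eq hs h₂, c21]
    · have v1 : d₁ ∈ V := Subgroup.subset_closure (by simp)
      have v2 : d₂ ∈ V := Subgroup.subset_closure (by simp)
      rintro ((rfl | rfl) | rfl | rfl)
      exacts [one_mem _, v1, v2, mul_mem v1 v2]
  -- no member is a product from the four group
  have hnoV : ∀ p q, p ∈ P → q ∈ P → p ≠ q → Commute p q → p * q ∉ V := by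
    intro p q hp hq hpq cpq hv
    rcases (hVcases _).1 hv with (h | h) | h | h
    · exact hpq (inv_eq hs hq.1.1 ▸ eq_inv_of_mul_eq_one_left h)
    · refine r3 [p, q, d₁] ?_ rfl ?_ ?_ ?_
      · simp [hpq, hp.1.2.1, hq.1.2.1]
      · simp [hp.1.1, hq.1.1, h₁]
      · simp [cpq, cpq.symm, hp.1.2.2, hp.1.2.2.symm, hq.1.2.2, hq.1.2.2.symm, Commute.refl]
      · simp only [List.prod_cons, List.prod_nil, mul_one]
        rw [← mul_assoc, h, mul_self hs h₁]
    · refine r3 [p, q, d₂] ?_ rfl ?_ ?_ ?_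
      · simp [hpq, hp.2.2.1, hq.2.2.1]
      · simp [hp.1.1, hq.1.1, h₂]
      · simp [cpq, cpq.symm, hp.2.2.2, hp.2.2.2.symm, hq.2.2.2, hq.2.2.2.symm, Commute.refl]
      · simp only [List.prod_cons, List.prod_nil, mul_one]
        rw [← mul_assoc, h, mul_self hs h₂]
    · rcases Tower.pair_unique hs D22.rel h₁ h₂ hne hc hp.1.1 hq.1.1 cpq h with ⟨u, -⟩ | ⟨u, -⟩
      exacts [hp.1.2.1 u, hp.2.2.1 u]
  have hKH : K ≤ Hd D d₁ := fun g hg => hCd d₁ h₁ g ((hK' g).1 hg).1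
  let ι : K →* Hd D d₁ := Subgroup.inclusion hKH
  let π₁ : K →* Subgroup.centralizer ({e} : Set (Cfsg.PSU 6 F 2)) :=
    (π.comp ι).codRestrict _ fun x => by
      rw [Subgroup.mem_centralizer_singleton_iff, ← hed]
      exact (Commute.map (show Commute (ι x) ⟨d₂, Subgroup.subset_closure hd₂⟩ from
        Subtype.ext ((hK' x).1 x.2).2.eq) π).eq
  have hπ₁ : Function.Surjective π₁ := fun t => by
    obtain ⟨x, hx⟩ := M.base.surj t.1
    have hte : Commute t.1 e := Subgroup.mem_centralizer_singleton_iff.1 t.2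
    have hfix : (x : G) * d₂ * (x : G)⁻¹ = d₂ := M.inj (M.conj_mem x hd₂) hd₂ (by
      rw [M.phi_conj x hd₂, hx]; exact cj_fix hte)
    exact ⟨⟨x, (hK' _).2 ⟨commute_of_mem_Hd x.2, cj_commute hfix⟩⟩, Subtype.ext hx⟩
  have hker₁ : ∀ x : K, (π₁ x : Cfsg.PSU 6 F 2) = 1 → (x : G) = 1 ∨ (x : G) = d₁ := fun x hx =>
    S.kernel h₁ ((hK' x).1 x.2).1 ((M.base.map_eq_one_iff' _).1 hx)
  have hπd₂ : (π₁ ⟨d₂, hd₂K⟩ : Cfsg.PSU 6 F 2) = e := hed
  have hVmem : ∀ x : K, ((π₁ x : Cfsg.PSU 6 F 2) = 1 ∨ (π₁ x : Cfsg.PSU 6 F 2) = e) → (x : G) ∈ V := by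
    rintro x (hx | hx)
    · rcases hker₁ x hx with h | h <;> rw [h, hVcases] <;> simp
    · have h := hker₁ (x * ⟨d₂, hd₂K⟩) (by rw [map_mul, Subgroup.coe_mul, hx, hπd₂, mul_self T.set heE])
      rw [show (x : G) = (x : G) * d₂ * d₂ by rw [mul_assoc, mul_self hs h₂, mul_one], hVcases]
      rcases h with h | h <;> rw [Subgroup.coe_mul] at h <;> rw [h] <;> simp
  obtain ⟨θ, hθ, hθcard, -, -, hfib, hcen⟩ := T.exists_perp_quot hF heE
  let θ' : K →* Cfsg.PSU 4 F 2 := θ.comp π₁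
  have hθ' : Function.Surjective θ' := hθ.comp hπ₁
  have h4 := CfsgLib.ThreeTrans.USix.card_psu_four hF
  have hker2 : Nat.card θ'.ker ≤ 2 ^ 10 := by
    have h1 : θ'.ker.map π₁ = θ.ker := by
      rw [show θ'.ker = θ.ker.comap π₁ from rfl, Subgroup.map_comap_eq_self_of_surjective hπ₁]
    have hk : Nat.card π₁.ker ≤ 2 := by
      refine (Nat.card_le_card_of_injective (fun x : π₁.ker => if (x : G) = 1 then true else false)
        fun x y hxy => ?_).trans (by simp)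
      rcases hker₁ x (congrArg Subtype.val x.2) with a | a <;>
        rcases hker₁ y (congrArg Subtype.val y.2) with b | b
      all_goals first
        | exact Subtype.ext (Subtype.ext (a.trans b.symm))
        | (simp [a, b, CfsgLib.ThreeTrans.ne_one hs h₁] at hxy)
    let f := (π₁.comp θ'.ker.subtype)
    have h := f.ker.card_mul_index
    rw [Subgroup.index_ker, show f.range = θ.ker by rw [← h1, MonoidHom.range_comp, Subgroup.range_subtype],
      hθcard] at h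
    have hfk : Nat.card f.ker ≤ Nat.card π₁.ker :=
      Nat.card_le_card_of_injective (fun x => (⟨x.1.1, x.2⟩ : π₁.ker)) fun x y hxy => by
        have := congrArg Subtype.val hxy
        exact Subtype.ext (Subtype.ext this)
    rw [← h, show (2 : ℕ) ^ 10 = 2 * 2 ^ 9 by norm_num]
    exact Nat.mul_le_mul (hfk.trans hk) le_rfl
  -- the normal subgroup
  set C := Subgroup.centralizer ({d₁ * d₂} : Set G) with hC
  obtain ⟨hKC, -, -, E, hVE, hEC, hEn, hcardE, hcomm, hEnorm, F', _, _, hF', ⟨eC⟩⟩ :=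
    Cfsg.Agent.S5469.result hD hprim d₀ hd₀ h3 h2 h22 d₁ d₂ h₁ h₂ hne hc K C V rfl hC rfl
  have hF'2 : Fintype.card F' = 2 ^ 2 := by rw [hF']; norm_num
  have h4' := CfsgLib.ThreeTrans.USix.card_psu_four hF'2
  haveI hsimple : IsSimpleGroup (Cfsg.PSU 4 F' 2) :=
    CfsgLib.ClassicalGroups.psu_isSimpleGroup hF'2 (by norm_num) (by norm_num)
  have hz4 : Subgroup.center (Cfsg.PSU 4 F' 2) = ⊥ := by
    refine (Subgroup.Normal.eq_bot_or_eq_top inferInstance).resolve_right fun h => ?_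
    letI : CommGroup (Cfsg.PSU 4 F' 2) := Group.commGroupOfCenterEqTop h
    have := IsSimpleGroup.prime_card (α := Cfsg.PSU 4 F' 2)
    rw [h4'] at this
    norm_num at this
  haveI : Finite (MulAut (Cfsg.PSU 4 F' 2)) :=
    Finite.of_injective (fun f => (f : Cfsg.PSU 4 F' 2 → Cfsg.PSU 4 F' 2)) DFunLike.coe_injective
  let Inn := (MulAut.conj : Cfsg.PSU 4 F' 2 →* MulAut (Cfsg.PSU 4 F' 2)).range
  have hInnInj : Function.Injective (MulAut.conj : Cfsg.PSU 4 F' 2 →* MulAut (Cfsg.PSU 4 F' 2)) := by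
    refine (injective_iff_map_eq_one _).2 fun g hg => ?_
    have : g ∈ Subgroup.center (Cfsg.PSU 4 F' 2) := Subgroup.mem_center_iff.2 fun x => by
      have := DFunLike.congr_fun hg x
      simp only [MulAut.conj_apply, MulAut.one_apply] at this
      exact (mul_inv_eq_iff_eq_mul.1 this).symm
    rwa [hz4, Subgroup.mem_bot] at this
  have hInn : Nat.card Inn = 25920 := by
    rw [Nat.card_congr (MonoidHom.ofInjective hInnInj).symm.toEquiv, h4']
  let ψ : C →* MulAut (Cfsg.PSU 4 F' 2) := eC.toMonoidHom.comp (QuotientGroup.mk' (E.subgroupOf C))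
  have hψs : Function.Surjective ψ := eC.surjective.comp (QuotientGroup.mk'_surjective _)
  have hψk : ∀ c : C, ψ c = 1 ↔ (c : G) ∈ E := fun c => by
    show eC (QuotientGroup.mk c) = 1 ↔ _
    rw [MulEquiv.map_eq_one_iff, QuotientGroup.eq_one_iff]; rfl
  have hE2 : IsPGroup 2 E := IsPGroup.of_card hcardE
  -- the image of the joint centraliser
  set KC := K.subgroupOf C with hKCdef
  set N₂ := (θ'.ker.map K.subtype).subgroupOf C with hN₂
  have hKn : KC.Normal := Subgroup.normal_of_index_eq_two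
    (Cfsg.Agent.S5469.result hD hprim d₀ hd₀ h3 h2 h22 d₁ d₂ h₁ h₂ hne hc K C V rfl hC rfl).2.1
  have hIK : Inn ≤ KC.map ψ := by
    haveI := hKn.map ψ hψs
    refine (inn_le_or_bot hz4 _ fun s m hm => this.conj_mem m hm _).resolve_left fun h => ?_
    have hsub : K ≤ E := fun k hk => (hψk ⟨k, hKC hk⟩).1 (by
      rw [← Subgroup.mem_bot, ← h]; exact ⟨_, hk, rfl⟩)
    have h' := Subgroup.card_dvd_of_surjective θ' hθ'
    have h'' := Subgroup.card_dvd_of_le hsub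
    rw [h4] at h'
    rw [hcardE] at h''
    have := Nat.le_of_dvd (by norm_num) (h'.trans h'')
    norm_num at this
  have hE2' : ∀ x : K, θ' x = 1 → (x : G) ∈ E := by
    have hM : ∀ s, ∀ m ∈ N₂.map ψ, MulAut.conj s * m * (MulAut.conj s)⁻¹ ∈ N₂.map ψ := by
      rintro s _ ⟨n, ⟨n₀, hn₀, hn⟩, rfl⟩
      obtain ⟨k, hk, e⟩ := hIK ⟨s, rfl⟩
      refine ⟨k * n * k⁻¹, ⟨⟨k, hk⟩ * n₀ * ⟨k, hk⟩⁻¹, (MonoidHom.normal_ker θ').conj_mem _ hn₀ _, ?_⟩, ?_⟩
      · simp only [Subgroup.coe_subtype, Subgroup.coe_mul, Subgroup.coe_inv] at hn ⊢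
        rw [hn]
      · rw [map_mul, map_mul, map_inv, e]
    have hbot : N₂.map ψ = ⊥ := (inn_le_or_bot hz4 _ hM).resolve_right fun h => by
      have e1 := Subgroup.card_le_of_le h
      have e2 : Nat.card (N₂.map ψ) ≤ Nat.card θ'.ker := by
        refine (Nat.le_of_dvd Nat.card_pos (Subgroup.card_map_dvd (H := N₂) ψ)).trans ?_
        rw [hN₂, Nat.card_congr (Subgroup.subgroupOfEquivOfLe ((Subgroup.map_subtype_le _).trans hKC)).toEquiv,
          Subgroup.card_map_of_injective Subtype.val_injective]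
      rw [hInn] at e1
      have := e1.trans (e2.trans hker2)
      norm_num at this
    intro x hx
    refine (hψk ⟨x, hKC x.2⟩).1 ?_
    rw [← Subgroup.mem_bot, ← hbot]
    exact ⟨_, ⟨x, hx, rfl⟩, rfl⟩
  have hθE : ∀ x : K, (x : G) ∈ E → θ' x = 1 := by
    intro x hx
    haveI : (E.subgroupOf K).Normal := ⟨fun n hn g => hEn g (hKC g.2) _ hn⟩
    haveI hn := Subgroup.Normal.map (inferInstance : (E.subgroupOf K).Normal) θ' hθ'
    haveI : IsSimpleGroup (Cfsg.PSU 4 F 2) :=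
      CfsgLib.ClassicalGroups.psu_isSimpleGroup hF (by norm_num) (by norm_num)
    rcases hn.eq_bot_or_eq_top with h | h
    · rw [← Subgroup.mem_bot, ← h]; exact ⟨x, hx, rfl⟩
    · have h' := Subgroup.card_map_dvd (H := E.subgroupOf K) θ'
      rw [h, Subgroup.card_top, h4] at h'
      have h'' : Nat.card (E.subgroupOf K) ∣ Nat.card E := by
        rw [← Subgroup.card_map_of_injective (K := E.subgroupOf K) K.subtype_injective,
          Subgroup.subgroupOf_map_subtype]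
        exact Subgroup.card_dvd_of_le inf_le_left
      have := Nat.le_of_dvd Nat.card_pos (h'.trans h'')
      rw [hcardE] at this
      norm_num at this
  have hEK : E ≤ K := by
    have h1 : θ'.ker.map K.subtype ≤ E := fun x ⟨y, hy, e⟩ => e ▸ hE2' y hy
    have h2' : Nat.card θ'.ker = 2 ^ 10 := by
      refine le_antisymm hker2 ?_
      let f := (π₁.comp θ'.ker.subtype)
      have hr : f.range = θ.ker := by
        rw [MonoidHom.range_comp, Subgroup.range_subtype, show θ'.ker = θ.ker.comap π₁ from rfl,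
          Subgroup.map_comap_eq_self_of_surjective hπ₁]
      have h := f.ker.card_mul_index
      rw [Subgroup.index_ker, hr, hθcard] at h
      have hd : ⟨d₁, hd₁K⟩ ∈ θ'.ker := by
        show θ (π₁ _) = 1
        rw [show π₁ ⟨d₁, hd₁K⟩ = 1 from Subtype.ext (by
          have : π (ι ⟨d₁, hd₁K⟩) ∈ Subgroup.center (Cfsg.PSU 6 F 2) := Subgroup.mem_center_iff.2 fun t => by
            obtain ⟨y, rfl⟩ := M.base.surj t
            exact (Commute.map (show Commute y (ι ⟨d₁, hd₁K⟩) from Subtype.ext (commute_of_mem_Hd y.2)) π).eq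
          rwa [psu_six_center hF, Subgroup.mem_bot] at this), map_one]
      have hk : 2 ≤ Nat.card f.ker := by
        have hfd : (⟨_, hd⟩ : θ'.ker) ∈ f.ker := Subtype.ext (by
          have : π (ι ⟨d₁, hd₁K⟩) ∈ Subgroup.center (Cfsg.PSU 6 F 2) := Subgroup.mem_center_iff.2 fun t => by
            obtain ⟨y, rfl⟩ := M.base.surj t
            exact (Commute.map (show Commute y (ι ⟨d₁, hd₁K⟩) from Subtype.ext (commute_of_mem_Hd y.2)) π).eq
          rwa [psu_six_center hF, Subgroup.mem_bot] at this)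
        have : Nontrivial f.ker := ⟨⟨⟨_, hfd⟩, 1, fun h => CfsgLib.ThreeTrans.ne_one hs h₁
          (congrArg (fun z : f.ker => ((z : θ'.ker) : G)) h)⟩⟩
        exact Finite.one_lt_card
      rw [← h, show (2 : ℕ) ^ 10 = 2 * 2 ^ 9 by norm_num]
      exact Nat.mul_le_mul hk le_rfl
    have := Subgroup.eq_of_le_of_card_ge h1 (by
      rw [hcardE, Subgroup.card_map_of_injective Subtype.val_injective, h2'])
    exact this ▸ Subgroup.map_subtype_le _
  -- orbits of the normal subgroup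
  have hEconj : ∀ x ∈ E, ∀ z ∈ P, x * z * x⁻¹ ∈ P := fun x hx z hz => by
    obtain ⟨x1, x2⟩ := (hK' x).1 (hEK hx)
    have m1 := conj_mem_Dd_conj D22.closed x hz.1
    have m2 := conj_mem_Dd_conj D22.closed x hz.2
    rw [cj_fix x1] at m1; rw [cj_fix x2] at m2
    exact ⟨m1, m2⟩
  have hcongr : ∀ x ∈ E, ∀ z ∈ P, z * (x * z * x⁻¹) ∈ E := fun x hx z hz => by
    rw [show z * (x * z * x⁻¹) = z * x * z⁻¹ * (z * z) * x⁻¹ by group, mul_self hs hz.1.1, mul_one]
    exact mul_mem (hEn z (hKC (hPK z hz)) x hx) (inv_mem hx)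
  have hclique : ∀ p q, p ∈ P → q ∈ P → p * q ∈ E → Commute p q := by
    intro p q hp hq hpq
    by_contra hn
    have h3' := pow_three_of_not_commute hs hp.1.1 hq.1.1 hn
    have h1 : orderOf (p * q) ∣ Nat.gcd 3 (2 ^ 10) := by
      refine Nat.dvd_gcd (orderOf_dvd_of_pow_eq_one h3') ?_
      rw [← hcardE, show orderOf (p * q) = orderOf (⟨p * q, hpq⟩ : E) from
        (Subgroup.orderOf_coe (⟨p * q, hpq⟩ : E))]
      exact orderOf_dvd_natCard _
    rw [show Nat.gcd 3 (2 ^ 10) = 1 by norm_num, Nat.dvd_one, orderOf_eq_one_iff] at h1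
    exact hn (by rw [eq_inv_of_mul_eq_one_left h1, inv_eq hs hq.1.1])
  have hKgen : ∀ x : K, (∀ y ∈ P, Commute (x : G) y) → (x : G) ∈ V := by
    intro x hx
    refine hVmem x (hcen (π₁ x) fun w => ?_)
    have hL := CfsgLib.ThreeTrans.USix.local_of_class hF T.set T.conj T.nonempty
    have hxe : Commute (π₁ x : Cfsg.PSU 6 F 2) e := Subgroup.mem_centralizer_singleton_iff.1 (π₁ x).2
    have hw := hL.stab e heE (w : Cfsg.PSU 6 F 2) (Subgroup.mem_centralizer_singleton_iff.1 w.2)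
    refine Subtype.ext (show Commute (π₁ x : Cfsg.PSU 6 F 2) w from ?_).eq
    generalize (w : Cfsg.PSU 6 F 2) = w' at hw ⊢
    induction hw using Subgroup.closure_induction with
    | mem z hz =>
      by_cases hze : z = e
      · rw [hze]; exact hxe
      obtain ⟨y, hy, rfl⟩ := M.onto hz.1
      have hyP : y ∈ P := ⟨hy, (M.mem_Dd hd₂ hy).1 ⟨hz.1, hze, hz.2⟩⟩
      rw [show phi π y = π (ι ⟨y, hPK y hyP⟩) from phi_of_mem π (x := ι ⟨y, hPK y hyP⟩) hy]
      exact Commute.map (show Commute (ι x) (ι ⟨y, hPK y hyP⟩) from Subtype.ext (hx y hyP).eq) π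
    | one => exact Commute.one_right _
    | mul p q _ _ hp hq => exact hp.mul_right hq
    | inv p _ hp => exact hp.inv_right
  have htrans : ∀ y ∈ P, ∀ y' ∈ P, ∃ g ∈ K, g * y * g⁻¹ = y' := by
    intro y hy y' hy'
    have hL := CfsgLib.ThreeTrans.USix.local_of_class hF T.set T.conj T.nonempty
    obtain ⟨t, hte, hty⟩ := hL.perp e heE _ ((M.mem_Dd hd₂ hy.1).2 hy.2) _ ((M.mem_Dd hd₂ hy'.1).2 hy'.2)
    obtain ⟨g, hg⟩ := hπ₁ ⟨t, Subgroup.mem_centralizer_singleton_iff.2 hte.eq⟩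
    refine ⟨g, g.2, M.inj (M.conj_mem (ι g) hy.1) hy'.1 ?_⟩
    have hgt : π (ι g) = t := congrArg Subtype.val hg
    exact (M.phi_conj (ι g) hy.1).trans (hgt ▸ hty)
  have hmove : ∀ y ∈ P, ∃ x ∈ E, x * y * x⁻¹ ≠ y := by
    intro y hy
    by_contra hno
    push Not at hno
    have hsub : E ≤ V := fun x hx => hKgen ⟨x, hEK hx⟩ fun y' hy' => by
      obtain ⟨g, hg, rfl⟩ := htrans y hy y' hy'
      have := hno _ (hEn g⁻¹ (inv_mem (hKC hg)) x hx)
      refine cj_commute ?_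
      calc x * (g * y * g⁻¹) * x⁻¹ = g * (g⁻¹ * x * g⁻¹⁻¹ * y * (g⁻¹ * x * g⁻¹⁻¹)⁻¹) * g⁻¹ := by group
        _ = g * y * g⁻¹ := by rw [this]
    have h' := Subgroup.card_le_of_le hsub
    have hV4 : Nat.card V ≤ 4 := by
      have : (V : Set G) ⊆ {1, d₁, d₂, d₁ * d₂} := fun v hv => by
        rcases (hVcases v).1 hv with (h | h) | h | h <;> simp [h]
      refine (Set.ncard_le_ncard this (Set.toFinite _)).trans ?_
      refine (Set.ncard_insert_le _ _).trans (Nat.succ_le_succ ((Set.ncard_insert_le _ _).trans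
        (Nat.succ_le_succ ((Set.ncard_insert_le _ _).trans (by simp)))))
    rw [hcardE] at h'
    norm_num at h'
    omega
  -- congruent members
  have hsame : ∀ p ∈ P, ∀ q ∈ P, ∀ (hp' : p ∈ K) (hq' : q ∈ K), p * q ∈ E → θ' ⟨p, hp'⟩ = θ' ⟨q, hq'⟩ := by
    intro p _ q hq hp' hq' hpq
    have h := hθE ⟨p * q, mul_mem hp' hq'⟩ hpq
    rw [show (⟨p * q, mul_mem hp' hq'⟩ : K) = ⟨p, hp'⟩ * ⟨q, hq'⟩ from rfl, map_mul] at h
    rw [eq_inv_of_mul_eq_one_left h, ← map_inv]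
    exact congrArg θ' (Subtype.ext (inv_eq hs hq.1.1))
  have hback : ∀ y ∈ P, ∀ z ∈ P, y * z ∈ E → z ≠ y → z ∈ restHex D d₁ d₂ y := by
    intro y hy z hz hyz hzy
    have hye : phi π y ∈ Dd Ecls e := (M.mem_Dd hd₂ hy.1).2 hy.2
    refine ⟨hz.1.1, hz.1.2.1, hz.2.2.1, hzy, fun u hu w1 w2 wy => ?_⟩
    by_cases e1 : u = d₁
    · exact e1 ▸ hz.1.2.2.symm
    have hud : u ∈ Dd D d₁ := ⟨hu, e1, w1.symm⟩
    have hpz : (π₁ ⟨z, hPK z hz⟩ : Cfsg.PSU 6 F 2) = phi π z :=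
      (phi_of_mem π (x := ι ⟨z, hPK z hz⟩) hz.1).symm
    have hpy : (π₁ ⟨y, hPK y hy⟩ : Cfsg.PSU 6 F 2) = phi π y :=
      (phi_of_mem π (x := ι ⟨y, hPK y hy⟩) hy.1).symm
    have h := hfib (π₁ ⟨y, hPK y hy⟩) (π₁ ⟨z, hPK z hz⟩) (hpy ▸ hye) (hpz ▸ (M.mem_Dd hd₂ hz.1).2 hz.2)
      (hsame y hy z hz _ _ hyz) (phi π u) (M.mem hud) ((M.comm hud hd₂).2 w2) (hpy ▸ (M.comm hud hy.1).2 wy)
    rw [hpz] at h
    exact ((M.comm hud hz.1).1 h).symm
  -- the rest of the six is the class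
  have hcyc : ∀ y ∈ P, ∃ τ z₁ z₂ z₃ : G, Commute τ d₁ ∧ Commute τ d₂ ∧ Commute τ y ∧ z₁ ≠ z₂ ∧ z₂ ≠ z₃ ∧
      z₁ ≠ z₃ ∧ restHex D d₁ d₂ y = {z₁, z₂, z₃} ∧ τ * z₁ * τ⁻¹ = z₂ ∧ τ * z₂ * τ⁻¹ = z₃ ∧ τ * z₃ * τ⁻¹ = z₁ := by
    intro y hy
    have hy₁ := hy.1
    have hye : phi π y ∈ Dd Ecls e := (M.mem_Dd hd₂ hy.1).2 hy.2
    obtain ⟨t, r₁, r₂, r₃, ht1, ht2, n12, n23, n13, hR, c12, c23, c31⟩ := T.exists_cycle hF heE hye
    obtain ⟨τ, hτ⟩ := hπ₁ ⟨t, Subgroup.mem_centralizer_singleton_iff.2 ht1.eq⟩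
    have hτπ : π (ι τ) = t := congrArg Subtype.val hτ
    obtain ⟨z₁, hz₁R, hz₁, rfl⟩ := restHex_bwd M hd₂ hy₁ (hR ▸ Set.mem_insert _ _ : r₁ ∈ _)
    obtain ⟨z₂, hz₂R, hz₂, rfl⟩ := restHex_bwd M hd₂ hy₁
      (hR ▸ Set.mem_insert_of_mem _ (Set.mem_insert _ _) : r₂ ∈ _)
    obtain ⟨z₃, hz₃R, hz₃, rfl⟩ := restHex_bwd M hd₂ hy₁
      (hR ▸ Set.mem_insert_of_mem _ (Set.mem_insert_of_mem _ rfl) : r₃ ∈ _)
    have hτz : ∀ {u v : G}, u ∈ Dd D d₁ → v ∈ Dd D d₁ → t * phi π u * t⁻¹ = phi π v →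
        (τ : G) * u * (τ : G)⁻¹ = v := fun {u v} hu hv h =>
      M.inj (M.conj_mem (ι τ) hu) hv ((M.phi_conj (ι τ) hu).trans (hτπ ▸ h))
    refine ⟨τ, z₁, z₂, z₃, ((hK' _).1 τ.2).1, ((hK' _).1 τ.2).2, cj_commute (hτz hy₁ hy₁ (cj_fix ht2)),
      fun h => n12 (congrArg (phi π) h), fun h => n23 (congrArg (phi π) h), fun h => n13 (congrArg (phi π) h),
      ?_, hτz hz₁ hz₂ c12, hτz hz₂ hz₃ c23, hτz hz₃ hz₁ c31⟩
    ext w
    constructor
    · intro hw
      obtain ⟨hwd, hwl⟩ := restHex_fwd M hd₂ hy₁ hw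
      rw [hR] at hwl
      rcases hwl with k | k | k
      · exact Or.inl (M.inj hwd hz₁ k)
      · exact Or.inr (Or.inl (M.inj hwd hz₂ k))
      · exact Or.inr (Or.inr (M.inj hwd hz₃ k))
    · rintro (rfl | rfl | rfl)
      exacts [hz₁R, hz₂R, hz₃R]
  have horb : ∀ y ∈ P, ∀ w ∈ restHex D d₁ d₂ y, ∃ x ∈ E, x * y * x⁻¹ = w := by
    intro y hy w hw
    obtain ⟨τ, z₁, z₂, z₃, τ1, τ2, τy, -, -, -, hR, c12, c23, c31⟩ := hcyc y hy
    have hτC : τ ∈ C := hKC ((hK' τ).2 ⟨τ1, τ2⟩)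
    have step : ∀ {u v : G}, τ * u * τ⁻¹ = v → (∃ x ∈ E, x * y * x⁻¹ = u) → ∃ x ∈ E, x * y * x⁻¹ = v := by
      rintro u v huv ⟨x, hx, rfl⟩
      refine ⟨τ * x * τ⁻¹, hEn τ hτC x hx, ?_⟩
      rw [← huv]
      calc τ * x * τ⁻¹ * y * (τ * x * τ⁻¹)⁻¹ = τ * x * (τ⁻¹ * y * τ⁻¹⁻¹) * x⁻¹ * τ⁻¹ := by group
        _ = τ * (x * y * x⁻¹) * τ⁻¹ := by rw [cj_fix τy.inv_left]; group
    obtain ⟨x, hx, hxy⟩ := hmove y hy
    have h0 := hback y hy _ (hEconj x hx y hy) (hcongr x hx y hy) hxy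
    rw [hR] at h0 hw
    have all : (∃ x ∈ E, x * y * x⁻¹ = z₁) ∧ (∃ x ∈ E, x * y * x⁻¹ = z₂) ∧ ∃ x ∈ E, x * y * x⁻¹ = z₃ := by
      rcases h0 with k | k | k
      · have a1 : ∃ x ∈ E, x * y * x⁻¹ = z₁ := ⟨x, hx, k⟩
        exact ⟨a1, step c12 a1, step c23 (step c12 a1)⟩
      · have a2 : ∃ x ∈ E, x * y * x⁻¹ = z₂ := ⟨x, hx, k⟩
        exact ⟨step c31 (step c23 a2), a2, step c23 a2⟩
      · have a3 : ∃ x ∈ E, x * y * x⁻¹ = z₃ := ⟨x, hx, k⟩
        exact ⟨step c31 a3, step c12 (step c31 a3), a3⟩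
    rcases hw with rfl | rfl | rfl
    exacts [all.1, all.2.1, all.2.2]
  have htwo : ∀ y ∈ P, ∃ y₁ ∈ P, ∃ y₂ ∈ P, y₁ ≠ y₂ ∧ y₁ ≠ y ∧ y₂ ≠ y ∧ y * y₁ ∈ E ∧ y * y₂ ∈ E := by
    intro y hy
    obtain ⟨τ, z₁, z₂, z₃, -, -, -, n12, -, -, hR, -, -, -⟩ := hcyc y hy
    have m1 : z₁ ∈ restHex D d₁ d₂ y := hR ▸ Or.inl rfl
    have m2 : z₂ ∈ restHex D d₁ d₂ y := hR ▸ Or.inr (Or.inl rfl)
    obtain ⟨x₁, hx₁, e₁⟩ := horb y hy _ m1
    obtain ⟨x₂, hx₂, e₂⟩ := horb y hy _ m2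
    exact ⟨z₁, e₁ ▸ hEconj x₁ hx₁ y hy, z₂, e₂ ▸ hEconj x₂ hx₂ y hy, n12, m1.2.2.2.1, m2.2.2.2.1,
      e₁ ▸ hcongr x₁ hx₁ y hy, e₂ ▸ hcongr x₂ hx₂ y hy⟩
  -- the products of congruent members
  let Sg : Set E := {s | ∃ p ∈ P, ∃ q ∈ P, p ≠ q ∧ (s : G) = p * q}
  set j : E := ⟨d₁ * d₂, hVE ((hVcases _).2 (by simp))⟩ with hjdef
  have hSg : ∀ s ∈ Sg, s * s = 1 ∧ ∀ x : E, s * x * s⁻¹ * x⁻¹ = 1 ∨ s * x * s⁻¹ * x⁻¹ = j := by
    rintro ⟨s, hsE⟩ ⟨p, hp, q, hq, hpq, hspq : s = p * q⟩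
    subst hspq
    have cpq := hclique p q hp hq hsE
    refine ⟨Subtype.ext ?_, fun x => ?_⟩
    · show p * q * (p * q) = 1
      rw [mul_assoc, ← mul_assoc q p, ← cpq.eq, mul_assoc, mul_self hs hq.1.1, mul_one, mul_self hs hp.1.1]
    obtain ⟨x, hx⟩ := x
    set p' := x * p * x⁻¹ with hp'def
    set q' := x * q * x⁻¹ with hq'def
    have hp' := hEconj x hx p hp
    have hq' := hEconj x hx q hq
    have c1 : p * p' ∈ E := hcongr x hx p hp
    have c2 : q * q' ∈ E := hcongr x hx q hq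
    have hsw : ∀ {a b : G}, a ∈ P → b ∈ P → a * b ∈ E → b * a ∈ E := fun {a b} ha hb h => by
      have := inv_mem h
      rwa [mul_inv_rev, inv_eq hs ha.1.1, inv_eq hs hb.1.1] at this
    have htr : ∀ {a b c : G}, b ∈ P → a * b ∈ E → b * c ∈ E → a * c ∈ E := fun {a b c} hb h h' => by
      have := mul_mem h h'
      rwa [mul_assoc a b, ← mul_assoc b b, mul_self hs hb.1.1, one_mul] at this
    have cpp : Commute p p' := hclique p p' hp hp' c1
    have cqq : Commute q q' := hclique q q' hq hq' c2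
    have c4 : p * q' ∈ E := htr hq hsE c2
    have cpq' : Commute p q' := hclique p q' hp hq' c4
    have c5 : q * p' ∈ E := htr hp (hsw hp hq hsE) c1
    have cqp : Commute q p' := hclique q p' hq hp' c5
    have cpq'' : Commute p' q' := (commute_conj_iff x p q).2 cpq
    have hpq' : p' ≠ q' := fun h => hpq (mul_left_cancel (mul_right_cancel h))
    have hval : ((⟨p * q, hsE⟩ : E) * ⟨x, hx⟩ * (⟨p * q, hsE⟩ : E)⁻¹ * (⟨x, hx⟩ : E)⁻¹ : E).1 =
        p * q * (p' * q') := by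
      show p * q * x * (p * q)⁻¹ * x⁻¹ = _
      rw [mul_inv_rev, inv_eq hs hp.1.1, inv_eq hs hq.1.1, ← cpq.eq, hp'def, hq'def]
      group
    have hv : p * q * (p' * q') ∈ V := by
      rw [← hval]
      exact (hcomm _ hsE _ hx).1
    rcases (hVcases _).1 hv with (h | h) | h | h
    · exact Or.inl (Subtype.ext (hval.trans h))
    · exact Or.inl (Subtype.ext (absurd h (five_ne hs r5 h₁ hp hq hp' hq' hpq hpq' cpq cpq'' cpp cqq cpq' cqp
        (fun z hz => hz.1) hnoV hv)))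
    · exact Or.inl (Subtype.ext (absurd h (five_ne hs r5 h₂ hp hq hp' hq' hpq hpq' cpq cpq'' cpp cqq cpq' cqp
        (fun z hz => hz.2) hnoV hv)))
    · exact Or.inr (Subtype.ext (hval.trans h))
  have hVc : ∀ v : E, (v : G) ∈ V → v ∈ Subgroup.center E := fun v hv => Subgroup.mem_center_iff.2 fun g => by
    refine Subtype.ext ?_
    obtain ⟨g1, g2⟩ := (hK' g).1 (hEK g.2)
    show (g : G) * v = v * g
    rcases (hVcases _).1 hv with (h | h) | h | h <;> rw [h]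
    exacts [(Commute.one_right _).eq, g1.eq, g2.eq, (g1.mul_right g2).eq]
  have hdual : ∀ x : E, (∀ s ∈ Sg, Commute s x) → (x : G) ∈ V := by
    intro x hx
    refine hKgen ⟨x, hEK x.2⟩ fun y hy => ?_
    obtain ⟨y₁, hy₁, y₂, hy₂, n12, n1, n2, e1, e2⟩ := htwo y hy
    have hc1 := hclique y y₁ hy hy₁ e1
    have hc2 := hclique y y₂ hy hy₂ e2
    refine cj_commute ?_
    have step : ∀ z ∈ P, z ≠ y → y * z ∈ E → Commute y z →
        (x : G) * y * (x : G)⁻¹ = y ∨ (x : G) * y * (x : G)⁻¹ = z := fun z hz nz ez cz => by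
      have h := congrArg Subtype.val (hx ⟨y * z, ez⟩ ⟨y, hy, z, hz, Ne.symm nz, rfl⟩).eq
      simp only [Subgroup.coe_mul] at h
      have e : (x : G) * y * (x : G)⁻¹ * ((x : G) * z * (x : G)⁻¹) = y * z := by
        rw [show (x : G) * y * (x : G)⁻¹ * ((x : G) * z * (x : G)⁻¹) = (x : G) * (y * z) * (x : G)⁻¹ by group, ← h,
          mul_inv_cancel_right]
      rcases Tower.pair_unique hs D22.rel hy.1.1 hz.1.1 (Ne.symm nz) cz (hEconj _ x.2 y hy).1.1
        (hEconj _ x.2 z hz).1.1 ((commute_conj_iff _ _ _).2 cz) e with ⟨u, -⟩ | ⟨u, -⟩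
      exacts [Or.inl u, Or.inr u]
    rcases step y₁ hy₁ n1 e1 hc1 with h | h
    · exact h
    rcases step y₂ hy₂ n2 e2 hc2 with h' | h'
    · exact h'
    exact absurd (h.symm.trans h') n12
  haveI : IsSimpleGroup (Cfsg.PSU 4 F 2) :=
    CfsgLib.ClassicalGroups.psu_isSimpleGroup hF (by norm_num) (by norm_num)
  have hz4' : Subgroup.center (Cfsg.PSU 4 F 2) = ⊥ := by
    refine (Subgroup.Normal.eq_bot_or_eq_top inferInstance).resolve_right fun h => ?_
    letI : CommGroup (Cfsg.PSU 4 F 2) := Group.commGroupOfCenterEqTop h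
    have := IsSimpleGroup.prime_card (α := Cfsg.PSU 4 F 2)
    rw [h4] at this
    norm_num at this
  haveI : Nontrivial (Cfsg.PSU 4 F' 2) := hsimple.toNontrivial
  have hcs := DualExtra.comm_sq (j := j) (S := Sg) (Subtype.ext (show d₁ * d₂ * (d₁ * d₂) = 1 by
      rw [mul_assoc, ← mul_assoc d₂ d₁, ← hc.eq, mul_assoc, mul_self hs h₂, mul_one, mul_self hs h₁]))
    (hVc j ((hVcases _).2 (by simp [hjdef])))
    (fun v hv => Subtype.ext (by
      have hv' := hdual v fun s _ => Subgroup.mem_center_iff.1 hv s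
      show (v : G) * v = 1
      rcases (hVcases _).1 hv' with (h | h) | h | h <;> rw [h]
      · simp
      · exact mul_self hs h₁
      · exact mul_self hs h₂
      · rw [mul_assoc, ← mul_assoc d₂ d₁, ← hc.eq, mul_assoc, mul_self hs h₂, mul_one, mul_self hs h₁]))
    hSg fun x hx => hVc x (hdual x hx)
  -- the subgroup is the one generated by these products
  have hEeq : hexGen D d₁ d₂ = E := by
    refine le_antisymm ((Subgroup.closure_le _).2 ?_) ?_
    · rintro t (h | ⟨y, hy, w, hw, rfl⟩)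
      · rcases h with rfl | rfl
        exacts [hVE ((hVcases _).2 (by simp)), hVE ((hVcases _).2 (by simp))]
      · obtain ⟨x, hx, e⟩ := horb y hy w hw
        exact e ▸ hcongr x hx y hy
    · have hjj : j * j = 1 := Subtype.ext (show d₁ * d₂ * (d₁ * d₂) = 1 by
        rw [mul_assoc, ← mul_assoc d₂ d₁, ← hc.eq, mul_assoc, mul_self hs h₂, mul_one, mul_self hs h₁])
      have htop := DualExtra.closure_eq_top (j := j) (S := Sg) hjj (fun s hs' => (hSg s hs').2)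
        fun x hx => hVc x (hdual x hx)
      intro x hx
      have hxm : (⟨x, hx⟩ : E) ∈ Subgroup.closure ((Subgroup.center E : Set E) ∪ Sg) := htop ▸ Subgroup.mem_top _
      have hle : Subgroup.closure ((Subgroup.center E : Set E) ∪ Sg) ≤ (hexGen D d₁ d₂).comap E.subtype := by
        rw [Subgroup.closure_le]
        rintro v (hv | ⟨p, hp, q, hq, hpq, hv⟩)
        · have hvV := hdual v fun s _ => Subgroup.mem_center_iff.1 hv s
          have g1 : d₁ ∈ hexGen D d₁ d₂ := Subgroup.subset_closure (Or.inl (by simp))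
          have g2 : d₂ ∈ hexGen D d₁ d₂ := Subgroup.subset_closure (Or.inl (by simp))
          show (v : G) ∈ hexGen D d₁ d₂
          rcases (hVcases _).1 hvV with (h | h) | h | h <;> rw [h]
          exacts [one_mem _, g1, g2, mul_mem g1 g2]
        · show (v : G) ∈ hexGen D d₁ d₂
          rw [hv]
          exact Subgroup.subset_closure (Or.inr ⟨p, hp, q, hback p hp q hq (hv ▸ v.2) (Ne.symm hpq), rfl⟩)
      exact hle hxm
  have hfix : ∀ q : MulAut G, q d₁ = d₁ → q d₂ = d₂ → (∀ y ∈ P, q y = y) →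
      ∃ v, (v = 1 ∨ v = d₁ ∨ v = d₂ ∨ v = d₁ * d₂) ∧ q = MulAut.conj v := by
    intro q q1 q2 qP
    have hLU := CfsgLib.ThreeTrans.USix.local_of_class hF T.set T.conj T.nonempty
    obtain ⟨p₀, hp₀, hep₀⟩ : ∃ p₀ ∈ Ecls, ¬ Commute e p₀ := by
      by_contra! h
      have hc' := mem_center_of_commute hLU.group.2.2 h
      rw [hLU.center, Subgroup.mem_bot] at hc'
      exact CfsgLib.ThreeTrans.ne_one T.set heE hc'
    obtain ⟨c₀, hc₀, rfl⟩ := M.onto hp₀
    have hcd : ¬ Commute d₂ c₀ := fun h => hep₀ ((M.comm hd₂ hc₀).2 h)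
    have hgen : ∀ (r : MulAut G), r d₁ = d₁ → r d₂ = d₂ → (∀ y ∈ P, r y = y) → r c₀ = c₀ →
        ∀ y ∈ Dd D d₁, r y = y := by
      intro r r1 r2 rP rc y hy
      by_cases h : Commute d₂ y
      · by_cases e' : y = d₂
        · rw [e', r2]
        · exact rP y ⟨hy, hy.1, e', h⟩
      obtain ⟨t, hte, hty⟩ := hLU.farT e heE _ (M.mem hc₀) _ (M.mem hy) hep₀ fun h' => h ((M.comm hd₂ hy).1 h')
      have ht := hLU.stab e heE t hte
      obtain ⟨g, hg, hgt⟩ : ∃ g ∈ Hd D d₁, ∃ h : g ∈ Hd D d₁, π ⟨g, h⟩ = t ∧ r g = g := by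
        clear hty hte
        induction ht using Subgroup.closure_induction with
        | mem z hz =>
          rcases Uniq.cD_cases hz.1 hz.2 with rfl | hz'
          · exact ⟨d₂, Subgroup.subset_closure hd₂, _, hed, r2⟩
          · obtain ⟨u, hu, rfl⟩ := M.onto hz'.1
            exact ⟨u, Subgroup.subset_closure hu, _, (phi_of_mem π (x := ⟨u, Subgroup.subset_closure hu⟩) hu).symm,
              rP u ⟨hu, (M.mem_Dd hd₂ hu).1 hz'⟩⟩
        | one => exact ⟨1, one_mem _, one_mem _, map_one π, map_one r⟩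
        | mul u v _ _ hu hv =>
          obtain ⟨g, hg, _, hgu, rg⟩ := hu
          obtain ⟨g', hg', _, hgv, rg'⟩ := hv
          exact ⟨g * g', mul_mem hg hg', mul_mem hg hg', by rw [← hgu, ← hgv, ← map_mul]; rfl,
            by rw [map_mul, rg, rg']⟩
        | inv u _ hu =>
          obtain ⟨g, hg, _, hgu, rg⟩ := hu
          exact ⟨g⁻¹, inv_mem hg, inv_mem hg, by rw [← hgu, ← map_inv]; rfl, by rw [map_inv, rg]⟩
      obtain ⟨hg', hgt, rg⟩ := hgt
      have : g * c₀ * g⁻¹ = y := M.inj (M.conj_mem ⟨g, hg'⟩ hc₀) hy (by rw [M.phi_conj ⟨g, hg'⟩ hc₀, hgt, hty])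
      rw [← this, map_mul, map_mul, map_inv, rg, rc]
    -- the first member
    have hqc : q c₀ ∈ Dd D d₁ := Uniq.mapsTo_Dd hD hprim h22 q q1 hc₀
    have hcases : q c₀ = c₀ ∨ q c₀ = d₂ * c₀ * d₂ := by
      have hne' : ¬ Commute e (phi π (q c₀)) := fun h => hcd (by
        have := ((M.comm hd₂ hqc).1 h).map q.symm
        rwa [MulEquiv.symm_apply_apply, q.symm_apply_eq.2 q2.symm] at this)
      rcases hLU.farTwins e heE _ (M.mem hc₀) _ (M.mem hqc) hep₀ hne' (fun u hu => by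
        obtain ⟨u', hu', rfl⟩ := M.onto hu.1
        rw [M.comm hc₀ hu', M.comm hqc hu']
        have hu'P : u' ∈ P := ⟨hu', (M.mem_Dd hd₂ hu').1 hu⟩
        constructor
        · intro h; have := h.map q; rwa [qP u' hu'P] at this
        · intro h
          have := h.map q.symm
          rwa [MulEquiv.symm_apply_apply, q.symm_apply_eq.2 (qP u' hu'P).symm] at this) with h | h
      · exact Or.inl (M.inj hqc hc₀ h)
      · refine Or.inr ?_
        have m := M.conj_mem ⟨d₂, Subgroup.subset_closure hd₂⟩ hc₀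
        rw [inv_eq hs h₂] at m
        refine M.inj hqc m ?_
        have := M.phi_conj ⟨d₂, Subgroup.subset_closure hd₂⟩ hc₀
        rw [inv_eq hs h₂, hed, inv_eq T.set heE] at this
        rw [h, this]
    obtain ⟨v, hv, hvc⟩ : ∃ v, (v = 1 ∨ v = d₂) ∧ (MulAut.conj v * q) c₀ = c₀ := by
      rcases hcases with h | h
      · exact ⟨1, Or.inl rfl, by simp [h]⟩
      · refine ⟨d₂, Or.inr rfl, ?_⟩
        rw [MulAut.mul_apply, h, MulAut.conj_apply, inv_eq hs h₂]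
        simp [mul_assoc, mul_self_mul hs h₂, mul_self hs h₂]
    have fixV : ∀ {z}, Commute v z → q z = z → (MulAut.conj v * q) z = z := fun {z} h hz => by
      rw [MulAut.mul_apply, hz, MulAut.conj_apply, cj_fix h]
    have v1 : Commute v d₁ := by rcases hv with rfl | rfl; exacts [Commute.one_left _, hc.symm]
    set r := MulAut.conj v * q with hr
    have r1 : r d₁ = d₁ := fixV v1 q1
    have r2 : r d₂ = d₂ := fixV (by rcases hv with rfl | rfl; exacts [Commute.one_left _, Commute.refl _]) q2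
    have rall := hgen r r1 r2 (fun y hy => fixV (by
      rcases hv with rfl | rfl; exacts [Commute.one_left _, hy.2.2.2]) (qP y hy)) hvc
    -- a member far from the first
    obtain ⟨x₁, hx₁, hdx₁⟩ := Uniq.exists_far hD h22.1 h₁
    have hrx : ¬ Commute d₁ (r x₁) := fun h => hdx₁ (by
      have := h.map r.symm
      rwa [MulEquiv.symm_apply_apply, r.symm_apply_eq.2 r1.symm] at this)
    obtain ⟨w, hw, hwx⟩ : ∃ w, (w = 1 ∨ w = d₁) ∧ (MulAut.conj w * r) x₁ = x₁ := by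
      rcases L.farTwins d₁ h₁ x₁ hx₁ _ (Uniq.mapsTo22 hD hprim h22 r hx₁) hdx₁ hrx (fun u hu => by
        constructor
        · intro h; have := h.map r; rwa [rall u hu] at this
        · intro h
          have := h.map r.symm
          rwa [MulEquiv.symm_apply_apply, r.symm_apply_eq.2 (rall u hu).symm] at this) with h | h
      · exact ⟨1, Or.inl rfl, by simp [h]⟩
      · refine ⟨d₁, Or.inr rfl, ?_⟩
        rw [MulAut.mul_apply, h, MulAut.conj_apply, inv_eq hs h₁]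
        simp [mul_assoc, mul_self_mul hs h₁, mul_self hs h₁]
    have hone := Uniq.auto_eq_one hD L h₁ hx₁ hdx₁ (MulAut.conj w * r)
      (by rw [MulAut.mul_apply, r1, MulAut.conj_apply, cj_fix (by rcases hw with rfl | rfl; exacts [Commute.one_left _, Commute.refl _])])
      (fun y hy => by rw [MulAut.mul_apply, rall y hy, MulAut.conj_apply, cj_fix (by rcases hw with rfl | rfl; exacts [Commute.one_left _, hy.2.2])])
      hwx
    refine ⟨v * w, ?_, ?_⟩
    · rcases hv with rfl | rfl <;> rcases hw with rfl | rfl <;> simp [hc.eq]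
    · rw [hr, ← mul_assoc, mul_eq_one_iff_inv_eq] at hone
      rw [← hone, ← map_mul, ← map_inv]
      congr 1
      rcases hv with rfl | rfl <;> rcases hw with rfl | rfl <;>
        simp [inv_eq hs h₁, inv_eq hs h₂, hc.eq]
  refine ⟨F, inferInstance, inferInstance, θ', ?_⟩
  refine ⟨hEeq ▸ hEK, hEeq ▸ hcardE, ?_, ?_, ?_, ?_, ?_, hcyc, hF, hθ', fun x => ?_, hfix, ?_, ?_⟩
  · intro x hx y hy
    rw [hEeq] at hx hy
    rcases (hcs ⟨x, hx⟩ ⟨y, hy⟩).1 with h | h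
    exacts [Or.inl (congrArg Subtype.val h), Or.inr (congrArg Subtype.val h)]
  · intro x hx
    rw [hEeq] at hx
    rcases (hcs ⟨x, hx⟩ ⟨x, hx⟩).2 with h | h
    exacts [Or.inl (congrArg Subtype.val h), Or.inr (congrArg Subtype.val h)]
  · intro x hx hcx
    rw [hEeq] at hx hcx
    rcases (hVcases x).1 (hdual ⟨x, hx⟩ fun s _ => Subtype.ext (hcx s s.2).eq.symm) with (h | h) | h | h <;> simp [h]
  · intro y hy w hw
    obtain ⟨x, hx, e'⟩ := horb y hy w hw
    refine ⟨e' ▸ hEconj x hx y hy, fun h => hw.2.2.2.1 h.symm,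
      hclique y w hy (e' ▸ hEconj x hx y hy) (e' ▸ hcongr x hx y hy), x, hEeq ▸ hx, e'⟩
  · intro y hy z hz h
    by_cases e' : z = y
    exacts [Or.inl e', Or.inr (hback y hy z hz (hEeq ▸ h) e')]
  · rw [hEeq]; exact ⟨hE2' x, hθE x⟩
  · intro c hcab hcρ
    rw [hEeq]
    have hcC : c ∈ C := Subgroup.mem_centralizer_singleton_iff.2 hcab.eq
    let N : Subgroup C :=
      { carrier := {x | ∀ k : K, θ' ⟨(x : G) * k * (x : G)⁻¹, by
          have := hKn.conj_mem ⟨k, hKC k.2⟩ k.2 x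
          exact this⟩ = θ' k}
        one_mem' := fun k => congrArg θ' (Subtype.ext (by simp))
        mul_mem' := fun {x y} hx hy k => by
          have h1 := hx ⟨(y : G) * k * (y : G)⁻¹, by
            have := hKn.conj_mem ⟨k, hKC k.2⟩ k.2 y
            exact this⟩
          rw [hy k] at h1
          rw [← h1]
          exact congrArg θ' (Subtype.ext (by show (x : G) * y * k * ((x : G) * y)⁻¹ = _; group))
        inv_mem' := fun {x} hx k => by
          have h1 := hx ⟨(x : G)⁻¹ * k * (x : G)⁻¹⁻¹, by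
            have := hKn.conj_mem ⟨k, hKC k.2⟩ k.2 x⁻¹
            exact this⟩
          refine h1.symm.trans (congrArg θ' (Subtype.ext ?_))
          show (x : G) * ((x : G)⁻¹ * k * (x : G)⁻¹⁻¹) * (x : G)⁻¹ = k
          group }
    have hKconj : ∀ (x : C) (k : K), (x : G) * k * (x : G)⁻¹ ∈ K := fun x k =>
      hKn.conj_mem ⟨k, hKC k.2⟩ k.2 x
    haveI : N.Normal := ⟨fun x hx y k => by
      have h1 := hx ⟨(y : G)⁻¹ * k * (y : G)⁻¹⁻¹, hKconj y⁻¹ k⟩
      have hm : ∀ k₁ k₂ : K, θ' k₁ = θ' k₂ → θ' ⟨_, hKconj y k₁⟩ = θ' ⟨_, hKconj y k₂⟩ := by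
        intro k₁ k₂ h
        have hd : θ' (k₁ * k₂⁻¹) = 1 := by rw [map_mul, map_inv, h, mul_inv_cancel]
        have hd' := hθE ⟨_, hKconj y (k₁ * k₂⁻¹)⟩ (hEn y y.2 _ (hE2' _ hd))
        rw [← mul_inv_eq_one, ← map_inv, ← map_mul, ← hd']
        exact congrArg θ' (Subtype.ext (by
          show (y : G) * k₁ * (y : G)⁻¹ * ((y : G) * k₂ * (y : G)⁻¹)⁻¹ =
            (y : G) * ((k₁ : G) * (k₂ : G)⁻¹) * (y : G)⁻¹
          group))
      have h2 := hm _ _ h1
      refine (congrArg θ' (Subtype.ext ?_)).trans (h2.trans (congrArg θ' (Subtype.ext ?_)))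
      · show (y : G) * x * (y : G)⁻¹ * k * ((y : G) * x * (y : G)⁻¹)⁻¹ =
          (y : G) * ((x : G) * ((y : G)⁻¹ * k * (y : G)⁻¹⁻¹) * (x : G)⁻¹) * (y : G)⁻¹
        group
      · show (y : G) * ((y : G)⁻¹ * k * (y : G)⁻¹⁻¹) * (y : G)⁻¹ = k
        group⟩
    have hcN : (⟨c, hcC⟩ : C) ∈ N := fun k => hcρ k _
    haveI hnN := Subgroup.Normal.map (inferInstance : N.Normal) ψ hψs
    rcases inn_le_or_bot hz4 _ (fun s m hm => hnN.conj_mem m hm _) with h | h
    · refine (hψk ⟨c, hcC⟩).1 ?_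
      rw [← Subgroup.mem_bot, ← h]; exact ⟨_, hcN, rfl⟩
    exfalso
    have hsub : ∀ k : K, ψ ⟨k, hKC k.2⟩ ∈ Inn → (k : G) ∈ E := by
      intro k hk
      obtain ⟨m, hm, hmk⟩ := h hk
      have hmE : (⟨k, hKC k.2⟩ : C) * m⁻¹ ∈ E.subgroupOf C :=
        (hψk ((⟨k, hKC k.2⟩ : C) * m⁻¹)).1 (by rw [map_mul, map_inv, hmk, mul_inv_cancel])
      have hmK : (m : G) ∈ K := by
        have := mul_mem (inv_mem (hEK hmE)) k.2
        simpa using this
      have hmc : θ' ⟨m, hmK⟩ ∈ Subgroup.center (Cfsg.PSU 4 F 2) := Subgroup.mem_center_iff.2 fun p => by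
        obtain ⟨k', rfl⟩ := hθ' p
        have h' := hm k'
        rw [show (⟨(m : G) * k' * (m : G)⁻¹, hKconj m k'⟩ : K) = ⟨m, hmK⟩ * k' * ⟨m, hmK⟩⁻¹ from rfl, map_mul,
          map_mul, map_inv, mul_inv_eq_iff_eq_mul] at h'
        exact h'.symm
      rw [hz4', Subgroup.mem_bot] at hmc
      have h' := mul_mem (show (k : G) * (m : G)⁻¹ ∈ E from hmE) (hE2' ⟨m, hmK⟩ hmc)
      simpa using h'
    obtain ⟨s, hs'⟩ : ∃ s : Cfsg.PSU 4 F' 2, s ≠ 1 := exists_ne 1
    obtain ⟨k, hk, hks⟩ := hIK ⟨s, rfl⟩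
    have : ψ k = 1 := (hψk k).2 (hsub ⟨k, hk⟩ (hks ▸ ⟨s, rfl⟩))
    exact hs' (hInnInj (by rw [map_one, ← this, hks]))
  · have h := ψ.ker.card_mul_index
    rw [Subgroup.index_ker, MonoidHom.range_eq_top.2 hψs, Subgroup.card_top,
      MinusSix.card_mulAut_psu_four hF'2, show ψ.ker = E.subgroupOf C from Subgroup.ext fun x => hψk x,
      Nat.card_congr (Subgroup.subgroupOfEquivOfLe hEC).toEquiv, hcardE] at h
    exact h.symm

end CfsgLib.ThreeTrans.PairCore
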