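import Mathlib
import Cfsg.Agent.Lib.ThreeTrans.Tower.UnitaryCount
import Cfsg.Agent.Lib.ThreeTrans.UnitarySixLines

/-! Involutions of `PSU(6,2)` are products of commuting transvections; they lift to involutions in a double cover. -/

set_option autoImplicit false
set_option linter.unusedSectionVars false

namespace CfsgLib.ThreeTrans.USix

open Matrix CfsgLib.ClassicalGroups
open CfsgLib.ThreeTrans.Tower (Dd_symm)

variable {F : Type*} [Field F] [Fintype F]

local notation "V" => Fin 6 → F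
local notation "𝕙" => Cfsg.hermForm 6 F 2
local notation "SU₆" => Cfsg.SU 6 F 2
local notation "PSU₆" => Cfsg.PSU 6 F 2

variable (hF : Fintype.card F = 2 ^ 2)
include hF

theorem exists_tclass : ∃ E : Set PSU₆, TClass E := by
  have htri : ∀ {v w : V} {A B : SU₆}, IsTvAt v A → IsTvAt w B →
      (A * B) ^ 2 = 1 ∨ (A * B) ^ 3 = 1 := by
    intro v w A B hA hB
    by_cases h : 𝕙 v w = 0
    · left
      rw [(commute_of_perp hF hA hB h).mul_pow, sq, sq, hA.sq hF, hB.sq hF, one_mul]
    · right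
      have hc := cube_eq_one hF h
      have h1 := hB.conj hF A
      have h2 := hA.conj hF B
      have e : A.1.1 *ᵥ w = (𝕙 v w ^ 2) • (B.1.1 *ᵥ v) := by
        rw [hA.apply, hB.apply, smul_add, smul_smul, ← pow_succ, hc, one_smul, herm_symm' hF v w]
        abel
      rw [e] at h1
      have h3 := h1.unique hF (h2.scale hF (pow_ne_zero 2 h))
      have hAi : A⁻¹ = A := inv_eq_of_mul_eq_one_right (hA.sq hF)
      have hBi : B⁻¹ = B := inv_eq_of_mul_eq_one_right (hB.sq hF)
      rw [hAi, hBi] at h3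
      calc (A * B) ^ 3 = A * B * A * (B * A * B) := by simp [pow_succ, mul_assoc]
        _ = (A * B * A) * (A * B * A) := by rw [h3]
        _ = 1 := by
          rw [show (A * B * A) * (A * B * A) = A * B * (A * A) * B * A by simp [mul_assoc], hA.sq hF, mul_one,
            mul_assoc A B B, hB.sq hF, mul_one, hA.sq hF]
  obtain ⟨A₀, hA₀⟩ := exists_tvAt hF (v₀_ne hF) (v₀_iso hF)
  refine ⟨(fun A : SU₆ => (QuotientGroup.mk A : PSU₆)) '' tvSet F, ⟨?_, ?_⟩, ?_, ⟨_, A₀, ⟨_, hA₀⟩, rfl⟩⟩
  · rintro _ ⟨A, ⟨v, hA⟩, rfl⟩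
    refine orderOf_eq_prime (by rw [sq, ← QuotientGroup.mk_mul, hA.sq hF, QuotientGroup.mk_one]) fun h => ?_
    have hz := (QuotientGroup.eq_one_iff A).1 h
    refine hA.ne_one hF (center_eq_one_of_fix hF hz hA.1 ?_)
    rw [hA.apply, hA.2.1, zero_smul, add_zero]
  · rintro _ ⟨A, ⟨v, hA⟩, rfl⟩ _ ⟨B, ⟨w, hB⟩, rfl⟩
    rcases htri hA hB with h | h
    · exact Or.inl (by rw [← QuotientGroup.mk_mul, ← QuotientGroup.mk_pow, h, QuotientGroup.mk_one])
    · exact Or.inr (by rw [← QuotientGroup.mk_mul, ← QuotientGroup.mk_pow, h, QuotientGroup.mk_one])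
  · rintro g _ ⟨A, ⟨v, hA⟩, rfl⟩
    obtain ⟨s, rfl⟩ := QuotientGroup.mk_surjective g
    exact ⟨s * A * s⁻¹, ⟨_, hA.conj hF s⟩, by simp⟩

/-- An involution is a product of transvections at orthogonal vectors. -/
theorem exists_decomp (s : SU₆) (hs : s * s = 1) :
    ∃ l : List SU₆, l.prod = s ∧ ∀ A ∈ l, ∃ v y : V, IsTvAt v A ∧ v = s.1.1 *ᵥ y + y := by
  classical
  induction hn : {x : V | s.1.1 *ᵥ x ≠ x}.ncard using Nat.strong_induction_on generalizing s with
  | _ n ih =>
  have h2 := two_eq_zero hF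
  have hss : ∀ x : V, s.1.1 *ᵥ (s.1.1 *ᵥ x) = x := fun x => by rw [← SU_mul_mulVec, hs, SU_one_mulVec]
  have hadj : ∀ x y : V, 𝕙 (s.1.1 *ᵥ x) y = 𝕙 x (s.1.1 *ᵥ y) := fun x y => by
    conv_lhs => rw [← hss y, herm_map]
  set N : V → V := fun x => s.1.1 *ᵥ x + x with hN
  have hNN : ∀ x y, 𝕙 (N x) (N y) = 0 := fun x y => by
    simp only [hN]
    rw [hermForm_add_left, hermForm_add_right hF, hermForm_add_right hF, herm_map, hadj]
    linear_combination (𝕙 x y + 𝕙 x (s.1.1 *ᵥ y)) * h2
  by_cases hone : ∀ x, N x = 0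
  · refine ⟨[], SU_ext fun x => ?_, by simp⟩
    rw [List.prod_nil, SU_one_mulVec]
    have := hone x
    simp only [hN] at this
    linear_combination (norm := module) this - vadd_self hF (s.1.1 *ᵥ x)
  obtain ⟨y, hy⟩ : ∃ y, 𝕙 (N y) y ≠ 0 := by
    by_contra! hall
    push Not at hone
    obtain ⟨x₀, hx₀⟩ := hone
    obtain ⟨t, ht'⟩ := exists_pairing_ne (q := 2) hF hx₀
    obtain ⟨w, hw0, hw1, hw⟩ := exists_omega hF
    have hbad : ∀ c : F, c ^ 2 * 𝕙 (N x₀) t + c * 𝕙 (N t) x₀ = 0 := fun c => by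
      have h := hall (x₀ + c • t)
      have e : N (x₀ + c • t) = N x₀ + c • N t := by
        simp only [hN]
        rw [Matrix.mulVec_add, Matrix.mulVec_smul]
        module
      rw [e, hermForm_add_left, hermForm_add_right hF, hermForm_add_right hF, hermForm_smul_left,
        hermForm_smul_left, hermForm_smul_right, hermForm_smul_right, hall, hall] at h
      linear_combination h
    have h1 := hbad 1
    have hwb := hbad w
    rw [ht'] at h1 hwb
    refine mul_ne_zero hw0 (sub_ne_zero.2 hw1) ?_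
    linear_combination hwb - w * h1
  set v := N y with hv
  have hv0 : v ≠ 0 := fun e => hy (by rw [e, hermForm_zero_left])
  obtain ⟨A, hA⟩ := exists_tvAt hF hv0 (hNN y y)
  have hsv : s.1.1 *ᵥ v = v := by
    simp only [hv, hN]; rw [Matrix.mulVec_add, hss, add_comm]
  have hcomm : s * A = A * s := by
    have h := hA.conj hF s
    rw [hsv] at h
    exact mul_inv_eq_iff_eq_mul.1 (h.unique hF hA)
  have hs' : s * A * (s * A) = 1 := by
    rw [mul_assoc, ← mul_assoc A, ← hcomm, mul_assoc s A, hA.sq hF, mul_one, hs]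
  have happ : ∀ x : V, (s * A).1.1 *ᵥ x + x = N x + 𝕙 x v • v := fun x => by
    rw [SU_mul_mulVec, hA.apply, Matrix.mulVec_add, Matrix.mulVec_smul, hsv]
    simp only [hN]; abel
  have hxv : ∀ x, 𝕙 x v = 𝕙 (N x) y := fun x => by
    simp only [hv, hN]
    rw [hermForm_add_right hF, hermForm_add_left, hadj]
  have hfix : ∀ x : V, s.1.1 *ᵥ x = x → (s * A).1.1 *ᵥ x = x := fun x hx => by
    have hN0 : N x = 0 := by simp only [hN]; rw [hx]; exact vadd_self hF x
    have := happ x
    rw [hxv, hN0, hermForm_zero_left, zero_smul, add_zero] at this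
    linear_combination (norm := module) this - vadd_self hF x
  have hy' : (s * A).1.1 *ᵥ y = y := by
    have h1 : 𝕙 v y = 1 := by
      have hsym : 𝕙 v y ^ 2 = 𝕙 v y := by
        rw [← herm_symm' hF v y, hxv, ← hv]
      exact (sq_eq_self_cases hF hsym).resolve_left hy
    have := happ y
    rw [hxv, ← hv, h1, one_smul, vadd_self hF] at this
    linear_combination (norm := module) this - vadd_self hF y
  have hlt : {x : V | (s * A).1.1 *ᵥ x ≠ x}.ncard < n := hn ▸ Set.ncard_lt_ncard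
    ⟨fun x hx h => hx (hfix x h), fun h => h (show s.1.1 *ᵥ y ≠ y from fun e => hy (by
      simp only [hv, hN]; rw [e, vadd_self hF, hermForm_zero_left])) hy'⟩ (Set.toFinite _)
  obtain ⟨l, hl, hmem⟩ := ih _ hlt (s * A) hs' rfl
  refine ⟨l ++ [A], ?_, ?_⟩
  · rw [List.prod_append, List.prod_singleton, hl, mul_assoc, hA.sq hF, mul_one]
  · intro B hB
    rcases List.mem_append.1 hB with hB | hB
    · obtain ⟨w, z, hw, rfl⟩ := hmem B hB
      refine ⟨_, z + 𝕙 z v • y, hw, ?_⟩
      rw [happ, Matrix.mulVec_add, Matrix.mulVec_smul]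
      simp only [hv, hN]
      module
    · rw [List.mem_singleton] at hB
      exact ⟨v, y, hB ▸ hA, by simp only [hv, hN]⟩

/-- An involution of the quotient is a product of pairwise commuting members of the class. -/
theorem TClass.exists_prod {E : Set PSU₆} (hE : TClass E) (x : PSU₆) (hx : x * x = 1) :
    ∃ l : List PSU₆, l.prod = x ∧ (∀ a ∈ l, a ∈ E) ∧ ∀ a ∈ l, ∀ b ∈ l, Commute a b := by
  obtain ⟨g, rfl⟩ := QuotientGroup.mk_surjective x
  have hz : g * g ∈ Subgroup.center SU₆ := (QuotientGroup.eq_one_iff _).1 hx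
  set s := g * (g * g) with hs
  have hs2 : s * s = 1 := by
    rw [hs]
    calc g * (g * g) * (g * (g * g)) = g * g * (g * g) * (g * g) := by simp [mul_assoc]
      _ = 1 := center_cube hF hz
  obtain ⟨l, hl, hmem⟩ := exists_decomp hF s hs2
  have hgs : (QuotientGroup.mk g : PSU₆) = QuotientGroup.mk s := QuotientGroup.eq.2 (by
    rw [hs, inv_mul_cancel_left]; exact hz)
  refine ⟨l.map fun A => (QuotientGroup.mk A : PSU₆), ?_, ?_, ?_⟩
  · rw [hgs, ← hl]
    exact (map_list_prod (QuotientGroup.mk' _) l).symm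
  · intro a ha
    obtain ⟨A, hA, rfl⟩ := List.mem_map.1 ha
    obtain ⟨v, -, hv, -⟩ := hmem A hA
    exact hE.hall hF hv
  · intro a ha b hb
    obtain ⟨A, hA, rfl⟩ := List.mem_map.1 ha
    obtain ⟨B, hB, rfl⟩ := List.mem_map.1 hb
    obtain ⟨v, y, hv, rfl⟩ := hmem A hA
    obtain ⟨w, z, hw, rfl⟩ := hmem B hB
    refine (commute_mk_iff hF hv hw).2 ?_
    have hadj : 𝕙 (s.1.1 *ᵥ y) z = 𝕙 y (s.1.1 *ᵥ z) := by
      have hz' : s.1.1 *ᵥ (s.1.1 *ᵥ z) = z := by rw [← SU_mul_mulVec, hs2, SU_one_mulVec]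
      conv_lhs => rw [← hz', herm_map]
    rw [hermForm_add_left, hermForm_add_right hF, hermForm_add_right hF, herm_map, hadj]
    linear_combination (𝕙 y z + 𝕙 y (s.1.1 *ᵥ z)) * two_eq_zero hF

theorem lift_sq {C : Type*} [Group C] {s : C} (l : List C) (hs : ∀ y ∈ l, y * y = s)
    (hc : ∀ a ∈ l, ∀ b ∈ l, Commute a b) : l.prod * l.prod = s ^ l.length := by
  induction l with
  | nil => simp
  | cons a t ih =>
    have hcom : Commute a t.prod := Commute.list_prod_right t a fun b hb => hc a (by simp) b (by simp [hb])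
    rw [List.prod_cons, List.length_cons, pow_succ', ← ih (fun y hy => hs y (by simp [hy]))
      (fun p hp q hq => hc p (by simp [hp]) q (by simp [hq])), ← hs a (by simp),
      mul_assoc a t.prod, ← mul_assoc t.prod a, ← hcom.eq, mul_assoc a t.prod t.prod, ← mul_assoc a a]

/-- In a central extension by a group of order two every involution is the image of an involution. -/
theorem lift_involution {C : Type*} [Group C] (φ : C →* PSU₆) (hφ : Function.Surjective φ) {d : C}
    (hd : d * d = 1) (hcen : ∀ g, Commute g d) (hker : ∀ g, φ g = 1 → g = 1 ∨ g = d) {x : PSU₆} (hx : x * x = 1) :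
    ∃ y : C, y * y = 1 ∧ φ y = x := by
  classical
  obtain ⟨E, hE⟩ := exists_tclass (F := F) hF
  have hL := local_of_class hF hE.set hE.conj hE.nonempty
  have hline : LineClass E := lineClass hF hE.set hE.conj hE.nonempty
  choose σ hσ using hφ
  have hEm : ∀ {a}, a ∈ E → a * a = 1 := fun {a} ha => mul_self hE.set ha
  have hsame : ∀ g g' : C, φ g = φ g' → g' = g ∨ g' = g * d := fun g g' h => by
    rcases hker (g⁻¹ * g') (by rw [map_mul, map_inv, h, inv_mul_cancel]) with k | k
    · exact Or.inl (inv_mul_eq_one.1 k).symm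
    · exact Or.inr (inv_mul_eq_iff_eq_mul.1 k)
  have hsq : ∀ g g' : C, φ g = φ g' → g' * g' = g * g := fun g g' h => by
    rcases hsame g g' h with rfl | rfl
    · rfl
    · rw [mul_assoc, ← mul_assoc d, ← (hcen g).eq, mul_assoc g d, hd, mul_one]
  have hcm : ∀ g g' p p' : C, φ g = φ g' → φ p = φ p' → Commute g p → Commute g' p' := fun g g' p p' h h' hgp => by
    rcases hsame g g' h with rfl | rfl <;> rcases hsame p p' h' with rfl | rfl
    exacts [hgp, hgp.mul_right (hcen _), hgp.mul_left (hcen _).symm,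
      (hgp.mul_right (hcen _)).mul_left ((hcen p).symm.mul_right (Commute.refl d))]
  have hprodφ : ∀ l : List PSU₆, φ (l.map σ).prod = l.prod := fun l => by
    rw [map_list_prod, List.map_map]
    congr 1
    exact (List.map_congr_left fun a _ => hσ a).trans (List.map_id _)
  -- lifts of commuting members commute
  have hcomm : ∀ a ∈ E, ∀ p ∈ E, Commute a p → Commute (σ a) (σ p) := by
    intro a ha p hp hap
    by_cases e : p = a
    · exact e ▸ Commute.refl _
    by_contra hnot
    have hall : ∀ q ∈ Dd E a, ¬ Commute (σ a) (σ q) := fun q hq hcq => hnot (by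
      obtain ⟨g, hg, hgq⟩ := hL.perp a ha q hq p ⟨hp, e, hap⟩
      have h := (commute_conj_iff (σ g) (σ a) (σ q)).2 hcq
      refine hcm _ _ _ _ ?_ ?_ h
      · rw [map_mul, map_mul, map_inv, hσ, hσ, hg.eq, mul_inv_cancel_right]
      · rw [map_mul, map_mul, map_inv, hσ, hσ, hgq, hσ])
    obtain ⟨u, A, hA, rfl⟩ := hE.rep hF ha
    obtain ⟨v, B, hB, rfl⟩ := hE.rep hF hp
    have hns := hA.not_smul hF hB (Ne.symm e)
    have huv : 𝕙 u v = 0 := (commute_mk_iff hF hA hB).1 hap
    obtain ⟨c, hli, hcc, huc, hvc⟩ := exists_third hF (li_pair_of_ne hA.1 hns) hA.2.1 hB.2.1 huv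
    obtain ⟨r, hr0, hrr, hru, hrv, hrc⟩ := exists_sep_three hF hli hA.2.1 hB.2.1 hcc huv huc hvc
    obtain ⟨C', hC⟩ := exists_tvAt hF (v := c) (fun h0 => hrc (by rw [h0, hermForm_zero_right hF])) hcc
    obtain ⟨R, hR⟩ := exists_tvAt hF hr0 hrr
    have cuc := (commute_mk_iff hF hA hC).2 huc
    have cvc := (commute_mk_iff hF hB hC).2 hvc
    have nrc : ¬ Commute (QuotientGroup.mk R : PSU₆) (QuotientGroup.mk C') := fun h =>
      hrc ((commute_mk_iff hF hR hC).1 h)
    have cru := (commute_mk_iff hF hR hA).2 hru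
    have crv := (commute_mk_iff hF hR hB).2 hrv
    have nvc : (QuotientGroup.mk B : PSU₆) ≠ QuotientGroup.mk C' := fun h => nrc (h ▸ crv)
    obtain ⟨p₁, p₂, p₃, hnd, hmem, hc5, hprod, -⟩ := hline.line _ hp _ (hE.hall hF hC) nvc cvc
    set l := [(QuotientGroup.mk B : PSU₆), QuotientGroup.mk C', p₁, p₂, p₃] with hl
    have hDd : ∀ q ∈ l, q ∈ Dd E (QuotientGroup.mk A) := fun q hq => ⟨hmem q hq, fun h => by
      subst h
      exact nrc (hline.five l hnd rfl hmem hc5 hprod _ hq _ (by simp [hl]) (Ne.symm e) _ (by simp [hl]) _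
        (hE.hall hF hR) cru crv),
      (hline.five l hnd rfl hmem hc5 hprod _ (by simp [hl]) _ (by simp [hl]) nvc _ hq _ ha hap cuc)⟩
    have hstep : ∀ q ∈ l, σ q * σ (QuotientGroup.mk A) * (σ q)⁻¹ = σ (QuotientGroup.mk A) * d := fun q hq => by
      have hq' := hDd q hq
      rcases hsame (σ (QuotientGroup.mk A)) (σ q * σ (QuotientGroup.mk A) * (σ q)⁻¹)
        (by rw [map_mul, map_mul, map_inv, hσ, hσ, ← hq'.2.2.eq, mul_inv_cancel_right]) with k | k
      · exact absurd (show Commute (σ q) (σ (QuotientGroup.mk A)) from mul_inv_eq_iff_eq_mul.1 k).symm (hall q hq')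
      · exact k
    have hp5 : ∀ m : List PSU₆, (∀ q ∈ m, q ∈ l) →
        (m.map σ).prod * σ (QuotientGroup.mk A) * (m.map σ).prod⁻¹ = σ (QuotientGroup.mk A) * d ^ m.length := by
      intro m hm
      induction m with
      | nil => simp
      | cons b t iht =>
        have h1 := iht fun q hq => hm q (by simp [hq])
        rw [List.map_cons, List.prod_cons, List.length_cons, _root_.mul_inv_rev,
          show σ b * (t.map σ).prod * σ (QuotientGroup.mk A) * ((t.map σ).prod⁻¹ * (σ b)⁻¹) =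
            σ b * ((t.map σ).prod * σ (QuotientGroup.mk A) * (t.map σ).prod⁻¹) * (σ b)⁻¹ by group, h1,
          show σ b * (σ (QuotientGroup.mk A) * d ^ t.length) * (σ b)⁻¹ =
            σ b * σ (QuotientGroup.mk A) * (σ b)⁻¹ * (σ b * d ^ t.length * (σ b)⁻¹) by group,
          hstep b (hm b (by simp)), ((hcen (σ b)).pow_right _).eq, mul_inv_cancel_right, mul_assoc, ← pow_succ']
    have h5 := hp5 l fun q hq => hq
    have hcen' : Commute (l.map σ).prod (σ (QuotientGroup.mk A)) := by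
      rcases hker _ ((hprodφ l).trans hprod) with k | k <;> rw [k]
      exacts [Commute.one_left _, (hcen _).symm]
    rw [hcen'.eq, mul_inv_cancel_right, show l.length = 5 from rfl, left_eq_mul] at h5
    have hd1 : d = 1 := by
      simpa [pow_succ, mul_assoc, hd] using h5
    refine hnot ?_
    rcases hsame (σ (QuotientGroup.mk A)) (σ (QuotientGroup.mk B) * σ (QuotientGroup.mk A) * (σ (QuotientGroup.mk B))⁻¹)
      (by rw [map_mul, map_mul, map_inv, hσ, hσ, ← hap.eq, mul_inv_cancel_right]) with k | k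
    · exact (show Commute (σ (QuotientGroup.mk B)) _ from mul_inv_eq_iff_eq_mul.1 k).symm
    · rw [hd1, mul_one] at k
      exact (show Commute (σ (QuotientGroup.mk B)) _ from mul_inv_eq_iff_eq_mul.1 k).symm
  -- lifts of members are involutions
  have hinv : ∀ a ∈ E, σ a * σ a = 1 := by
    intro a ha
    have hconst : ∀ b ∈ E, σ b * σ b = σ a * σ a := fun b hb => by
      obtain ⟨g, hg⟩ := hL.rigid.class_eq a ha b hb
      rw [hsq (σ g * σ a * (σ g)⁻¹) (σ b) (by rw [map_mul, map_mul, map_inv, hσ, hσ, hσ, hg]),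
        show σ g * σ a * (σ g)⁻¹ * (σ g * σ a * (σ g)⁻¹) = σ g * (σ a * σ a) * (σ g)⁻¹ by group]
      rcases hker (σ a * σ a) (by rw [map_mul, hσ, hEm ha]) with k | k <;> rw [k]
      · simp
      · rw [(hcen _).eq, mul_inv_cancel_right]
    obtain ⟨u, A, hA, rfl⟩ := hE.rep hF ha
    obtain ⟨b, hb, hb'⟩ : ∃ b ∈ E, b ≠ (QuotientGroup.mk A : PSU₆) ∧ Commute (QuotientGroup.mk A : PSU₆) b := by
      obtain ⟨b, hb⟩ := Set.nonempty_of_ncard_ne_zero (s := Dd E (QuotientGroup.mk A : PSU₆))
        (by rw [hL.deg _ ha]; norm_num)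
      exact ⟨b, hb.1, hb.2⟩
    obtain ⟨p₁, p₂, p₃, -, hmem, hc5, hprod, -⟩ := hline.line _ ha b hb hb'.1.symm hb'.2
    set l := [(QuotientGroup.mk A : PSU₆), b, p₁, p₂, p₃] with hl
    have h := lift_sq (s := σ (QuotientGroup.mk A) * σ (QuotientGroup.mk A)) hF (l.map σ)
      (fun y hy => by obtain ⟨q, hq, rfl⟩ := List.mem_map.1 hy; exact hconst q (hmem q hq))
      (fun p hp q hq => by
        obtain ⟨p', hp', rfl⟩ := List.mem_map.1 hp
        obtain ⟨q', hq', rfl⟩ := List.mem_map.1 hq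
        exact hcomm _ (hmem p' hp') _ (hmem q' hq') (hc5 _ hp' _ hq'))
    have h1 : (l.map σ).prod * (l.map σ).prod = 1 := by
      rcases hker _ ((hprodφ l).trans hprod) with k | k <;> rw [k]
      exacts [one_mul 1, hd]
    rw [h1, List.length_map, show l.length = 5 from rfl] at h
    rcases hker (σ (QuotientGroup.mk A) * σ (QuotientGroup.mk A)) (by rw [map_mul, hσ, hEm ha]) with k | k
    · exact k
    · rw [k] at h
      rw [k]
      simpa [pow_succ, mul_assoc, hd] using h.symm
  obtain ⟨l, hlprod, hlE, hlc⟩ := hE.exists_prod hF x hx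
  refine ⟨(l.map σ).prod, ?_, (hprodφ l).trans hlprod⟩
  rw [lift_sq (s := (1 : C)) hF (l.map σ) (fun y hy => by
      obtain ⟨q, hq, rfl⟩ := List.mem_map.1 hy; exact hinv q (hlE q hq))
    (fun p hp q hq => by
      obtain ⟨p', hp', rfl⟩ := List.mem_map.1 hp
      obtain ⟨q', hq', rfl⟩ := List.mem_map.1 hq
      exact hcomm _ (hlE p' hp') _ (hlE q' hq') (hlc _ hp' _ hq')), one_pow]

end CfsgLib.ThreeTrans.USix
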